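import Cfsg.Agent.Lib.Local.FS.PrimeResidualNormal
import Cfsg.Agent.Lib.Local.FS.InvariantCriterion
import Cfsg.Agent.Lib.Local.FS.Sub
import Cfsg.Agent.Lib.Local.FS.Meet.Part

/-!
The product of a normal subsystem with a subgroup above its base: the generated maps.
-/

set_option autoImplicit false

namespace Cfsg.Agent.Local.FS.Balance

open Cfsg Cfsg.FusionSystem Cfsg.Agent.Fusion Cfsg.Agent.Local.FS

variable {Ω : Type*} [Group Ω] {S T : Subgroup Ω} {F : FusionSystem S} {E : FusionSystem T}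
  {A A' Y Y' P Q R : Subgroup Ω} {f g β : Ω → Ω} {p : ℕ}

/-- A normal subsystem. -/
structure Ctx (F : FusionSystem S) (E : FusionSystem T) (p : ℕ) : Prop where
  pS : IsPGroup p S
  sat : F.IsSaturated p
  n : E.IsNormalIn F p

/-- The automorphisms generating the product: of order prime to `p`, in `E` on a centric intersection with `T`,
trivial modulo `T`. -/
def Ctx.Hk (_c : Ctx F E p) (Y P : Subgroup Ω) (α : MulAut P) : Prop :=
  P ≤ Y ∧ E.IsCentric (P ⊓ T) ∧ α ∈ F.autGroup P ∧ (orderOf α).Coprime p ∧ Map E (P ⊓ T) (av α) ∧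
    ∀ x ∈ P, x⁻¹ * av α x ∈ T

/-- The maps generated by conjugations from `A` and the generating automorphisms inside `Y`. -/
def Ctx.KMap (c : Ctx F E p) (A Y P : Subgroup Ω) (f : Ω → Ω) : Prop :=
  Map F P f ∧ P ≤ Y ∧ ∀ K : Subgroup Ω → (Ω → Ω) → Prop, IsClosedClass F K →
    (∀ (Q : Subgroup Ω) (y : Ω), Q ≤ Y → y ∈ A → K Q (fun x => y * x * y⁻¹)) →
    (∀ (Q : Subgroup Ω) (α : MulAut Q), c.Hk Y Q α → K Q (av α)) → K P f

variable (c : Ctx F E p)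
include c

theorem Ctx.inv : E.IsInvariantIn F := c.n.1.2.2

theorem Ctx.tC : F.StronglyClosed T := c.inv.2.1

theorem Ctx.tS : T ≤ S := c.tC.1

theorem Ctx.eSat : E.IsSaturated p := c.n.1.1

theorem Ctx.finT [Finite S] : Finite T := finite_of_le c.tS

theorem Ctx.pT : IsPGroup p T := c.pS.to_le c.tS

theorem Ctx.im_inf (hf : Map F P f) : im P f ⊓ T = im (P ⊓ T) f := by
  refine le_antisymm (fun y hy => ?_) (le_inf (im_mono inf_le_left)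
    (im_le_iff.2 fun x hx => stronglyClosed_map c.tC hf hx.1 hx.2))
  obtain ⟨k, hk, hkf, -, -⟩ := hf.exists_inv
  obtain ⟨x, hx, rfl⟩ := hf.mem_im.1 hy.1
  refine mem_im_of_mem ⟨hx, ?_⟩
  rw [← hkf x hx]
  exact stronglyClosed_map c.tC hk hy.1 hy.2

theorem Ctx.kmap_congr (h : c.KMap A Y P f) (he : ∀ x ∈ P, f x = g x) : c.KMap A Y P g :=
  ⟨h.1.congr he, h.2.1, fun K hK h1 h2 => hK.congr (h.2.2 K hK h1 h2) he⟩

theorem Ctx.kmap_restrict (h : c.KMap A Y P f) (hR : R ≤ P) : c.KMap A Y R f :=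
  ⟨h.1.restrict hR, hR.trans h.2.1, fun K hK h1 h2 => hK.restrict h.1 (h.2.2 K hK h1 h2) hR⟩

theorem Ctx.kmap_comp (h : c.KMap A Y P f) (h' : c.KMap A Y Q g) (hm : ∀ x ∈ P, f x ∈ Q) :
    c.KMap A Y P (g ∘ f) :=
  ⟨h.1.comp h'.1 hm, h.2.1, fun K hK h1 h2 => hK.comp h.1 h'.1 (h.2.2 K hK h1 h2) (h'.2.2 K hK h1 h2) hm⟩

theorem Ctx.kmap_conjBy (hY : Y ≤ S) (hAY : A ≤ Y) (hP : P ≤ Y) {y : Ω} (hy : y ∈ A) :
    c.KMap A Y P (fun x => y * x * y⁻¹) :=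
  ⟨map_conjBy (hP.trans hY) (hY (hAY hy)), hP, fun _ _ h1 _ => h1 P y hP hy⟩

theorem Ctx.kmap_id (hY : Y ≤ S) (hAY : A ≤ Y) (hP : P ≤ Y) : c.KMap A Y P id :=
  c.kmap_congr (c.kmap_conjBy hY hAY hP A.one_mem) fun x _ => by simp

theorem Ctx.kmap_hk [Finite S] (hY : Y ≤ S) {α : MulAut P} (h : c.Hk Y P α) : c.KMap A Y P (av α) :=
  ⟨map_of_mem_autGroup (h.1.trans hY) h.2.2.1, h.1, fun _ _ _ h2 => h2 P α h⟩

/-- Induction over the generated maps, with the maps staying inside `Y`. -/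
theorem Ctx.kmap_ind [Finite S] {C : Subgroup Ω → (Ω → Ω) → Prop} (hY : Y ≤ S) (hAY : A ≤ Y)
    (congr : ∀ {P f g}, C P f → (∀ x ∈ P, f x = g x) → C P g)
    (restrict : ∀ {P R f}, Map F P f → P ≤ Y → C P f → R ≤ P → C R f)
    (comp : ∀ {P Q f g}, Map F P f → Map F Q g → P ≤ Y → Q ≤ Y →
      C P f → C Q g → (∀ x ∈ P, f x ∈ Q) → C P (g ∘ f))
    (inv : ∀ {P f g}, Map F P f → P ≤ Y → (∀ x ∈ P, f x ∈ Y) → C P f →
      (∀ x ∈ P, g (f x) = x) → C (im P f) g)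
    (conj : ∀ (Q : Subgroup Ω) (y : Ω), Q ≤ Y → y ∈ A → C Q (fun x => y * x * y⁻¹))
    (gen : ∀ (Q : Subgroup Ω) (α : MulAut Q), c.Hk Y Q α → C Q (av α))
    (h : c.KMap A Y P f) : (∀ x ∈ P, f x ∈ Y) ∧ C P f := by
  refine (h.2.2 (fun P f => Map F P f ∧ P ≤ Y ∧ (∀ x ∈ P, f x ∈ Y) ∧ C P f) ⟨?_, ?_, ?_, ?_⟩
    (fun Q y hQ hy => ⟨map_conjBy (hQ.trans hY) (hY (hAY hy)), hQ,
      fun x hx => Y.mul_mem (Y.mul_mem (hAY hy) (hQ hx)) (Y.inv_mem (hAY hy)), conj Q y hQ hy⟩)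
    (fun Q α hα => ⟨map_of_mem_autGroup (hα.1.trans hY) hα.2.2.1, hα.1, fun x hx => hα.1 (av_mem α hx),
      gen Q α hα⟩)).2.2
  · rintro P f g ⟨hf, hP, hm, hC⟩ he
    exact ⟨hf.congr he, hP, fun x hx => he x hx ▸ hm x hx, congr hC he⟩
  · rintro P R f - ⟨hf, hP, hm, hC⟩ hR
    exact ⟨hf.restrict hR, hR.trans hP, fun x hx => hm x (hR hx), restrict hf hP hC hR⟩
  · rintro P Q f g - - ⟨hf, hP, hm, hC⟩ ⟨hg, hQ, hm', hC'⟩ hmQ
    exact ⟨hf.comp hg hmQ, hP, fun x hx => hm' _ (hmQ x hx), comp hf hg hP hQ hC hC' hmQ⟩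
  · rintro P f g - ⟨hf, hP, hm, hC⟩ hg
    obtain ⟨k, hk, hkf, -, -⟩ := hf.exists_inv
    refine ⟨hk.congr fun y hy => ?_, im_le_iff.2 hm, fun y hy => ?_, inv hf hP hm hC hg⟩
    · obtain ⟨x, hx, rfl⟩ := hf.mem_im.1 hy
      rw [hkf x hx, hg x hx]
    · obtain ⟨x, hx, rfl⟩ := hf.mem_im.1 hy
      rw [hg x hx]
      exact hP hx

theorem Ctx.kmap_mem [Finite S] (hY : Y ≤ S) (hAY : A ≤ Y) (h : c.KMap A Y P f) {x : Ω} (hx : x ∈ P) :
    f x ∈ Y :=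
  (c.kmap_ind (C := fun _ _ => True) hY hAY (fun _ _ => trivial) (fun _ _ _ _ => trivial)
    (fun _ _ _ _ _ _ _ => trivial) (fun _ _ _ _ _ => trivial) (fun _ _ _ _ => trivial) (fun _ _ _ => trivial) h).1 x hx

theorem Ctx.kmap_inv (h : c.KMap A Y P f) (hm : ∀ x ∈ P, f x ∈ Y) (hg : ∀ x ∈ P, g (f x) = x) :
    c.KMap A Y (im P f) g := by
  refine ⟨?_, im_le_iff.2 hm, fun K hK h1 h2 => hK.inv h.1 (h.2.2 K hK h1 h2) hg⟩
  obtain ⟨k, hk, hkf, -, -⟩ := h.1.exists_inv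
  refine hk.congr fun y hy => ?_
  obtain ⟨x, hx, rfl⟩ := h.1.mem_im.1 hy
  rw [hkf x hx, hg x hx]

theorem Ctx.kmap_exists_inv [Finite S] (hY : Y ≤ S) (hAY : A ≤ Y) (h : c.KMap A Y P f) :
    ∃ k, c.KMap A Y (im P f) k ∧ (∀ x ∈ P, k (f x) = x) ∧ (∀ y ∈ im P f, f (k y) = y ∧ k y ∈ P) ∧
      im (im P f) k = P := by
  obtain ⟨k, -, hkf, hfk, hki⟩ := h.1.exists_inv
  exact ⟨k, c.kmap_inv h (fun _ hx => c.kmap_mem hY hAY h hx) hkf, hkf, hfk, hki⟩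

variable [Finite S]

theorem Ctx.centric_im (hQ : E.IsCentric Q) (hg : Map F Q g) : E.IsCentric (im Q g) := by
  refine ⟨im_le_iff.2 fun x hx => stronglyClosed_map c.tC hg hx (hQ.1 hx), fun R hR => ?_⟩
  obtain ⟨f, hf, rfl⟩ := isConj_iff.1 hR
  rw [← hg.im_comp]
  exact centric_sub c.inv hQ (hg.comp (hf.of_sub c.inv.1) fun x hx => mem_im_of_mem hx)

theorem Ctx.kmap_mono (hAA : A ≤ A') (hYY : Y ≤ Y') (hY' : Y' ≤ S) (hA' : A' ≤ Y') (hAY : A ≤ Y)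
    (h : c.KMap A Y P f) : c.KMap A' Y' P f :=
  (c.kmap_ind (C := fun P f => c.KMap A' Y' P f) (hYY.trans hY') hAY (fun h he => c.kmap_congr h he)
    (fun _ _ h hR => c.kmap_restrict h hR) (fun _ _ _ _ h h' hm => c.kmap_comp h h' hm)
    (fun _ _ hm h hg => c.kmap_inv h (fun x hx => hYY (hm x hx)) hg)
    (fun Q y hQ hy => c.kmap_conjBy hY' hA' (hQ.trans hYY) (hAA hy))
    (fun Q α hα => c.kmap_hk hY' ⟨hα.1.trans hYY, hα.2⟩) h).2

/-- Without conjugations outside `T` the maps are trivial modulo `T`. -/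
theorem Ctx.kmap_shift (hY : Y ≤ S) (hT : T ≤ Y) (h : c.KMap T Y P f) {x : Ω} (hx : x ∈ P) :
    x⁻¹ * f x ∈ T := by
  refine (c.kmap_ind (C := fun P f => ∀ x ∈ P, x⁻¹ * f x ∈ T) hY hT (fun h he x hx => he x hx ▸ h x hx)
    (fun _ _ h hR x hx => h x (hR hx)) (fun {P Q f g} _ _ _ _ h h' hm x hx => ?_)
    (fun {P f g} hf _ _ h hg y hy => ?_) (fun Q t hQ ht x hx => ?_) (fun Q α hα => hα.2.2.2.2.2) h).2 x hx
  · have := T.mul_mem (h x hx) (h' _ (hm x hx))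
    show x⁻¹ * g (f x) ∈ T
    simpa [mul_assoc] using this
  · obtain ⟨x, hx, rfl⟩ := hf.mem_im.1 hy
    rw [hg x hx]
    simpa using T.inv_mem (h x hx)
  · have h1 := T.mul_mem (stronglyClosed_conj_mem c.tC (S.inv_mem ((hQ.trans hY) hx)) ht) (T.inv_mem ht)
    simpa [mul_assoc] using h1

/-- The maps of `Y'` on subgroups of a smaller `Y` are maps of `Y`. -/
theorem Ctx.kmap_down (hY' : Y' ≤ S) (hT : T ≤ Y) (hYY : Y ≤ Y') (h : c.KMap T Y' P f) (hP : P ≤ Y) :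
    c.KMap T Y P f := by
  have hY := hYY.trans hY'
  refine ((c.kmap_ind (C := fun P f => (∀ x ∈ P, x⁻¹ * f x ∈ T) ∧ ∀ R, R ≤ P → R ≤ Y → c.KMap T Y R f)
    hY' (hT.trans hYY) (fun {P f g} h he => ⟨fun x hx => he x hx ▸ h.1 x hx,
      fun R hR hRY => c.kmap_congr (h.2 R hR hRY) fun x hx => he x (hR hx)⟩)
    (fun _ _ h hR => ⟨fun x hx => h.1 x (hR hx), fun R' h1 h2 => h.2 R' (h1.trans hR) h2⟩)
    (fun {P Q f g} hf hg _ _ h h' hm => ?_) (fun {P f g} hf _ _ h hg => ?_) (fun Q t hQ ht => ?_)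
    (fun Q α hα => ?_) h).2).2 P le_rfl hP
  · refine ⟨fun x hx => ?_, fun R hR hRY => ?_⟩
    · have := T.mul_mem (h.1 x hx) (h'.1 _ (hm x hx))
      show x⁻¹ * g (f x) ∈ T
      simpa [mul_assoc] using this
    · have hfR := h.2 R hR hRY
      refine c.kmap_comp hfR (h'.2 (im R f) (im_le_iff.2 fun x hx => hm x (hR hx)) (im_le_iff.2 fun x hx => ?_))
        fun x hx => mem_im_of_mem hx
      exact c.kmap_mem hY hT hfR hx
  · refine ⟨fun y hy => ?_, fun R hR hRY => ?_⟩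
    · obtain ⟨x, hx, rfl⟩ := hf.mem_im.1 hy
      rw [hg x hx]
      simpa using T.inv_mem (h.1 x hx)
    obtain ⟨k, hk, hkf, hfk, -⟩ := hf.exists_inv
    have hgk : ∀ y ∈ im P f, g y = k y := fun y hy => by
      obtain ⟨x, hx, rfl⟩ := hf.mem_im.1 hy
      rw [hg x hx, hkf x hx]
    have hR0 : im R k ≤ P := im_le_iff.2 fun y hy => (hfk y (hR hy)).2
    have hR0Y : im R k ≤ Y := im_le_iff.2 fun y hy => by
      have h1 := h.1 _ (hfk y (hR hy)).2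
      rw [(hfk y (hR hy)).1] at h1
      have := Y.mul_mem (hRY hy) (Y.inv_mem (hT h1))
      simpa using this
    have hfR := h.2 _ hR0 hR0Y
    have hi : im (im R k) f = R := by
      rw [← (hk.restrict hR).im_comp, im_congr (f := f ∘ k) (g := id) fun y hy => (hfk y (hR hy)).1, im_id]
    exact hi ▸ c.kmap_inv hfR (fun x hx => c.kmap_mem hY hT hfR hx) fun x hx => hg x (hR0 hx)
  · refine ⟨fun x hx => ?_, fun R hR hRY => c.kmap_conjBy hY hT hRY ht⟩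
    have h1 := T.mul_mem (stronglyClosed_conj_mem c.tC (S.inv_mem ((hQ.trans hY') hx)) ht) (T.inv_mem ht)
    simpa [mul_assoc] using h1
  · refine ⟨hα.2.2.2.2.2, fun R hR hRY => ?_⟩
    obtain ⟨hQY, hQc, hαF, hαo, hαE, hαs⟩ := hα
    have hm : ∀ x ∈ Q ⊓ Y, av α x ∈ Q ⊓ Y := fun x hx =>
      ⟨av_mem α hx.1, by simpa using Y.mul_mem hx.2 (hT (hαs x hx.1))⟩
    have hQS := hQY.trans hY'
    have hαm := (map_of_mem_autGroup hQS hαF).restrict (inf_le_left : Q ⊓ Y ≤ Q)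
    haveI := finite_of_le (inf_le_left.trans hQS : Q ⊓ Y ≤ S)
    obtain ⟨β, hβ, hβe⟩ := exists_aut hαm
      (Subgroup.eq_of_le_of_card_ge (im_le_iff.2 hm) hαm.card_im.ge)
    have hdvd : orderOf β ∣ orderOf α := orderOf_dvd_of_pow_eq_one (aut_ext fun x hx => by
      rw [av_one hx, ← av_pow (inf_le_left : Q ⊓ Y ≤ Q) (fun y hy => (hβe y hy).symm) _ x hx,
        pow_orderOf_eq_one, av_one hx.1])
    have hQT : Q ⊓ Y ⊓ T = Q ⊓ T := by rw [inf_assoc, inf_eq_right.2 hT]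
    refine c.kmap_congr (c.kmap_restrict (c.kmap_hk hY ⟨inf_le_right, hQT.symm ▸ hQc, hβ,
      hαo.coprime_dvd_left hdvd, hQT.symm ▸ hαE.congr fun x hx => (hβe x ⟨hx.1, hT hx.2⟩).symm,
      fun x hx => hβe x hx ▸ hαs x hx.1⟩) (le_inf hR hRY)) fun x hx => hβe x ⟨hR hx, hRY hx⟩

/-- Restricted to `T` these are maps of `E`. -/
theorem Ctx.kmap_E (hY : Y ≤ S) (hT : T ≤ Y) (h : c.KMap T Y P f) : Map E (P ⊓ T) f := by
  haveI := c.finT
  refine ((c.kmap_ind (C := fun P f => Map E (P ⊓ T) f) hY hT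
    (fun h he => h.congr fun x hx => he x hx.1) (fun _ _ h hR => h.restrict (inf_le_inf_right _ hR))
    (fun {P Q f g} hf _ _ _ h h' hm => h.comp h' fun x hx => ⟨hm x hx.1, stronglyClosed_map c.tC hf hx.1 hx.2⟩)
    (fun {P f g} hf _ _ h hg => ?_) (fun Q t _ ht => map_conjBy inf_le_right ht)
    (fun Q α hα => hα.2.2.2.2.1) h).2)
  obtain ⟨k, hk, hkf, -, -⟩ := h.exists_inv
  rw [c.im_inf hf]
  refine hk.congr fun y hy => ?_
  obtain ⟨x, hx, rfl⟩ := h.mem_im.1 hy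
  rw [hkf x hx, hg x hx.1]

variable [Fact p.Prime]

theorem Ctx.strongInv : StrongInv E F := (isInvariantIn_iff c.pS c.sat c.inv.1 c.tC).1 c.inv

/-- Transport of a generator along a map defined on `Y`. -/
theorem Ctx.hk_congr (hβ : Map F Y β) {α : MulAut P} (h : c.Hk Y P α) {e : P ≃* R}
    (hR : im P β = R) (he : ∀ x : P, (e x : Ω) = β x) : c.Hk (im Y β) R (MulAut.congr e α) := by
  obtain ⟨hPY, hPc, hαF, hαo, hαE, hαs⟩ := h
  have hβP := hβ.restrict hPY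
  have hRT : R ⊓ T = im (P ⊓ T) β := hR ▸ c.im_inf hβP
  refine ⟨hR ▸ im_mono hPY, hRT ▸ c.centric_im hPc (hβP.restrict inf_le_left),
    congr_mem_autGroup hβP hR he hαF, by rwa [MulEquiv.orderOf_eq], ?_, fun y hy => ?_⟩
  · obtain ⟨h, hh, hhe⟩ := c.strongInv (P ⊓ T) (P ⊓ T) (av α) β le_rfl inf_le_right hαE
      (fun x hx => ⟨av_mem α hx.1, by simpa using T.mul_mem hx.2 (hαs x hx.1)⟩) (hβP.restrict inf_le_left)
    rw [hRT]
    refine hh.congr fun y hy => ?_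
    obtain ⟨x, hx, rfl⟩ := (hβP.restrict inf_le_left).mem_im.1 hy
    rw [hhe x hx, av_congr_apply he α hx.1]
  · obtain ⟨x, hx, rfl⟩ := hβP.mem_im.1 (hR.ge hy)
    rw [av_congr_apply he α hx, ← hβP.map_inv hx, ← hβP.map_mul (P.inv_mem hx) (av_mem α hx)]
    exact stronglyClosed_map c.tC hβP (P.mul_mem (P.inv_mem hx) (av_mem α hx)) (hαs x hx)

/-- Transport along a map defined on `Y`. -/
theorem Ctx.kmap_transport (hAY : A ≤ Y) (hβ : Map F Y β) (h : c.KMap A Y P f) :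
    ∃ g, c.KMap (im A β) (im Y β) (im P β) g ∧ ∀ x ∈ P, g (β x) = β (f x) := by
  have hY' := hβ.im_le
  have hA' : im A β ≤ im Y β := im_mono hAY
  refine ((c.kmap_ind (C := fun P f => ∃ g, c.KMap (im A β) (im Y β) (im P β) g ∧ ∀ x ∈ P, g (β x) = β (f x))
    hβ.le hAY (fun ⟨g, hg, hge⟩ he => ⟨g, hg, fun x hx => he x hx ▸ hge x hx⟩)
    (fun _ _ ⟨g, hg, hge⟩ hR => ⟨g, c.kmap_restrict hg (im_mono hR), fun x hx => hge x (hR hx)⟩)
    (fun {P Q f f'} hf hf' hP hQ ⟨g, hg, hge⟩ ⟨g', hg', hge'⟩ hm => ?_)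
    (fun {P f f'} hf hP hfY ⟨g, hg, hge⟩ hff => ?_) (fun Q y hQ hy => ?_) (fun Q α hα => ?_) h).2)
  · refine ⟨g' ∘ g, c.kmap_comp hg hg' fun z hz => ?_, fun x hx => ?_⟩
    · obtain ⟨x, hx, rfl⟩ := (hβ.restrict hP).mem_im.1 hz
      rw [hge x hx]
      exact mem_im_of_mem (hm x hx)
    · show g' (g (β x)) = β (f' (f x))
      rw [hge x hx, hge' _ (hm x hx)]
  · obtain ⟨k, hk, hkg, -, -⟩ := c.kmap_exists_inv hY' hA' hg
    have hi : im (im P β) g = im (im P f) β := by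
      rw [← (hβ.restrict hP).im_comp, ← hf.im_comp]
      exact im_congr hge
    rw [hi] at hk
    refine ⟨k, hk, fun y hy => ?_⟩
    obtain ⟨x, hx, rfl⟩ := hf.mem_im.1 hy
    rw [hff x hx, ← hge x hx, hkg _ (mem_im_of_mem hx)]
  · exact ⟨_, c.kmap_conjBy hY' hA' (im_mono hQ) (mem_im_of_mem hy),
      fun x hx => (hβ.map_conj (hAY hy) (hQ hx)).symm⟩
  · obtain ⟨e, he⟩ := exists_equiv (hβ.restrict hα.1) rfl
    exact ⟨_, c.kmap_hk hY' (c.hk_congr hβ hα rfl he), fun x hx => av_congr_apply he α hx⟩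

theorem Ctx.im_T (hT : T ≤ Y) (hβ : Map F Y β) : im T β = T := by
  haveI := c.finT
  exact Subgroup.eq_of_le_of_card_ge (im_le_iff.2 fun x hx => stronglyClosed_map c.tC hβ (hT hx) hx)
    (hβ.restrict hT).card_im.ge

/-- Every generated map is a conjugation after a map without conjugations outside `T`. -/
theorem Ctx.kmap_dec (hY : Y ≤ S) (hT : T ≤ Y) (h : c.KMap Y Y P f) :
    ∃ y ∈ Y, ∃ e, c.KMap T Y P e ∧ ∀ x ∈ P, f x = y * e x * y⁻¹ := by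
  haveI := finite_of_le hY
  have push : ∀ {Q : Subgroup Ω} {e : Ω → Ω} {y : Ω}, y ∈ Y → c.KMap T Y Q e →
      ∃ g, c.KMap T Y (im Q fun x => y * x * y⁻¹) g ∧ ∀ x ∈ Q, g (y * x * y⁻¹) = y * e x * y⁻¹ := by
    intro Q e y hy he
    have hm := map_conjBy (F := F) hY (hY hy)
    have hi : im Y (fun x => y * x * y⁻¹) = Y := Subgroup.eq_of_le_of_card_ge
      (im_le_iff.2 fun x hx => Y.mul_mem (Y.mul_mem hy hx) (Y.inv_mem hy)) hm.card_im.ge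
    have := c.kmap_transport hT hm he
    rwa [hi, c.im_T hT hm] at this
  refine ((c.kmap_ind (C := fun P f => ∃ y ∈ Y, ∃ e, c.KMap T Y P e ∧ ∀ x ∈ P, f x = y * e x * y⁻¹) hY le_rfl
    (fun ⟨y, hy, e, he, hfe⟩ hfg => ⟨y, hy, e, he, fun x hx => hfg x hx ▸ hfe x hx⟩)
    (fun _ _ ⟨y, hy, e, he, hfe⟩ hR => ⟨y, hy, e, c.kmap_restrict he hR, fun x hx => hfe x (hR hx)⟩)
    (fun {P Q f g} hf hg _ _ ⟨y, hy, e, he, hfe⟩ ⟨z, hz, e', he', hge⟩ hm => ?_)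
    (fun {P f g} hf _ _ ⟨y, hy, e, he, hfe⟩ hgf => ?_)
    (fun Q y hQ hy => ⟨y, hy, id, c.kmap_id hY hT hQ, fun x _ => rfl⟩)
    (fun Q α hα => ⟨1, Y.one_mem, av α, c.kmap_hk hY hα, fun x _ => by simp⟩) h).2)
  · obtain ⟨k, hk, hke⟩ := push (Y.inv_mem hy) he'
    refine ⟨z * y, Y.mul_mem hz hy, k ∘ e, c.kmap_comp he hk fun x hx => ?_, fun x hx => ?_⟩
    · have h1 : e x = y⁻¹ * f x * y⁻¹⁻¹ := by rw [hfe x hx]; group
      rw [h1]
      exact mem_im_of_mem (f := fun u => y⁻¹ * u * y⁻¹⁻¹) (hm x hx)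
    · show g (f x) = _
      rw [hge _ (hm x hx)]
      have h1 : e x = y⁻¹ * f x * y⁻¹⁻¹ := by rw [hfe x hx]; group
      show _ = z * y * k (e x) * (z * y)⁻¹
      rw [h1, hke _ (hm x hx)]
      group
  · obtain ⟨u, hu, hue, -, -⟩ := c.kmap_exists_inv hY hT he
    obtain ⟨k, hk, hke⟩ := push hy hu
    refine ⟨y⁻¹, Y.inv_mem hy, k, ?_, fun w hw => ?_⟩
    · refine c.kmap_restrict hk fun w hw => ?_
      obtain ⟨x, hx, rfl⟩ := hf.mem_im.1 hw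
      rw [hfe x hx]
      exact mem_im_of_mem (f := fun u => y * u * y⁻¹) (mem_im_of_mem hx)
    · obtain ⟨x, hx, rfl⟩ := hf.mem_im.1 hw
      rw [hgf x hx, hfe x hx, hke _ (mem_im_of_mem hx), hue x hx]
      group

omit [Fact p.Prime] in
/-- The generated system over `Y`. -/
def Ctx.sys (hY : Y ≤ S) : FusionSystem Y where
  Hom P := {φ | φ ∈ F.Hom P ∧ c.KMap Y Y P (fn φ)}
  le_of_mem {P φ} hφ := ⟨hφ.2.2.1, fun x => by rw [← fn_coe φ x]; exact c.kmap_mem hY le_rfl hφ.2 x.2⟩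
  injective_of_mem hφ := F.injective_of_mem hφ.1
  conj_mem {P g} hP hg := ⟨F.conj_mem (hP.trans hY) (hY hg),
    c.kmap_congr (c.kmap_conjBy hY le_rfl hP hg) fun x hx => by rw [fn_apply (conjHom P g) hx]; rfl⟩
  comp_mem {P Q φ ψ} hφ hψ hm := ⟨F.comp_mem hφ.1 hψ.1 hm,
    c.kmap_congr (c.kmap_comp hφ.2 hψ.2 fun x hx => by rw [fn_apply φ hx]; exact hm _) fun x hx => by
      show fn ψ (fn φ x) = _
      rw [fn_apply φ hx, fn_apply ψ (hm _), fn_apply _ hx]; rfl⟩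
  inv_mem {P φ} hφ := by
    obtain ⟨ψ, hψ, hψφ⟩ := F.inv_mem hφ.1
    refine ⟨ψ, ⟨hψ, ?_⟩, hψφ⟩
    have key : c.KMap Y Y (im P (fn φ)) (fn ψ) :=
      c.kmap_inv hφ.2 (fun x hx => c.kmap_mem hY le_rfl hφ.2 hx) fun x hx => by
        rw [fn_apply φ hx, fn_apply ψ ⟨⟨x, hx⟩, rfl⟩, hψφ ⟨x, hx⟩]
    rwa [(map_of_mem hφ.1).im_eq_range fun x => (fn_coe φ x).symm] at key

omit [Fact p.Prime] in
theorem Ctx.map_sys (hY : Y ≤ S) : Map (c.sys hY) P f ↔ c.KMap Y Y P f := by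
  constructor
  · rintro ⟨φ, hφ, he⟩
    exact c.kmap_congr hφ.2 fun x hx => by rw [fn_apply φ hx]; exact he ⟨x, hx⟩
  · intro hf
    obtain ⟨φ, hφ, he⟩ := hf.1
    exact ⟨φ, ⟨hφ, c.kmap_congr hf fun x hx => by rw [fn_apply φ hx]; exact (he ⟨x, hx⟩).symm⟩, he⟩

omit [Fact p.Prime] in
theorem Ctx.sys_sub (hY : Y ≤ S) : (c.sys hY).IsSubsystemOf F := fun _ _ hφ => hφ.1

end Cfsg.Agent.Local.FS.Balance
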