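import Cfsg.Agent.Lib.Local.FS.Balance.Sat
import Cfsg.Agent.Lib.Local.FS.CentSat
import Cfsg.Agent.Lib.Local.FS.PowerIndex
import Cfsg.Agent.Lib.Local.FS.PrimeResidualIsNormal
import Cfsg.Agent.Lib.Local.FS.CentralizerSystemNormal
import Cfsg.Agent.Lib.Local.FS.PrimeResidual

/-!
The centralizer of `X` in a normal subsystem, as subsystems normal in the centralizer system of `X`.
-/

set_option autoImplicit false

namespace Cfsg.Agent.Local.FS.Balance

open Cfsg Cfsg.FusionSystem Cfsg.Agent.Fusion Cfsg.Agent.Local.FS Cfsg.Agent.Local.FS.Meet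

universe u

variable {Ω : Type u} [Group Ω] {S T : Subgroup Ω} {F : FusionSystem S} {E : FusionSystem T}
  {P Q R X Y : Subgroup Ω} {f g : Ω → Ω} {p : ℕ}

/-- A `p`-power index subsystem of an invariant subsystem is transported by automorphisms of its base. -/
theorem pPower_transport_up [Finite S] [Fact p.Prime] {M : FusionSystem S} {R₁ R₀ : Subgroup Ω}
    {D : FusionSystem R₁} {D₂ : FusionSystem R₀} (hS : IsPGroup p S) (hD : D.IsInvariantIn M) (hR₁ : R₁ ≤ S)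
    (hEs : D₂.IsSaturated p) (hE : D₂.HasPPowerIndexIn D p) {α : MulAut R₀} (hα : α ∈ M.autGroup R₀)
    (hf : Map D₂ P f) : ∃ h, Map D₂ (im P (av α)) h ∧ ∀ x ∈ P, h (av α x) = av α (f x) := by
  have hR₀₁ := le_of_sub hE.1
  have hR₀S := hR₀₁.trans hR₁
  haveI := finite_of_le hR₀S
  haveI := finite_of_le hR₁
  have hαm : Map M R₀ (av α) := map_of_mem_autGroup hR₀S hα
  have him : ∀ {U : Subgroup Ω}, U ≤ R₀ → im U (av α) ≤ R₀ := fun hU =>
    im_le_iff.2 fun x hx => av_mem α (hU hx)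
  refine alperin (F := D₂) (K := fun P f => ∃ h, Map D₂ (im P (av α)) h ∧ ∀ x ∈ P, h (av α x) = av α (f x))
    (hS.to_le hR₀S) hEs ⟨?_, ?_, ?_, ?_⟩ ?_ P f hf
  · rintro P f g ⟨h, hh, hhe⟩ he
    exact ⟨h, hh, fun x hx => he x hx ▸ hhe x hx⟩
  · rintro P R f - ⟨h, hh, hhe⟩ hR
    exact ⟨h, hh.restrict (im_mono hR), fun x hx => hhe x (hR hx)⟩
  · rintro P Q f g hfm hgm ⟨h, hh, hhe⟩ ⟨h', hh', hhe'⟩ hm
    refine ⟨h' ∘ h, hh.comp hh' fun y hy => ?_, fun x hx => ?_⟩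
    · obtain ⟨x, hx, rfl⟩ := (hαm.restrict hfm.le).mem_im.1 hy
      rw [hhe x hx]
      exact mem_im_of_mem (hm x hx)
    · show h' (h (av α x)) = av α (g (f x))
      rw [hhe x hx, hhe' _ (hm x hx)]
  · rintro P f g hfm ⟨h, hh, hhe⟩ hinv
    obtain ⟨k, hk, hkh, -, -⟩ := hh.exists_inv
    have hi : im (im P (av α)) h = im (im P f) (av α) := by
      rw [← hfm.im_comp, ← (hαm.restrict hfm.le).im_comp]
      exact im_congr hhe
    rw [hi] at hk
    refine ⟨k, hk, fun y hy => ?_⟩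
    obtain ⟨x, hx, rfl⟩ := hfm.mem_im.1 hy
    rw [hinv x hx, ← hhe x hx, hkh _ (mem_im_of_mem hx)]
  · intro R hR γ hγ
    have hRfn := gen_fn (F := D₂) (p := p) hR
    have hRS : R ≤ S := hRfn.1.trans hR₀S
    haveI := mulAut_finite_of_le hRS
    haveI := mulAut_finite_of_le ((him hRfn.1).trans hR₀S)
    obtain ⟨β, hβ, δ, hδ, rfl⟩ := exists_autS_mul_residual (hS.to_le hR₀S) hEs hRfn hγ
    obtain ⟨t, ht, htβ⟩ := mem_autInducedBy.1 hβ
    obtain ⟨e, he⟩ := exists_equiv (hαm.restrict hRfn.1) rfl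
    obtain ⟨η, hη, hηe⟩ := pResidual_mono_sub hE.1 hRfn.1 ⟨δ, hδ, rfl⟩
    let cg : D.autGroup R →* D.autGroup (im R (av α)) :=
      ((MulAut.congr e).toMonoidHom.comp (D.autGroup R).subtype).codRestrict _
        (fun a => congr_mem_sub hD (hαm.restrict hRfn.1) (hRfn.1.trans hR₀₁) rfl he a.2)
    have h1 : MulAut.congr e (δ : MulAut R) ∈ D₂.autGroup (im R (av α)) := hE.2.2 _ (him hRfn.1)
      ⟨cg η, Fusion.map_pResidual_le cg ⟨η, hη, rfl⟩, by
        show MulAut.congr e ((D.autGroup R).subtype η) = _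
        rw [hηe]; rfl⟩
    refine ⟨fun y => av α t * av (MulAut.congr e (δ : MulAut R)) y * (av α t)⁻¹,
      (map_of_mem_autGroup (him hRfn.1) h1).comp (map_conjBy (him hRfn.1) (av_mem α ht))
        fun y hy => av_mem _ hy, fun x hx => ?_⟩
    show av α t * _ * _ = _
    rw [av_congr_apply (f := av α) he (δ : MulAut R) hx, av_mul _ _ hx, htβ _ (av_mem _ hx),
      hαm.map_conj ht (hRfn.1 (av_mem _ hx))]

variable [Finite S] [Fact p.Prime] (c : Ctx F E p)
include c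

/-- Generated maps centralizing `X` are generated without conjugations outside `T`. -/
theorem Ctx.kmap_cent (hY : T ⊔ X ≤ S) (hP : P ≤ centralizerIn (T ⊔ X) X) (hg : c.KMap (T ⊔ X) (T ⊔ X) (P ⊔ X) g)
    (hgX : ∀ x ∈ X, g x = x) : c.KMap T (T ⊔ X) P g := by
  obtain ⟨y, hy, e, he, hge⟩ := c.kmap_dec hY le_sup_left hg
  obtain ⟨t, ht, x₀, hx₀, rfl⟩ := c.mem_cov hY (le_sup_right : X ≤ T ⊔ X) hy
  obtain ⟨t', ht'd⟩ : ∃ t', t' = x₀⁻¹ * t * x₀ := ⟨_, rfl⟩
  have ht' : t' ∈ T := by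
    have := stronglyClosed_conj_mem c.tC (S.inv_mem (hY (Subgroup.mem_sup_right hx₀))) ht
    rwa [inv_inv, ← ht'd] at this
  have heP := c.kmap_restrict he (le_sup_left : P ≤ P ⊔ X)
  refine c.kmap_congr (c.kmap_comp heP (c.kmap_conjBy hY le_sup_left (P := im P e)
    (im_le_iff.2 fun z hz => c.kmap_mem hY le_sup_left heP hz) ht') fun z hz => mem_im_of_mem hz) fun z hz => ?_
  show t' * e z * t'⁻¹ = g z
  have hmem := hg.1.mem_centralizer (le_sup_right : X ≤ P ⊔ X) (Subgroup.mem_sup_left hz)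
    (mem_centralizerIn.1 (hP hz)).2
  rw [im_congr (g := id) hgX, im_id] at hmem
  calc t' * e z * t'⁻¹ = x₀⁻¹ * g z * x₀ := by rw [hge z (Subgroup.mem_sup_left hz), ht'd]; group
    _ = g z := by rw [mul_assoc, ← (mem_centralizerIn.1 hmem).2 x₀ hx₀, inv_mul_cancel_left]

/-- `X` stays fully centralized in the product. -/
theorem Ctx.fc_sys (hX : F.IsFullyCentralized X) (hY : T ⊔ X ≤ S) :
    (c.sys hY).IsFullyCentralized X := by
  refine ⟨le_sup_right, fun X' hX' => ?_⟩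
  obtain ⟨f, hf, rfl⟩ := isConj_iff.1 hX'
  have hfk := (c.map_sys hY).1 hf
  obtain ⟨y, hy, e, he, hfe⟩ := c.kmap_dec hY le_sup_left hfk
  -- `T X'` is everything
  have hcov : T ⊔ X ≤ T ⊔ im X f := by
    have h1 : cj (T ⊔ X) y ≤ T ⊔ im X f := by
      rw [cj_sup]
      refine sup_le ?_ ?_
      · rintro _ ⟨z, hz, rfl⟩
        exact Subgroup.mem_sup_left (stronglyClosed_conj_mem c.tC (hY hy) hz)
      · rintro _ ⟨x, hx, rfl⟩
        show y * x * y⁻¹ ∈ _
        rw [show y * x * y⁻¹ = f x * (y * (x⁻¹ * e x)⁻¹ * y⁻¹) by rw [hfe x hx]; group]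
        exact Subgroup.mul_mem _ (Subgroup.mem_sup_right (mem_im_of_mem hx)) (Subgroup.mem_sup_left
          (stronglyClosed_conj_mem c.tC (hY hy) (T.inv_mem (c.kmap_shift hY le_sup_left he hx))))
    intro z hz
    refine h1 ?_
    rw [cj_eq_self_of_mem hy]
    exact hz
  obtain ⟨k, hk, hkf, hfk', hki⟩ := hfk.1.exists_inv
  obtain ⟨g, hg, hgk⟩ := (receptive_iff.1 (receptive_of_fc c.pS c.sat hX)).2 _ k hk hki
  have hle : im X f ⊔ centralizerIn S (im X f) ≤ Nf S (im X f) k := sup_le (le_Nf hk) centralizerIn_le_Nf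
  have hg' := hg.restrict hle
  haveI := finite_of_le hY
  haveI : Finite ↥(centralizerIn (T ⊔ X) X) := finite_of_le (inf_le_left.trans hY)
  have hdom : centralizerIn (T ⊔ X) (im X f) ≤ im X f ⊔ centralizerIn S (im X f) := fun z hz =>
    Subgroup.mem_sup_right ⟨hY hz.1, hz.2⟩
  refine (hg'.restrict hdom).card_le fun z hz => ?_
  have hzd := hdom hz
  obtain ⟨t, ht, x', hx', hzx⟩ := c.mem_cov (sup_le c.tS hfk.1.im_le) le_sup_right (hcov hz.1)
  have htd : t ∈ im X f ⊔ centralizerIn S (im X f) := by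
    rw [show t = z * x'⁻¹ by rw [hzx]; group]
    exact Subgroup.mul_mem _ hzd (Subgroup.inv_mem _ (Subgroup.mem_sup_left hx'))
  refine mem_centralizerIn.2 ⟨?_, ?_⟩
  · rw [hzx, hg'.map_mul htd (Subgroup.mem_sup_left hx'), hgk x' hx']
    exact Subgroup.mul_mem _ (Subgroup.mem_sup_left (stronglyClosed_map c.tC hg' htd ht))
      (Subgroup.mem_sup_right (hki.le (mem_im_of_mem hx')))
  · have h1 := hg'.mem_centralizer le_sup_left hzd (mem_centralizerIn.1 hz).2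
    rw [im_congr (g := k) hgk, hki] at h1
    exact (mem_centralizerIn.1 h1).2

/-- The centralizer in the product is weakly normal in the centralizer system. -/
theorem Ctx.cent_weakly (hX : F.IsFullyCentralized X) (hY : T ⊔ X ≤ S) :
    (centSys (c.sys hY) (le_sup_right : X ≤ T ⊔ X)).IsWeaklyNormalIn (centSys F hX.1) p := by
  haveI := finite_of_le hY
  have hXS := hX.1
  have hTc := c.tC
  have hMs := centSys_saturated c.pS c.sat hX
  have hDs := centSys_saturated (c.pS.to_le hY) (c.sys_saturated hY le_sup_left) (c.fc_sys hX hY)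
  have hCS : centralizerIn (T ⊔ X) X ≤ centralizerIn S X := inf_le_inf_right _ hY
  have hsub : (centSys (c.sys hY) (le_sup_right : X ≤ T ⊔ X)).IsSubsystemOf (centSys F hXS) := by
    intro P φ hφ
    obtain ⟨hP, hm, g, hg, hφg, hgX⟩ := mem_centralizerHom.1 hφ
    exact mem_centralizerHom.2 ⟨hP.trans hCS, fun x => hCS (hm x), g, hg.of_sub (c.sys_sub hY), hφg, hgX⟩
  haveI : Finite ↥(centralizerIn S X) := finite_of_le inf_le_left
  have hMY : ∀ {A : Subgroup Ω} {u : Ω → Ω}, Map F (A ⊔ X) u → A ≤ T ⊔ X → (∀ x ∈ X, u x = x) →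
      ∀ z ∈ A ⊔ X, u z ∈ T ⊔ X := fun {A u} hu hA huX z hz => by
    obtain ⟨t, ht, x, hx, rfl⟩ := c.mem_cov hY le_sup_right (sup_le hA le_sup_right hz)
    have htd : t ∈ A ⊔ X := by simpa using Subgroup.mul_mem _ hz (Subgroup.inv_mem _ (Subgroup.mem_sup_right hx : x ∈ A ⊔ X))
    rw [hu.map_mul htd (Subgroup.mem_sup_right hx), huX x hx]
    exact Subgroup.mul_mem _ (Subgroup.mem_sup_left (stronglyClosed_map hTc hu htd ht)) (Subgroup.mem_sup_right hx)
  have hsc : (centSys F hXS).StronglyClosed (centralizerIn (T ⊔ X) X) := by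
    refine stronglyClosed_iff.2 ⟨hCS, fun A u hA hu z hz => ?_⟩
    obtain ⟨-, w, hw, hwu, hwX⟩ := map_centSys.1 hu
    refine mem_centralizerIn.2 ⟨?_, (mem_centralizerIn.1 (hu.mem hz)).2⟩
    rw [← hwu z hz]
    exact hMY hw (hA.trans inf_le_left) hwX z (Subgroup.mem_sup_left hz)
  refine ⟨hDs, hMs, (isInvariantIn_iff (S := centralizerIn S X) (c.pS.to_le inf_le_left) hMs hsub hsc).2 fun A B f g hAB hB hf hfB hg => ?_⟩
  obtain ⟨hA, f', hf', hf'e, hf'X⟩ := map_centSys.1 hf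
  have hfk := (c.map_sys hY).1 hf'
  obtain ⟨-, g', hg', hg'e, hg'X⟩ := map_centSys.1 hg
  have hg'Y := hMY hg' (hB.trans inf_le_left) hg'X
  -- transport by the decomposition of `g'`
  obtain ⟨ε, β, hε, hβ, hge⟩ := c.dec _ g' hg'
  have hBY : T ⊔ (B ⊔ X) = T ⊔ X := le_antisymm (sup_le le_sup_left (sup_le (hB.trans inf_le_left) le_sup_right))
    (sup_le_sup_left le_sup_right T)
  rw [hBY] at hε hβ
  have hiY : im (T ⊔ X) β = T ⊔ X := by
    refine Subgroup.eq_of_le_of_card_ge ?_ hβ.card_im.ge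
    refine hβ.im_sup_le.trans (sup_le ((c.im_T le_sup_left hβ).le.trans le_sup_left) (im_le_iff.2 fun x hx => ?_))
    obtain ⟨t, ht, hte⟩ : ∃ t ∈ T, ε x = x * t :=
      ⟨_, c.kmap_shift hY le_sup_left hε (Subgroup.mem_sup_right hx), by group⟩
    have h1 := hge x (Subgroup.mem_sup_right hx)
    rw [hg'X x hx, hte, hβ.map_mul (Subgroup.mem_sup_right hx) (Subgroup.mem_sup_left ht)] at h1
    rw [eq_mul_inv_of_mul_eq h1.symm]
    exact Subgroup.mul_mem _ (Subgroup.mem_sup_right hx)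
      (Subgroup.inv_mem _ (Subgroup.mem_sup_left (stronglyClosed_map hTc hβ (Subgroup.mem_sup_left ht) ht)))
  have hεA := c.kmap_restrict hε (sup_le_sup_right hAB X : A ⊔ X ≤ B ⊔ X)
  obtain ⟨u, hu, hue, huk, -⟩ := c.kmap_exists_inv hY le_sup_left hεA
  have hf'B : ∀ z ∈ A ⊔ X, f' z ∈ B ⊔ X := fun z hz => (hf'.im_sup_le.trans (sup_le_sup
    (im_le_iff.2 fun x hx => by rw [hf'e x hx]; exact hfB x hx) (im_le_iff.2 fun x hx => by rw [hf'X x hx]; exact hx)))
    (mem_im_of_mem hz)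
  have hh₁ := c.kmap_comp (c.kmap_mono le_sup_left le_rfl hY le_rfl le_sup_left hu)
    (c.kmap_comp hfk (c.kmap_mono le_sup_left le_rfl hY le_rfl le_sup_left hε) hf'B) fun z hz => (huk z hz).2
  obtain ⟨h, hh, hhe⟩ := c.kmap_transport le_rfl hβ hh₁
  rw [hiY, ← hεA.1.im_comp, im_congr (f := β ∘ ε) (g := g') fun z hz => (hge z (sup_le_sup_right hAB X hz)).symm]
    at hh
  have hval : ∀ z ∈ A ⊔ X, h (g' z) = g' (f' z) := fun z hz => by
    rw [hge z (sup_le_sup_right hAB X hz), hhe _ (mem_im_of_mem hz)]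
    show β (ε (f' (u (ε z)))) = _
    rw [hue z hz, ← hge _ (hf'B z hz)]
  have hg'A := hg'.restrict (sup_le_sup_right hAB X : A ⊔ X ≤ B ⊔ X)
  have hle : im A g ⊔ X ≤ im (A ⊔ X) g' := sup_le
    (im_le_iff.2 fun x hx => hg'e x (hAB hx) ▸ mem_im_of_mem (Subgroup.mem_sup_left hx))
    fun x hx => hg'X x hx ▸ mem_im_of_mem (Subgroup.mem_sup_right hx)
  refine ⟨h, map_centSys.2 ⟨im_le_iff.2 fun x hx => mem_centralizerIn.2
    ⟨hg'e x (hAB hx) ▸ hg'Y x (Subgroup.mem_sup_left (hAB hx)), (mem_centralizerIn.1 (hg.mem (hAB hx))).2⟩,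
    h, (c.map_sys hY).2 (c.kmap_restrict hh hle), fun _ _ => rfl, fun x hx => ?_⟩, fun x hx => ?_⟩
  · have h1 := hval x (Subgroup.mem_sup_right hx)
    rwa [hg'X x hx, hf'X x hx, hg'X x hx] at h1
  · rw [← hg'e x (hAB hx), hval x (Subgroup.mem_sup_left hx), hf'e x hx, hg'e _ (hfB x hx)]

/-- The two normal subsystems of the centralizer system. -/
theorem Ctx.exists_cent (hX : F.IsFullyCentralized X) :
    ∃ (D₁ : FusionSystem (centralizerIn (T ⊔ X) X)) (D₃ : FusionSystem (centralizerIn T X)),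
      D₁.IsNormalIn (centSys F hX.1) p ∧ D₃.IsNormalIn (centSys F hX.1) p ∧
      (∀ P f, Map D₁ P f → ∀ x ∈ P, x⁻¹ * f x ∈ T) ∧ ∀ P f, Map D₃ P f → Map E P f := by
  have hXS := hX.1
  have hTc := c.tC
  have hY : T ⊔ X ≤ S := sup_le c.tS hXS
  haveI := finite_of_le hY
  haveI : Finite ↥(centralizerIn S X) := finite_of_le inf_le_left
  have hCS : centralizerIn (T ⊔ X) X ≤ centralizerIn S X := inf_le_inf_right _ hY
  haveI : Finite ↥(centralizerIn (T ⊔ X) X) := finite_of_le (inf_le_left.trans hY)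
  have hW := c.cent_weakly hX hY
  obtain ⟨D, hD⟩ : ∃ D, D = centSys (c.sys hY) (le_sup_right : X ≤ T ⊔ X) := ⟨_, rfl⟩
  rw [← hD] at hW
  obtain ⟨hDs, hMs, hDi⟩ := id hW
  have hpM : IsPGroup p ↥(centralizerIn S X) := c.pS.to_le inf_le_left
  have hpD : IsPGroup p ↥(centralizerIn (T ⊔ X) X) := hpM.to_le hCS
  have hshift : ∀ P f, Map D P f → c.KMap T (T ⊔ X) P f := fun P f hf => by
    obtain ⟨hP, g, hg, hgf, hgX⟩ := map_centSys.1 (hD ▸ hf)
    exact c.kmap_congr (c.kmap_cent hY hP ((c.map_sys hY).1 hg) hgX) hgf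
  have hR₀ : centralizerIn T X ≤ centralizerIn (T ⊔ X) X := inf_le_inf_right _ le_sup_left
  have hhyp : D.hyperfocalSubgroup p ≤ centralizerIn T X := by
    refine (Subgroup.closure_le _).2 ?_
    rintro _ ⟨A, α, x, hA, -, rfl⟩
    have hk := hshift A _ (map_of_mem_autGroup hA α.2)
    have h1 := c.kmap_shift hY le_sup_left hk x.2
    rw [av_coe] at h1
    exact mem_centralizerIn.2 ⟨h1, (mem_centralizerIn.1 (Subgroup.mul_mem _ (Subgroup.inv_mem _ (hA x.2))
      (hA (SetLike.coe_mem ((α : MulAut A) x))))).2⟩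
  have hn : ((centralizerIn T X).subgroupOf (centralizerIn (T ⊔ X) X)).Normal :=
    ⟨fun r hr s => mem_centralizerIn.2 ⟨stronglyClosed_conj_mem hTc (hY s.2.1) hr.1,
      (mem_centralizerIn.1 (s * r * s⁻¹ : ↥(centralizerIn (T ⊔ X) X)).2).2⟩⟩
  obtain ⟨D₂, hD₂s, hD₂⟩ := exists_pPower hpD hDs hR₀ hhyp
  haveI : Finite ↥(centralizerIn T X) := finite_of_le (hR₀.trans (inf_le_left.trans hY))
  have hD₂i := pPower_invariant hpD hDs hn hD₂s hD₂
  have hsc₀ : (centSys F hXS).StronglyClosed (centralizerIn T X) := by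
    refine stronglyClosed_iff.2 ⟨hR₀.trans hCS, fun A u hA hu z hz => ?_⟩
    obtain ⟨-, w, hw, hwu, -⟩ := map_centSys.1 hu
    refine mem_centralizerIn.2 ⟨?_, (mem_centralizerIn.1 (hu.mem hz)).2⟩
    rw [← hwu z hz]
    exact stronglyClosed_map hTc hw (Subgroup.mem_sup_left hz) (hA hz).1
  have hsub₂ : D₂.IsSubsystemOf (centSys F hXS) := fun P φ hφ => hDi.1 P (hD₂.1 P hφ)
  have hweak : D₂.IsWeaklyNormalIn (centSys F hXS) p := by
    refine ⟨hD₂s, hMs, hsub₂, hsc₀, fun P hPT φ hφ α hα => ?_, fun P hPT φ hφ => ?_⟩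
    · obtain ⟨h, hh, hhe⟩ := pPower_transport_up hpM hDi hCS hD₂s hD₂ hα (map_of_mem hφ)
      rw [← map_subgroupOf_eq_im hPT (φ := (centralizerIn T X).subtype.comp α.toMonoidHom)
        (fun y => (av_coe α y).symm)] at hh
      obtain ⟨χ, hχ, hχh⟩ := hh
      refine ⟨χ, hχ, fun x hφx hαx => ?_⟩
      rw [hχh, ← av_apply α (hPT x.2), ← av_apply α hφx, hhe x x.2, fn_coe]
    · obtain ⟨a, ha, f, hf, hfe⟩ := decomp_all hpM hMs hDi.1 hDi.2.1
        ((isInvariantIn_iff hpM hMs hDi.1 hDi.2.1).1 hDi) P _ (hPT.trans hR₀) (map_of_mem hφ)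
      obtain ⟨b, hb, f₀, hf₀, hf₀e⟩ := decomp_all hpD hDs hD₂.1 hD₂i.2.1
        ((isInvariantIn_iff hpD hDs hD₂.1 hD₂i.2.1).1 hD₂i) P f hPT hf
      have ham := map_of_mem_autGroup hCS ha
      have haR : ∀ x ∈ centralizerIn T X, av a x ∈ centralizerIn T X := fun x hx =>
        stronglyClosed_map hsc₀ ham (hR₀ hx) hx
      obtain ⟨a₀, ha₀, ha₀e⟩ := exists_aut (ham.restrict hR₀) (Subgroup.eq_of_le_of_card_ge
        (im_le_iff.2 haR) (ham.restrict hR₀).card_im.ge)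
      have hbM : b ∈ (centSys F hXS).autGroup (centralizerIn T X) :=
        mem_autGroup_of_map ((map_of_mem_autGroup hR₀ hb).of_sub hDi.1)
      obtain ⟨φ₀, hφ₀, hφ₀e⟩ := id hf₀
      refine ⟨a₀ * b, Subgroup.mul_mem _ ha₀ hbM, φ₀, hφ₀, fun x hx => ?_⟩
      rw [← fn_coe φ x, hfe x x.2, hf₀e x x.2, ← ha₀e _ (av_mem b (hf₀.mem x.2)), ← av_mul _ _ (hf₀.mem x.2),
        ← av_apply _ hx, hφ₀e x]
  refine ⟨primeRes D p, primeRes D₂ p, primeResidual_isNormalIn hpM hW (isPPrimeResidual_primeRes hpD hDs),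
    primeResidual_isNormalIn hpM hweak (isPPrimeResidual_primeRes (hpD.to_le hR₀) hD₂s),
    fun P f hf x hx => c.kmap_shift hY le_sup_left (hshift P f (map_of_le primeRes_le hf)) hx, fun P f hf => ?_⟩
  have h2 : Map D₂ P f := map_of_le primeRes_le hf
  have h3 := c.kmap_E hY le_sup_left (hshift P f (h2.of_sub hD₂.1))
  rwa [inf_eq_left.2 (hf.le.trans inf_le_left)] at h3

end Cfsg.Agent.Local.FS.Balance
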