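import Cfsg.Agent.Lib.Local.FS.Balance.Dec

/-!
Conjugates in the subsystem of a well placed subgroup are joined to it by generated maps of the normalizers.
-/

set_option autoImplicit false

namespace Cfsg.Agent.Local.FS.Balance

open Cfsg Cfsg.FusionSystem Cfsg.Agent.Fusion Cfsg.Agent.Local.FS Cfsg.Agent.Local.FS.Meet

universe u

variable {Ω : Type u} [Group Ω] {S T : Subgroup Ω} {F : FusionSystem S} {E : FusionSystem T}
  {P Q R U Y : Subgroup Ω} {f g : Ω → Ω} {p : ℕ}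

/-- A fully normalized centric subgroup whose normalizer covers `Y` modulo `T`. -/
structure Ctx.Good (_c : Ctx F E p) (Y Q : Subgroup Ω) : Prop where
  fn : E.IsFullyNormalized Q
  centric : E.IsCentric Q
  cov : Y ≤ T ⊔ normalizerIn Y Q

variable [Finite S] [Fact p.Prime] (c : Ctx F E p)
include c

omit [Fact p.Prime] in
theorem Ctx.centric_top : E.IsCentric T := by
  haveI := c.finT
  refine ⟨le_rfl, fun R hR => inf_le_left.trans ?_⟩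
  exact (Subgroup.eq_of_le_of_card_ge (isConj_le hR).2 (isConj_card hR).le).ge

omit [Finite S] [Fact p.Prime] in
theorem Ctx.mem_cov (hY : Y ≤ S) {N : Subgroup Ω} (hN : N ≤ Y) {y : Ω} (hy : y ∈ T ⊔ N) :
    ∃ t ∈ T, ∃ n ∈ N, y = t * n := by
  rw [sup_comm] at hy
  obtain ⟨n, hn, t, ht, rfl⟩ := mem_sup_of_normalized (stronglyClosed_le_normalizer c.tC) (hN.trans hY) hy
  exact ⟨n * t * n⁻¹, stronglyClosed_conj_mem c.tC (hY (hN hn)) ht, n, hn, by group⟩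

/-- A map of the subsystem on a centric subgroup is generated. -/
theorem Ctx.kmap_of_E (hY : Y ≤ S) (hT : T ≤ Y) (hQ : E.IsCentric Q) (hg : Map E Q g) : c.KMap T Y Q g := by
  haveI := c.finT
  refine (alperin c.pT c.eSat (K := fun P f => Map E P f ∧ (E.IsCentric P → c.KMap T Y P f))
    ⟨?_, ?_, ?_, ?_⟩ (fun R hR a ha => ?_) Q g hg).2 hQ
  · rintro P f f' ⟨hf, h⟩ he
    exact ⟨hf.congr he, fun hP => c.kmap_congr (h hP) he⟩
  · rintro P R f - ⟨hf, h⟩ hR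
    exact ⟨hf.restrict hR, fun hRc => c.kmap_restrict (h (centric_mono hRc hR hf.le)) hR⟩
  · rintro P R f f' - - ⟨hf, h⟩ ⟨hf', h'⟩ hm
    refine ⟨hf.comp hf' hm, fun hP => c.kmap_comp (h hP) (h' (centric_mono (c.centric_im hP (hf.of_sub c.inv.1))
      (im_le_iff.2 hm) hf'.le)) hm⟩
  · rintro P f f' - ⟨hf, h⟩ hff
    obtain ⟨k, hk, hkf, hfk, hki⟩ := hf.exists_inv
    refine ⟨hk.congr fun y hy => ?_, fun hi => ?_⟩
    · obtain ⟨x, hx, rfl⟩ := hf.mem_im.1 hy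
      rw [hkf x hx, hff x hx]
    · exact c.kmap_inv (h (hki ▸ c.centric_im hi (hk.of_sub c.inv.1))) (fun x hx => hT (hf.mem hx)) hff
  obtain ⟨hRc, hRn⟩ : E.IsCentric R ∧ E.IsFullyNormalized R := by
    rcases hR with rfl | hR
    · exact ⟨c.centric_top, fn_self⟩
    · exact ⟨hR.1, hR.2.1⟩
  refine ⟨map_of_mem_autGroup hRc.1 ha, fun _ => ?_⟩
  obtain ⟨G, hG, ι, W, L⟩ := c.exists_loc hY hT hRc hRn
  obtain ⟨w, hw, hwe⟩ := L.lift a ha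
  exact c.kmap_congr (L.kmapW le_rfl L.qN hw (L.toPre.q_range w)) fun x hx => (hwe x hx).symm

/-- A normal subgroup of covering normalizer moves to a good one. -/
theorem Ctx.exists_good (hY : Y ≤ S) (hT : T ≤ Y) (hU : E.IsCentric U) (hcov : Y ≤ T ⊔ normalizerIn Y U) :
    ∃ V h, c.Good Y V ∧ c.KMap T Y (normalizerIn Y U) h ∧
      (∀ x ∈ normalizerIn Y U, h x ∈ normalizerIn Y V) ∧ im U h = V := by
  haveI := c.finT
  have hUS := hU.1.trans c.tS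
  obtain ⟨U₀, hUU₀, hU₀⟩ := exists_fullyNormalized (F := F) hUS
  obtain ⟨k, hk, hkN, hki⟩ := exists_map_normalizer_fn c.pS c.sat hU₀ hUU₀
  obtain ⟨e, β, he, hβ, hke⟩ := c.dec _ k hk
  have hYN : normalizerIn Y U ≤ normalizerIn S U := inf_le_inf_right _ hY
  have heq : T ⊔ normalizerIn Y U = Y := le_antisymm (sup_le hT inf_le_left) hcov
  have he' := c.kmap_down hβ.le (T := T) le_sup_left (sup_le_sup_left hYN T) (c.kmap_restrict he hYN) le_sup_right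
  rw [heq] at he'
  obtain ⟨V, hV⟩ : ∃ V, V = im U e := ⟨_, rfl⟩
  have hUN : U ≤ normalizerIn Y U := le_normalizerIn (hU.1.trans hT)
  have hem : ∀ x ∈ normalizerIn Y U, e x ∈ normalizerIn Y V := fun x hx =>
    ⟨c.kmap_mem hY hT he' hx, hV ▸ (he'.1.mem_normalizer hUN hx hx.2).2⟩
  have hVc : E.IsCentric V := hV ▸ c.centric_im hU (he'.1.restrict hUN)
  have hVT : V ≤ T := hVc.1
  have hVY : V ≤ T ⊔ normalizerIn S U := hVT.trans le_sup_left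
  have hi : im V β = U₀ := by
    rw [hV, ← (he'.1.restrict hUN).im_comp, ← hki]
    exact im_congr fun x hx => (hke x (hYN (hUN hx))).symm
  have hβT := hβ.restrict (le_sup_left : T ≤ T ⊔ normalizerIn S U)
  have hiT := c.im_T le_sup_left hβ
  refine ⟨V, e, ⟨⟨hVT, fun V₁ hV₁ => ?_⟩, hVc, fun y hy => ?_⟩, he', hem, hV.symm⟩
  · obtain ⟨f, hf, hfi⟩ := isConj_iff.1 hV₁
    have hU₀T : U₀ ≤ T := hi ▸ im_le_iff.2 fun x hx => hiT.le (mem_im_of_mem (hVT hx))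
    obtain ⟨h, hh, hhe⟩ := c.strongInv V T f β hVT le_rfl hf (fun x hx => hf.mem hx) hβT
    have hV₁T : V₁ ≤ T := hfi ▸ hf.im_le
    have hfi' : im (im V β) h = im V₁ β := by
      rw [← hfi, ← hf.im_comp, ← (hβT.restrict hVT).im_comp]
      exact im_congr hhe
    rw [hi] at hh hfi'
    have h1 := (fn_of_fn c.pS c.n.1 hU₀ hU₀T).2 _ (isConj_iff.2 ⟨h, hh, hfi'⟩)
    haveI : Finite ↥(normalizerIn T (im V₁ β)) := finite_of_le (inf_le_left.trans c.tS)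
    have h2 : Nat.card ↥(normalizerIn T V₁) ≤ Nat.card ↥(normalizerIn T (im V₁ β)) :=
      (hβT.restrict inf_le_left).card_le fun x hx => ⟨hiT.le (mem_im_of_mem hx.1),
        (hβT.mem_normalizer hV₁T hx.1 hx.2).2⟩
    obtain ⟨k', hk', hk'β, -, hk'i⟩ := hβT.exists_inv
    rw [hiT] at hk' hk'i
    haveI : Finite ↥(normalizerIn T V) := finite_of_le (inf_le_left.trans c.tS)
    have h3 : im U₀ k' = V := by
      rw [← hi, ← (hβT.restrict hVT).im_comp, im_congr (f := k' ∘ β) (g := id) fun x hx => hk'β x (hVT hx), im_id]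
    refine h2.trans (h1.trans ((hk'.restrict inf_le_left).card_le fun x hx =>
      ⟨hk'i.le (mem_im_of_mem hx.1), h3 ▸ (hk'.mem_normalizer hU₀T hx.1 hx.2).2⟩))
  · obtain ⟨t, ht, n, hn, rfl⟩ := c.mem_cov hY (inf_le_left : normalizerIn Y U ≤ Y) (hcov hy)
    refine Subgroup.mul_mem _ (Subgroup.mem_sup_left ht) ?_
    obtain ⟨s, hs⟩ : ∃ s, s = n⁻¹ * e n := ⟨_, rfl⟩
    rw [show n = e n * s⁻¹ by rw [hs]; group]
    exact Subgroup.mul_mem _ (Subgroup.mem_sup_right (hem n hn))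
      (Subgroup.inv_mem _ (Subgroup.mem_sup_left (hs ▸ c.kmap_shift hY hT he' hn)))

/-- The automorphisms from `N_Y(Q)` form a Sylow subgroup of those with the subsystem. -/
theorem Ctx.sylow_autJoin (hY : Y ≤ S) (hT : T ≤ Y) (hQ : E.IsFullyNormalized Q) :
    SylIn p (autInducedBy (normalizerIn Y Q) Q) (E.autGroup Q ⊔ autInducedBy (normalizerIn Y Q) Q) ∧
      autInducedBy (normalizerIn Y Q) Q ⊓ E.autGroup Q ≤ autInducedBy T Q ∧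
      (∀ a ∈ E.autGroup Q ⊔ autInducedBy (normalizerIn Y Q) Q, ∃ r ∈ autInducedBy (normalizerIn Y Q) Q,
        ∃ ε ∈ E.autGroup Q, a = r * ε) := by
  have hQT := hQ.1
  have hQS := hQT.trans c.tS
  haveI := c.finT
  haveI := finite_of_le hQS
  haveI := mulAut_finite_of_le hQS
  obtain ⟨A, hA⟩ : ∃ A, A = autInducedBy (normalizerIn Y Q) Q := ⟨_, rfl⟩
  have hsyl := (fa_iff.1 (fc_fa_of_fn c.pT c.eSat hQ).2).2
  have hTA : autInducedBy T Q ≤ A := fun a ha => by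
    obtain ⟨t, ht, hta⟩ := mem_autInducedBy.1 ha
    exact hA ▸ mem_autInducedBy.2 ⟨t, ⟨hT ht, mem_normalizer_of_conj_aut hta⟩, hta⟩
  have hAp : IsPGroup p A := hA ▸ (isPGroup_autS (P := Q) c.pS).to_le fun a ha => by
    obtain ⟨y, hy, hya⟩ := mem_autInducedBy.1 ha
    exact mem_autInducedBy.2 ⟨y, hY hy.1, hya⟩
  have hAF : A ≤ F.autGroup Q := fun a ha => by
    obtain ⟨y, hy, hya⟩ := mem_autInducedBy.1 (hA ▸ ha)
    exact mem_autGroup_of_map ((map_conjBy hQS (hY hy.1)).congr fun x hx => (hya x hx).symm)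
  have hAn : A ≤ Subgroup.normalizer (E.autGroup Q : Set (MulAut Q)) := fun a ha =>
    Subgroup.mem_normalizer_iff.2 fun x => ⟨fun hx => conj_mem_sub c.inv hQT (hAF ha) hx, fun hx => by
      simpa [mul_assoc] using conj_mem_sub c.inv hQT (inv_mem (hAF ha)) hx⟩
  have hint : A ⊓ E.autGroup Q ≤ autInducedBy T Q :=
    (hsyl.eq_of_le (hAp.to_inf_left) (le_inf hTA (autInducedBy_le_autGroup hQT)) inf_le_right).le
  have hdec : ∀ a ∈ E.autGroup Q ⊔ A, ∃ r ∈ A, ∃ ε ∈ E.autGroup Q, a = r * ε := fun a ha => by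
    rw [sup_comm, ← SetLike.mem_coe, Subgroup.coe_mul_of_left_le_normalizer_right A _ hAn] at ha
    obtain ⟨r, hr, ε, hε, rfl⟩ := ha
    exact ⟨r, hr, ε, hε, rfl⟩
  rw [← hA]
  refine ⟨?_, hint, hdec⟩
  obtain ⟨B, hB, hle⟩ := exists_sylIn_ge hAp (le_sup_right : A ≤ E.autGroup Q ⊔ A)
  suffices B ≤ A from (le_antisymm hle this) ▸ hB
  intro b hb
  obtain ⟨r, hr, ε, hε, rfl⟩ := hdec b (hB.le hb)
  have hεB : ε ∈ B := by simpa using B.mul_mem (B.inv_mem (hle hr)) hb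
  exact A.mul_mem hr (hTA ((hsyl.eq_of_le (hB.isPGroup.to_inf_left (K := E.autGroup Q))
    (le_inf (hTA.trans hle) (autInducedBy_le_autGroup hQT)) inf_le_right).le ⟨hεB, hε⟩))

/-- **Connection**: every conjugate in `E` of a good subgroup has its normalizer mapped into that of the good one. -/
theorem Ctx.conn : ∀ (Y Q Q' : Subgroup Ω), Y ≤ S → T ≤ Y → c.Good Y Q → E.IsConj Q' Q →
    ∃ h, c.KMap T Y (normalizerIn Y Q') h ∧ (∀ x ∈ normalizerIn Y Q', h x ∈ normalizerIn Y Q) ∧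
      im Q' h = Q := by
  haveI := c.finT
  suffices H : ∀ (n m : ℕ) (Y Q Q' : Subgroup Ω), Nat.card T - Nat.card Q = n →
      Nat.card T - Nat.card ↥(normalizerIn T Q') = m → Y ≤ S → T ≤ Y → c.Good Y Q → E.IsConj Q' Q →
      ∃ h, c.KMap T Y (normalizerIn Y Q') h ∧ im Q' h = Q by
    intro Y Q Q' hY hT hQ hc
    obtain ⟨h, hh, hi⟩ := H _ _ Y Q Q' rfl rfl hY hT hQ hc
    refine ⟨h, hh, fun x hx => ⟨c.kmap_mem hY hT hh hx, ?_⟩, hi⟩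
    have := (hh.1.mem_normalizer (le_normalizerIn ((isConj_le hc).1.trans hT)) hx hx.2).2
    rwa [hi] at this
  intro n
  induction n using Nat.strong_induction_on with
  | _ n ihn =>
  intro m
  induction m using Nat.strong_induction_on with
  | _ m ihm =>
  intro Y Q Q' hn hm hY hT hQ hc
  have hQT := hQ.fn.1
  have hQ'T : Q' ≤ T := (isConj_le hc).1
  rcases eq_or_lt_of_le hQT with rfl | hlt
  · obtain rfl := Subgroup.eq_of_le_of_card_ge hQ'T (isConj_card hc).ge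
    exact ⟨id, c.kmap_id hY hT inf_le_left, im_id⟩
  haveI := finite_of_le hY
  haveI := finite_of_le (hQT.trans c.tS)
  haveI := mulAut_finite_of_le (hQT.trans c.tS)
  obtain ⟨e₀, he₀, he₀i⟩ := isConj_iff.1 hc
  obtain ⟨e, he⟩ := exists_equiv he₀ he₀i
  obtain ⟨hsyl, hint, hdec⟩ := c.sylow_autJoin hY hT hQ.fn
  have hQN : Q' ≤ normalizerIn Y Q' := le_normalizerIn (hQ'T.trans hT)
  obtain ⟨k₀, hk₀, hk₀e, hek₀, hk₀i⟩ := he₀.exists_inv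
  rw [he₀i] at hk₀ hek₀ hk₀i
  -- conjugations from the normalizer, moved to `Q`
  have hkey : ∀ y ∈ normalizerIn Y Q', ∀ d : MulAut Q', (∀ x ∈ Q', av d x = y * x * y⁻¹) →
      ∃ t ∈ T, ∃ k ∈ normalizerIn Y Q, y = t * k ∧ ∀ a : MulAut Q, (∀ x ∈ Q, av a x = k * x * k⁻¹) →
        MulAut.congr e d * a⁻¹ ∈ E.autGroup Q := by
    intro y hy d hd
    obtain ⟨t, ht, k, hk, rfl⟩ := c.mem_cov hY (inf_le_left : normalizerIn Y Q ≤ Y) (hQ.cov hy.1)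
    refine ⟨t, ht, k, hk, rfl, fun a ha => mem_autGroup_of_map ?_⟩
    obtain ⟨h, hh, hhe⟩ := c.strongInv Q T k₀ (fun x => k * x * k⁻¹) hQT le_rfl hk₀
      (fun x hx => hk₀.mem hx) (map_conjBy c.tS (hY hk.1))
    have hi : im Q (fun x => k * x * k⁻¹) = Q := by
      refine Subgroup.eq_of_le_of_card_ge (im_le_iff.2 fun x hx => conj_mem_of_normalizer hk.2 hx) ?_
      exact (map_conjBy (F := F) (hQT.trans c.tS) (hY hk.1)).card_im.ge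
    rw [hi] at hh
    have hval : ∀ z ∈ Q, h z = k * k₀ (k⁻¹ * z * k) * k⁻¹ ∧ t * h z * t⁻¹ ∈ Q' ∧
        av (MulAut.congr e d * a⁻¹) z = e₀ (t * h z * t⁻¹) := by
      intro z hz
      have hz' : k⁻¹ * z * k ∈ Q := by simpa using conj_mem_of_normalizer (Subgroup.inv_mem _ hk.2) hz
      have h1 := hhe _ hz'
      rw [show k * (k⁻¹ * z * k) * k⁻¹ = z by group] at h1
      have h2 : av a⁻¹ z = k⁻¹ * z * k := by
        conv_lhs => rw [show z = av a (k⁻¹ * z * k) by rw [ha _ hz']; group]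
        exact av_inv_av a hz'
      have h3 : t * h z * t⁻¹ = av d (k₀ (k⁻¹ * z * k)) := by
        rw [h1, hd _ (hek₀ _ hz').2]; group
      refine ⟨h1, h3 ▸ av_mem d (hek₀ _ hz').2, ?_⟩
      rw [av_mul _ _ hz, h2, h3, ← av_congr_apply he d (hek₀ _ hz').2, (hek₀ _ hz').1]
    refine (((hh.comp (map_conjBy (F := E) hh.im_le ht) fun x hx => mem_im_of_mem hx).comp he₀
      fun x hx => (hval x hx).2.1)).congr fun z hz => (hval z hz).2.2.symm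
  obtain ⟨D, hD⟩ : ∃ D, D = (autInducedBy (normalizerIn Y Q') Q').map (MulAut.congr e).toMonoidHom := ⟨_, rfl⟩
  have hDA : D ≤ E.autGroup Q ⊔ autInducedBy (normalizerIn Y Q) Q := by
    rw [hD]
    rintro _ ⟨d, hd, rfl⟩
    obtain ⟨y, hy, hyd⟩ := mem_autInducedBy.1 hd
    obtain ⟨t, ht, k, hk, -, hka⟩ := hkey y hy d hyd
    obtain ⟨a, ha, haS⟩ := exists_aut_conj (P := Q) hk.2
    rw [show (MulAut.congr e).toMonoidHom d = MulAut.congr e d * a⁻¹ * a by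
      rw [inv_mul_cancel_right]; rfl]
    exact Subgroup.mul_mem_sup (hka a ha) (haS _ hk)
  have hDp : IsPGroup p D := hD ▸ ((isPGroup_autS (P := Q') c.pS).to_le fun a ha => by
    obtain ⟨y, hy, hya⟩ := mem_autInducedBy.1 ha
    exact mem_autInducedBy.2 ⟨y, hY hy.1, hya⟩).map _
  obtain ⟨a₀, ha₀, ha₀D⟩ := hsyl.conj_le hDp hDA
  obtain ⟨r, hr, ε, hε, rfl⟩ := hdec a₀ ha₀
  have hεD : cj D ε ≤ autInducedBy (normalizerIn Y Q) Q := by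
    have h1 := cj_mono ha₀D r⁻¹
    rwa [cj_cj, inv_mul_cancel_left, cj_eq_self (Subgroup.le_normalizer (Subgroup.inv_mem _ hr))] at h1
  obtain ⟨e₁, he₁d⟩ : ∃ e₁, e₁ = fun x => av ε (e₀ x) := ⟨_, rfl⟩
  have he₁ : Map E Q' e₁ := he₁d ▸ he₀.comp (map_of_mem_autGroup hQT hε) fun x hx => he₀i.le (mem_im_of_mem hx)
  have he₁i : im Q' e₁ = Q := by
    rw [he₁d, show (fun x => av ε (e₀ x)) = av ε ∘ e₀ from rfl, he₀.im_comp, he₀i, im_av]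
  -- the elements of `N_Y(Q)` matching the ones of `N_Y(Q')`
  have hmatch : ∀ y ∈ normalizerIn Y Q', ∃ t ∈ T, ∃ k ∈ normalizerIn Y Q, y = t * k ∧
      ∀ x ∈ Q', e₁ (y * x * y⁻¹) = k * e₁ x * k⁻¹ := by
    intro y hy
    obtain ⟨d, hd, hdS⟩ := exists_aut_conj (P := Q') hy.2
    obtain ⟨t, ht, k, hk, hyk, hka⟩ := hkey y hy d hd
    obtain ⟨a, ha, haS⟩ := exists_aut_conj (P := Q) hk.2
    have hb := hεD (conj_mem_cj (g := ε) (hD ▸ ⟨d, hdS _ hy, rfl⟩ : (MulAut.congr e) d ∈ D))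
    obtain ⟨b, hbd⟩ : ∃ b, b = ε * MulAut.congr e d * ε⁻¹ := ⟨_, rfl⟩
    rw [← hbd] at hb
    have hbE : b * a⁻¹ ∈ E.autGroup Q := by
      have h2 : a * ε⁻¹ * a⁻¹ ∈ E.autGroup Q := conj_mem_sub c.inv hQT (mem_autGroup_of_map
        ((map_conjBy (hQT.trans c.tS) (hY hk.1)).congr fun x hx => (ha x hx).symm)) (inv_mem hε)
      rw [hbd, show ε * MulAut.congr e d * ε⁻¹ * a⁻¹ = ε * (MulAut.congr e d * a⁻¹) * (a * ε⁻¹ * a⁻¹) by group]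
      exact mul_mem (mul_mem hε (hka a ha)) h2
    obtain ⟨t₁, ht₁, ht₁e⟩ := mem_autInducedBy.1 (hint ⟨mul_mem hb (Subgroup.inv_mem _ (haS _ hk)), hbE⟩)
    have ht₁n : t₁ ∈ Subgroup.normalizer (Q : Set Ω) := mem_normalizer_of_conj_aut ht₁e
    refine ⟨t * t₁⁻¹, T.mul_mem ht (T.inv_mem ht₁), t₁ * k,
      ⟨Y.mul_mem (hT ht₁) hk.1, Subgroup.mul_mem _ ht₁n hk.2⟩, by rw [hyk]; group, fun x hx => ?_⟩
    have hx₀ : e₀ x ∈ Q := he₀i.le (mem_im_of_mem hx)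
    have h1 : av b (av ε (e₀ x)) = e₁ (y * x * y⁻¹) := by
      rw [hbd, av_mul _ _ (av_mem ε hx₀), av_inv_av ε hx₀, av_mul _ _ hx₀, av_congr_apply he d hx, hd x hx, he₁d]
    have hx₁ : av ε (e₀ x) ∈ Q := av_mem ε hx₀
    have h2 : av (b * a⁻¹) (k * av ε (e₀ x) * k⁻¹) = av b (av ε (e₀ x)) := by
      rw [← ha _ hx₁, av_mul _ _ (av_mem a hx₁), av_inv_av a hx₁]
    rw [← h1, ← h2, ht₁e _ (conj_mem_of_normalizer hk.2 hx₁), he₁d]
    group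
  -- extend to the normalizer in `T`
  obtain ⟨U', hU'⟩ : ∃ U', U' = normalizerIn T Q' := ⟨_, rfl⟩
  obtain ⟨e₂, he₂, he₂e⟩ := (receptive_iff.1 (receptive_of_fc c.pT c.eSat (fc_fa_of_fn c.pT c.eSat hQ.fn).1)).2
    Q' e₁ he₁ he₁i
  have hUle : U' ≤ Nf T Q' e₁ := by
    rw [hU']
    intro u hu
    obtain ⟨t, ht, k, hk, huk, hval⟩ := hmatch u ⟨hT hu.1, hu.2⟩
    have hkT : k ∈ T := by
      rw [show k = t⁻¹ * u by rw [huk]; group]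
      exact T.mul_mem (T.inv_mem ht) hu.1
    exact mem_Nf.2 ⟨hu.1, hu.2, k, hkT, hval⟩
  have he₂U := he₂.restrict hUle
  have hQ'U : Q' ≤ U' := hU' ▸ le_normalizerIn hQ'T
  obtain ⟨U'', hU''⟩ : ∃ U'', U'' = im U' e₂ := ⟨_, rfl⟩
  have he₂Q : im Q' e₂ = Q := (im_congr he₂e).trans he₁i
  have hQU'' : Q ≤ U'' := hU'' ▸ he₂Q.ge.trans (im_mono hQ'U)
  have hU''N : U'' ≤ normalizerIn T Q := by
    rw [hU'']
    refine im_le_iff.2 fun u hu => ⟨he₂U.mem hu, ?_⟩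
    have h1 := (he₂.mem_normalizer (le_Nf he₁) (hUle hu) (hU'.le hu).2).2
    rwa [he₂Q] at h1
  have hU'T : U' ≤ T := hU' ▸ inf_le_left
  have hU''T : U'' ≤ T := hU''N.trans inf_le_left
  obtain ⟨Y₁, hY₁⟩ : ∃ Y₁, Y₁ = T ⊔ normalizerIn Y Q' := ⟨_, rfl⟩
  have hY₁Y : Y₁ ≤ Y := hY₁ ▸ sup_le hT inf_le_left
  have hTY₁ : T ≤ Y₁ := hY₁ ▸ le_sup_left
  have hY₁S := hY₁Y.trans hY
  have hmem : ∀ y ∈ Y₁, ∃ t ∈ T, ∃ k ∈ normalizerIn Y₁ Q, y = t * k ∧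
      k ∈ Subgroup.normalizer (U'' : Set Ω) := by
    intro y hy
    obtain ⟨t, ht, y', hy', rfl⟩ := c.mem_cov hY (inf_le_left : normalizerIn Y Q' ≤ Y) (hY₁ ▸ hy)
    obtain ⟨t', ht', k, hk, hyk, hval⟩ := hmatch y' hy'
    have hkY₁ : k ∈ Y₁ := by
      rw [show k = t'⁻¹ * y' by rw [hyk]; group]
      exact Subgroup.mul_mem _ (hTY₁ (T.inv_mem ht')) (hY₁ ▸ Subgroup.mem_sup_right hy')
    refine ⟨t * t', T.mul_mem ht ht', k, ⟨hkY₁, hk.2⟩, by rw [hyk]; group,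
      mem_normalizer_of_conj_mem (S := S) (hU''T.trans c.tS) fun z hz => ?_⟩
    obtain ⟨u, hu, rfl⟩ := he₂U.mem_im.1 (hU'' ▸ hz)
    obtain ⟨u', hu'⟩ : ∃ u', u' = y' * u * y'⁻¹ := ⟨_, rfl⟩
    have hu'U : u' ∈ U' := by
      subst hU'
      rw [hu']
      exact ⟨stronglyClosed_conj_mem c.tC (hY hy'.1) hu.1,
        Subgroup.mul_mem _ (Subgroup.mul_mem _ hy'.2 hu.2) (Subgroup.inv_mem _ hy'.2)⟩
    have hd : (e₂ u')⁻¹ * (k * e₂ u * k⁻¹) ∈ Q := by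
      refine centric_inv_mem hQ.centric (T.mul_mem (T.inv_mem (he₂U.mem hu'U))
        (stronglyClosed_conj_mem c.tC (hY hk.1) (he₂U.mem hu))) fun w hw => ?_
      obtain ⟨x, hx, rfl⟩ := he₁.mem_im.1 (he₁i.ge hw)
      have hconj : ∀ v ∈ U', ∀ x ∈ Q', e₂ v * e₁ x * (e₂ v)⁻¹ = e₁ (v * x * v⁻¹) ∧ v * x * v⁻¹ ∈ Q' :=
        fun v hv x hx => by
          have h1 : v * x * v⁻¹ ∈ Q' := conj_mem_of_normalizer (hU'.le hv).2 hx
          rw [← he₂e x hx, ← he₂e _ h1, he₂U.map_conj hv (hQ'U hx)]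
          exact ⟨rfl, h1⟩
      have hx₁ : y'⁻¹ * x * y' ∈ Q' := by simpa using conj_mem_of_normalizer (Subgroup.inv_mem _ hy'.2) hx
      have a1 : k * e₁ (y'⁻¹ * x * y') * k⁻¹ = e₁ x := by rw [← hval _ hx₁]; congr 1; group
      have a2 : k * (e₂ u * e₁ (y'⁻¹ * x * y') * (e₂ u)⁻¹) * k⁻¹ = e₁ (u' * x * u'⁻¹) := by
        rw [(hconj u hu _ hx₁).1, ← hval _ (hconj u hu _ hx₁).2, hu']; congr 1; group
      have a3 := (hconj u' hu'U x hx).1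
      have a4 : (k * e₂ u * k⁻¹) * e₁ x * (k * e₂ u * k⁻¹)⁻¹ = e₂ u' * e₁ x * (e₂ u')⁻¹ := by
        rw [a3, ← a2, ← a1]; group
      calc e₁ x * ((e₂ u')⁻¹ * (k * e₂ u * k⁻¹))
          = (e₂ u')⁻¹ * (e₂ u' * e₁ x * (e₂ u')⁻¹) * (k * e₂ u * k⁻¹) := by group
        _ = (e₂ u')⁻¹ * ((k * e₂ u * k⁻¹) * e₁ x * (k * e₂ u * k⁻¹)⁻¹) * (k * e₂ u * k⁻¹) := by rw [a4]
        _ = _ := by group
    have h1 := U''.mul_mem (hU'' ▸ mem_im_of_mem hu'U) (hQU'' hd)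
    rwa [mul_inv_cancel_left] at h1
  have hQ₁ : c.Good Y₁ Q := ⟨hQ.fn, hQ.centric, fun y hy => by
    obtain ⟨t, ht, k, hk, rfl, -⟩ := hmem y hy
    exact Subgroup.mul_mem_sup ht hk⟩
  have hU''c : E.IsCentric U'' := centric_mono hQ.centric hQU'' hU''T
  have hcov'' : Y₁ ≤ T ⊔ normalizerIn Y₁ U'' := fun y hy => by
    obtain ⟨t, ht, k, hk, rfl, hkU⟩ := hmem y hy
    exact Subgroup.mul_mem_sup ht ⟨hk.1, hkU⟩
  obtain ⟨V, h₂, hV, hh₂, hh₂m, hh₂i⟩ := c.exists_good hY₁S hTY₁ hU''c hcov''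
  have hU''Y : U'' ≤ normalizerIn Y₁ U'' := le_normalizerIn (hU''T.trans hTY₁)
  have hcU : E.IsConj U' V := by
    have h1 := (c.kmap_E hY₁S hTY₁ hh₂).restrict (le_inf hU''Y hU''T)
    refine isConj_iff.2 ⟨h₂ ∘ e₂, he₂U.comp h1 fun x hx => hU'' ▸ mem_im_of_mem hx, ?_⟩
    rw [he₂U.im_comp, ← hU'', hh₂i]
  have hcardV : Nat.card V = Nat.card U' := (isConj_card hcU).symm
  have hcardQ : Nat.card Q' = Nat.card Q := isConj_card hc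
  have hU'lt : Nat.card Q' < Nat.card U' := card_lt_of_lt (hU' ▸ lt_normalizerIn c.pT
    (lt_of_le_of_ne hQ'T fun h => hlt.ne (Subgroup.eq_of_le_of_card_ge hQT (h ▸ hcardQ.le)))) (hU'T.trans c.tS)
  have hU'le := Subgroup.card_le_of_le hU'T
  obtain ⟨h₁, hh₁, hh₁i⟩ := ihn (Nat.card T - Nat.card V) (by omega) _ Y₁ V U' rfl rfl hY₁S hTY₁ hV hcU
  obtain ⟨G, _, ι, W, L⟩ := c.exists_loc hY₁S hTY₁ hV.centric hV.fn
  haveI := L.finite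
  have hh₁m : ∀ x ∈ normalizerIn Y₁ U', h₁ x ∈ normalizerIn Y₁ V := fun x hx => by
    refine ⟨c.kmap_mem hY₁S hTY₁ hh₁ hx, ?_⟩
    have := (hh₁.1.mem_normalizer (le_normalizerIn (hU'T.trans hTY₁)) hx hx.2).2
    rwa [hh₁i] at this
  have hU'Y : U' ≤ normalizerIn Y₁ U' := le_normalizerIn (hU'T.trans hTY₁)
  have hh₁E := (c.kmap_E hY₁S hTY₁ hh₁).restrict (le_inf hU'Y hU'T)
  have hh₂E := (c.kmap_E hY₁S hTY₁ hh₂).restrict (le_inf hU''Y hU''T)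
  obtain ⟨k₁, hk₁, hk₁h, hhk₁, hk₁i⟩ := hh₁E.exists_inv
  rw [hh₁i] at hk₁ hhk₁ hk₁i
  have hcmp : Map E V (h₂ ∘ e₂ ∘ k₁) := (hk₁.comp he₂U fun z hz => (hhk₁ z hz).2).comp hh₂E
    fun z hz => hU'' ▸ mem_im_of_mem (hhk₁ z hz).2
  haveI := finite_of_le (hV.fn.1.trans c.tS)
  obtain ⟨a, ha, hae⟩ := exists_aut hcmp (Subgroup.eq_of_le_of_card_ge
    (im_le_iff.2 fun z hz => hh₂i.le (mem_im_of_mem (hU'' ▸ mem_im_of_mem (hhk₁ z hz).2))) hcmp.card_im.ge)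
  obtain ⟨w, hw, hwa⟩ := L.lift a ha
  have hwv : ∀ u ∈ U', act ι w (h₁ u) = h₂ (e₂ u) := fun u hu => by
    rw [← hwa _ (hh₁i.le (mem_im_of_mem hu)), hae _ (hh₁i.le (mem_im_of_mem hu)), Function.comp_apply,
      Function.comp_apply, hk₁h u hu]
  -- the two stabilized subgroups
  obtain ⟨D₁, hD₁⟩ : ∃ D₁, D₁ = normalizerIn Y Q' := ⟨_, rfl⟩
  obtain ⟨D₂, hD₂⟩ : ∃ D₂, D₂ = normalizerIn Y₁ Q ⊓ normalizerIn Y₁ U'' := ⟨_, rfl⟩
  have hD₁U : D₁ ≤ normalizerIn Y₁ U' := by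
    rw [hD₁, hU']
    refine fun y hy => ⟨hY₁ ▸ Subgroup.mem_sup_right hy, mem_normalizer_of_conj_mem (S := S)
      (inf_le_left.trans c.tS) fun z hz => ?_⟩
    exact ⟨stronglyClosed_conj_mem c.tC (hY hy.1) hz.1,
      Subgroup.mul_mem _ (Subgroup.mul_mem _ hy.2 hz.2) (Subgroup.inv_mem _ hy.2)⟩
  obtain ⟨Q₅, hQ₅⟩ : ∃ Q₅, Q₅ = im Q h₂ := ⟨_, rfl⟩
  have hQ₅N : Q₅ ≤ normalizerIn Y₁ V := hQ₅ ▸ im_le_iff.2 fun x hx => hh₂m x (hU''Y (hQU'' hx))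
  obtain ⟨St, hSt⟩ : ∃ St, St = Subgroup.normalizer (imG ι Q₅ : Set G) := ⟨_, rfl⟩
  obtain ⟨H₁, hH₁⟩ : ∃ H₁, H₁ = imG ι (im D₁ h₁) := ⟨_, rfl⟩
  obtain ⟨H₂, hH₂⟩ : ∃ H₂, H₂ = imG ι (im D₂ h₂) := ⟨_, rfl⟩
  have hd₁ : im D₁ h₁ ≤ normalizerIn Y₁ V := im_le_iff.2 fun x hx => hh₁m x (hD₁U hx)
  have hd₂ : im D₂ h₂ ≤ normalizerIn Y₁ V := im_le_iff.2 fun x hx => hh₂m x ((hD₂ ▸ hx :
    x ∈ normalizerIn Y₁ Q ⊓ normalizerIn Y₁ U'')).2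
  have hD₂U : D₂ ≤ normalizerIn Y₁ U'' := hD₂ ▸ inf_le_right
  have hh₂Q := hh₂.1.restrict (hQU''.trans hU''Y)
  have hwQ : ∀ x ∈ Q', w * ue ι (h₁ x) * w⁻¹ = ue ι (h₂ (e₂ x)) := fun x hx => by
    rw [← hwv x (hQ'U hx), ue_act (Subgroup.map_le_range ι _
      (L.qn.conj_mem _ (ue_mem_up L.qN (hh₁i.le (mem_im_of_mem (hQ'U hx)))) w))]
  have hwH : cj H₁ w ≤ St := by
    rw [hH₁, hSt]
    rintro _ ⟨z, hz, rfl⟩
    obtain ⟨d, hd, rfl⟩ := (mem_imG hd₁).1 hz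
    obtain ⟨y, hy, rfl⟩ := (hh₁.1.restrict hD₁U).mem_im.1 hd
    refine mem_normalizer_of_cj_le ?_
    rintro _ ⟨z', hz', rfl⟩
    obtain ⟨q, hq, rfl⟩ := (mem_imG hQ₅N).1 hz'
    obtain ⟨x₀, hx₀, rfl⟩ := hh₂Q.mem_im.1 (hQ₅ ▸ hq)
    obtain ⟨x, hx, rfl⟩ := (he₂.restrict (le_Nf he₁)).mem_im.1 (he₂Q.ge hx₀)
    have hyx : y * x * y⁻¹ ∈ Q' := conj_mem_of_normalizer (hD₁.le hy).2 hx
    show w * ue ι (h₁ y) * w⁻¹ * ue ι (h₂ (e₂ x)) * (w * ue ι (h₁ y) * w⁻¹)⁻¹ ∈ imG ι Q₅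
    rw [← hwQ x hx, show w * ue ι (h₁ y) * w⁻¹ * (w * ue ι (h₁ x) * w⁻¹) * (w * ue ι (h₁ y) * w⁻¹)⁻¹
        = w * (ue ι (h₁ y) * ue ι (h₁ x) * (ue ι (h₁ y))⁻¹) * w⁻¹ by group,
      ← ue_conj (hh₁m y (hD₁U hy)) (hh₁m x (hU'Y (hQ'U hx))), ← hh₁.1.map_conj (hD₁U hy) (hU'Y (hQ'U hx)),
      hwQ _ hyx]
    exact ue_mem_up hQ₅N (hQ₅ ▸ mem_im_of_mem (he₂Q.le (mem_im_of_mem hyx)))
  have hH₂St : H₂ ≤ St := by
    rw [hH₂, hSt]
    intro z hz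
    obtain ⟨d, hd, rfl⟩ := (mem_imG hd₂).1 hz
    obtain ⟨y, hy, rfl⟩ := (hh₂.1.restrict hD₂U).mem_im.1 hd
    refine mem_normalizer_of_cj_le ?_
    rintro _ ⟨z', hz', rfl⟩
    obtain ⟨q, hq, rfl⟩ := (mem_imG hQ₅N).1 hz'
    obtain ⟨x, hx, rfl⟩ := hh₂Q.mem_im.1 (hQ₅ ▸ hq)
    show ue ι (h₂ y) * ue ι (h₂ x) * (ue ι (h₂ y))⁻¹ ∈ imG ι Q₅
    rw [← ue_conj (hh₂m y (hD₂U hy)) (hh₂m x (hU''Y (hQU'' hx))),
      ← hh₂.1.map_conj (hD₂U hy) (hU''Y (hQU'' hx))]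
    exact ue_mem_up hQ₅N (hQ₅ ▸ mem_im_of_mem (conj_mem_of_normalizer ((hD₂.le hy).1).2 hx))
  -- `H₂` covers the quotient
  have hcovG : ∀ x : G, ∃ r ∈ H₂, r⁻¹ * x ∈ W := by
    intro x
    haveI := L.normal
    obtain ⟨b, ⟨⟨z, hz⟩, rfl⟩, w₀, hw₀, rfl⟩ := Subgroup.mem_sup_of_normal_right.1 (L.gen.ge (Subgroup.mem_top x))
    obtain ⟨t, ht, k, hk, hzk, hkU⟩ := hmem z hz.1
    have hkD : k ∈ D₂ := hD₂ ▸ ⟨hk, hk.1, hkU⟩
    refine ⟨ue ι (h₂ k), hH₂ ▸ ue_mem_up hd₂ (mem_im_of_mem hkD), ?_⟩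
    have h2k := hd₂ (mem_im_of_mem hkD)
    rw [← mul_assoc, ← ue_apply hz, ← ue_inv h2k, ← ue_mul (Subgroup.inv_mem _ h2k) hz]
    refine W.mul_mem ((L.inf.ge (ue_mem_up inf_le_left ⟨Subgroup.mul_mem _ (Subgroup.inv_mem _ h2k) hz, ?_⟩)).2) hw₀
    have hs := c.kmap_shift hY₁S hTY₁ hh₂ (hD₂U hkD)
    rw [show (h₂ k)⁻¹ * z = (k⁻¹ * h₂ k)⁻¹ * (k⁻¹ * t * k) by rw [hzk]; group]
    exact T.mul_mem (T.inv_mem hs) (by simpa using stronglyClosed_conj_mem c.tC (S.inv_mem (hY₁S hk.1)) ht)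
  have hH₁p : IsPGroup p (cj H₁ w) :=
    isPGroup_cj (L.syl.isPGroup.to_le (hH₁ ▸ Subgroup.map_le_range ι _)) w
  obtain ⟨R, hR, hH₂R⟩ := exists_sylIn_ge (L.syl.isPGroup.to_le (hH₂ ▸ Subgroup.map_le_range ι _)) hH₂St
  obtain ⟨v₀, hv₀, hv₀R⟩ := hR.conj_le hH₁p hwH
  obtain ⟨r₀, hr₀, hv⟩ := hcovG v₀
  obtain ⟨v, hvd⟩ : ∃ v, v = r₀⁻¹ * v₀ := ⟨_, rfl⟩
  rw [← hvd] at hv
  have hvR : cj H₁ (v * w) ≤ R := by
    have h1 := cj_mono hv₀R r₀⁻¹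
    rw [cj_cj, cj_cj, cj_eq_self (Subgroup.le_normalizer (Subgroup.inv_mem _ (hH₂R hr₀)))] at h1
    rwa [hvd]
  have hvSt : v ∈ St := hvd ▸ St.mul_mem (St.inv_mem (hH₂St hr₀)) hv₀
  obtain ⟨x₀, -, hx₀⟩ := L.syl.conj_le hR.isPGroup le_top
  haveI := L.normal
  obtain ⟨b, hb, x, hx, hx₀e⟩ := Subgroup.mem_sup_of_normal_right.1 (L.gen.ge (Subgroup.mem_top x₀))
  have hxR : cj R x ≤ ι.range := by
    have h1 := cj_mono hx₀ b⁻¹
    rw [cj_cj, cj_eq_self (Subgroup.le_normalizer (Subgroup.inv_mem _ hb)), ← hx₀e, inv_mul_cancel_left] at h1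
    exact h1
  have hQ₅V : Q₅ ≤ V := hQ₅ ▸ hh₂i ▸ im_mono hQU''
  obtain ⟨hVN, hVW⟩ : V ≤ normalizerIn Y₁ V ∧ imG ι V ≤ W := by
    refine ⟨L.qN, fun z hz => ?_⟩
    obtain ⟨v₁, hv₁, rfl⟩ := (mem_imG L.qN).1 hz
    exact (L.inf.ge (ue_mem_up inf_le_left ⟨L.qN hv₁, hV.fn.1 hv₁⟩)).2
  by_cases htop : U'' = normalizerIn T Q
  · -- `H₂` is a Sylow subgroup of the stabilizer
    obtain ⟨Z, hZ⟩ : ∃ Z, Z = R ⊓ W := ⟨_, rfl⟩
    have hVR : imG ι V ≤ R := by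
      refine le_trans ?_ hH₂R
      rw [hH₂]
      refine Subgroup.map_mono (Subgroup.comap_mono ?_)
      rw [← hh₂i]
      refine im_mono (hD₂ ▸ le_inf ?_ hU''Y)
      exact fun z hz => ⟨hTY₁ (hU''T hz), (htop.le hz).2⟩
    have hZe : Z = imG ι V := by
      refine (Subgroup.eq_of_le_of_card_ge (hZ ▸ le_inf hVR hVW) ?_).symm
      have hq : cj Z x ≤ ι.range := (cj_mono (hZ ▸ inf_le_left) x).trans hxR
      have hzW : cj Z x ≤ W := (cj_mono (hZ ▸ inf_le_right) x).trans (cj_of_normal W x).le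
      obtain ⟨Q₆, hQ₆⟩ : ∃ Q₆, Q₆ = im Q₅ (act ι x) := ⟨_, rfl⟩
      have hQ₅R : imG ι Q₅ ≤ R := (Subgroup.map_mono (Subgroup.comap_mono hQ₅V)).trans hVR
      have hxQ : cj (imG ι Q₅) x ≤ ι.range := (cj_mono hQ₅R x).trans hxR
      have hQ₆N : Q₆ ≤ normalizerIn Y₁ V := hQ₆ ▸ im_le_iff.2 fun _ _ => act_mem
      have hc₆ : E.IsConj Q Q₆ := by
        have h2 := (c.kmap_E hY₁S hTY₁ hh₂).restrict (le_inf (hQU''.trans hU''Y) hQT)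
        refine isConj_iff.2 ⟨act ι x ∘ h₂, h2.comp ((L.part x hx).restrict (R := Q₅) hQ₅V)
          fun z hz => hQ₅ ▸ mem_im_of_mem hz, ?_⟩
        rw [h2.im_comp, ← hQ₅, hQ₆]
      have hcardN := hQ.fn.2 Q₆ hc₆
      obtain ⟨N₆, hN₆⟩ : ∃ N₆, N₆ = normalizerIn T Q₆ ⊓ normalizerIn Y₁ V := ⟨_, rfl⟩
      have hle : cj Z x ≤ imG ι N₆ := by
        intro z hz
        obtain ⟨t, ht, rfl⟩ := (mem_imG (inf_le_left : normalizerIn Y₁ V ⊓ T ≤ normalizerIn Y₁ V)).1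
          (L.inf.le ⟨hq hz, hzW hz⟩)
        refine ue_mem_up (hN₆ ▸ inf_le_right) (hN₆ ▸ ⟨⟨ht.2, ?_⟩, ht.1⟩)
        refine mem_normalizer_of_conj_mem (S := S) ((isConj_le hc₆).2.trans c.tS) fun q hq' => ?_
        have hzn : ue ι t ∈ Subgroup.normalizer (imG ι Q₆ : Set G) := by
          rw [hQ₆, L.toPre.imG_im hQ₅N hxQ, ← cj_normalizer]
          refine cj_mono ?_ x hz
          rw [hZ]
          exact inf_le_left.trans (hR.le.trans hSt.le)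
        have h1 := conj_mem_of_normalizer hzn (ue_mem_up hQ₆N hq')
        rw [← ue_conj ht.1 (hQ₆N hq')] at h1
        obtain ⟨q₁, hq₁, hq₁e⟩ := (mem_imG hQ₆N).1 h1
        rwa [← ue_inj L.inj (hQ₆N hq₁) (Subgroup.mul_mem _ (Subgroup.mul_mem _ ht.1 (hQ₆N hq'))
          (Subgroup.inv_mem _ ht.1)) hq₁e]
      have hc1 : Nat.card Z ≤ Nat.card N₆ := by
        rw [← card_cj Z x]
        refine (Subgroup.card_le_of_le hle).trans (le_of_eq ?_)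
        rw [Subgroup.card_map_of_injective L.inj]
        exact Nat.card_congr (Subgroup.subgroupOfEquivOfLe (hN₆ ▸ inf_le_right)).toEquiv
      have hc2 : Nat.card ↥(imG ι V) = Nat.card V := by
        rw [Subgroup.card_map_of_injective L.inj]
        exact Nat.card_congr (Subgroup.subgroupOfEquivOfLe hVN).toEquiv
      haveI : Finite ↥(normalizerIn T Q₆) := finite_of_le (inf_le_left.trans c.tS)
      have hc3 : Nat.card N₆ ≤ Nat.card ↥(normalizerIn T Q₆) :=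
        Subgroup.card_le_of_le (hN₆ ▸ inf_le_left)
      have hc4 : Nat.card U'' = Nat.card U' := hU'' ▸ he₂U.card_im
      rw [htop] at hc4
      omega
    have hRH : R ≤ H₂ := by
      intro z hz
      obtain ⟨r₁, hr₁, hz₁⟩ := hcovG z
      have h1 : r₁⁻¹ * z ∈ Z := hZ ▸ ⟨R.mul_mem (R.inv_mem (hH₂R hr₁)) hz, hz₁⟩
      rw [hZe] at h1
      have h2 : imG ι V ≤ H₂ := by
        rw [hH₂]
        refine Subgroup.map_mono (Subgroup.comap_mono ?_)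
        rw [← hh₂i]
        exact im_mono (hD₂ ▸ le_inf (fun z hz => ⟨hTY₁ (hU''T hz), (htop.le hz).2⟩) hU''Y)
      simpa using H₂.mul_mem hr₁ (h2 h1)
    obtain ⟨u₂, hu₂, hu₂h, hhu₂, -⟩ := c.kmap_exists_inv hY₁S hTY₁ (c.kmap_restrict hh₂ hD₂U)
    have hcjr : cj (imG ι (im D₁ h₁)) (v * w) ≤ ι.range :=
      hH₁ ▸ hvR.trans (hRH.trans (hH₂ ▸ Subgroup.map_le_range ι _))
    have hV₁ : V ≤ im D₁ h₁ := by
      rw [← hh₁i]
      exact im_mono (hD₁ ▸ hU' ▸ inf_le_inf_right _ hT)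
    have hkw := L.kmapW hV₁ hd₁ (W.mul_mem hv hw) hcjr
    have hin : ∀ z ∈ im D₁ h₁, act ι (v * w) z ∈ im D₂ h₂ := fun z hz => by
      have h0 : ue ι z ∈ H₁ := by rw [hH₁]; exact ue_mem_up hd₁ hz
      have h1 := hRH (hvR (conj_mem_cj (g := v * w) h0))
      obtain ⟨d, hd, hde⟩ := (mem_imG hd₂).1 (hH₂ ▸ h1)
      rw [act_eq L.inj (hd₂ hd) hde]
      exact hd
    have hfin := c.kmap_comp (c.kmap_comp (c.kmap_restrict hh₁ hD₁U) hkw fun z hz => mem_im_of_mem hz) hu₂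
      fun z hz => hin _ (mem_im_of_mem hz)
    refine ⟨_, c.kmap_mono le_rfl hY₁Y hY hT hTY₁ (hD₁ ▸ hfin), ?_⟩
    refine Subgroup.eq_of_le_of_card_ge (im_le_iff.2 fun z hz => ?_)
      (((hfin.1).restrict (hD₁ ▸ hQN)).card_im.trans hcardQ).ge
    show u₂ (act ι (v * w) (h₁ z)) ∈ Q
    have hr1 : w * ue ι (h₁ z) * w⁻¹ ∈ imG ι Q₅ := by
      rw [hwQ z hz]
      exact ue_mem_up hQ₅N (hQ₅ ▸ mem_im_of_mem (he₂Q.le (mem_im_of_mem hz)))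
    have h1 := conj_mem_of_normalizer (hSt ▸ hvSt) hr1
    rw [show v * (w * ue ι (h₁ z) * w⁻¹) * v⁻¹ = v * w * ue ι (h₁ z) * (v * w)⁻¹ by group] at h1
    obtain ⟨q, hq, hqe⟩ := (mem_imG hQ₅N).1 h1
    obtain ⟨q₀, hq₀, rfl⟩ := hh₂Q.mem_im.1 (hQ₅ ▸ hq)
    have hq₀D : q₀ ∈ D₂ := hD₂ ▸ ⟨⟨hTY₁ (hQT hq₀), Subgroup.le_normalizer hq₀⟩, hU''Y (hQU'' hq₀)⟩
    rwa [act_eq L.inj (hQ₅N hq) hqe, hu₂h q₀ hq₀D]
  · -- a conjugate with a bigger normalizer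
    have hV₁ : V ≤ im D₁ h₁ := by
      rw [← hh₁i]
      exact im_mono (hD₁ ▸ hU' ▸ inf_le_inf_right _ hT)
    have hcj : cj (imG ι (im D₁ h₁)) (x * (v * w)) ≤ ι.range := by
      rw [← cj_cj, ← hH₁]
      exact (cj_mono hvR x).trans hxR
    have hkw := L.kmapW hV₁ hd₁ (W.mul_mem hx (W.mul_mem hv hw)) hcj
    have hh := c.kmap_comp (c.kmap_restrict hh₁ hD₁U) hkw fun z hz => mem_im_of_mem hz
    obtain ⟨Q₆, hQ₆⟩ : ∃ Q₆, Q₆ = im Q' (act ι (x * (v * w)) ∘ h₁) := ⟨_, rfl⟩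
    have hc₆ : E.IsConj Q' Q₆ :=
      isConj_iff.2 ⟨_, (c.kmap_E hY₁S hTY₁ hh).restrict (le_inf (hD₁ ▸ hQN) hQ'T), hQ₆.symm⟩
    have hQ₅R : imG ι Q₅ ≤ R := by
      refine le_trans ?_ hH₂R
      rw [hH₂]
      refine Subgroup.map_mono (Subgroup.comap_mono ?_)
      rw [hQ₅]
      exact im_mono (hD₂ ▸ le_inf (le_normalizerIn (hQT.trans hTY₁)) (hQU''.trans hU''Y))
    have hxQ : cj (imG ι Q₅) x ≤ ι.range := (cj_mono hQ₅R x).trans hxR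
    have hQ₆e : imG ι Q₆ = cj (imG ι Q₅) x := by
      rw [hQ₆, (hh₁.1.restrict (hQ'U.trans hU'Y)).im_comp]
      have hle : im Q' h₁ ≤ im D₁ h₁ := im_mono (hD₁ ▸ hQN)
      rw [L.toPre.imG_im (hle.trans hd₁) ((cj_mono (Subgroup.map_mono (Subgroup.comap_mono hle)) _).trans hcj),
        ← cj_cj]
      congr 1
      have h1 : cj (imG ι (im Q' h₁)) w = imG ι Q₅ := by
        ext z
        constructor
        · rintro ⟨z', hz', rfl⟩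
          obtain ⟨q, hq, rfl⟩ := (mem_imG (hle.trans hd₁)).1 hz'
          obtain ⟨q₀, hq₀, rfl⟩ := (hh₁.1.restrict (hQ'U.trans hU'Y)).mem_im.1 hq
          show w * ue ι (h₁ q₀) * w⁻¹ ∈ _
          rw [hwQ q₀ hq₀]
          exact ue_mem_up hQ₅N (hQ₅ ▸ mem_im_of_mem (he₂Q.le (mem_im_of_mem hq₀)))
        · intro hz
          obtain ⟨q, hq, rfl⟩ := (mem_imG hQ₅N).1 hz
          obtain ⟨q₀, hq₀, rfl⟩ := hh₂Q.mem_im.1 (hQ₅ ▸ hq)
          obtain ⟨x₁, hx₁, rfl⟩ := (he₂.restrict (le_Nf he₁)).mem_im.1 (he₂Q.ge hq₀)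
          rw [← hwQ x₁ hx₁]
          exact conj_mem_cj (ue_mem_up (hle.trans hd₁) (mem_im_of_mem hx₁))
      rw [← cj_cj, h1, cj_eq_self (hSt ▸ hvSt)]
    have hQ₆N : Q₆ ≤ normalizerIn Y₁ V := hQ₆ ▸ im_le_iff.2 fun _ _ => act_mem
    have hgrow : U'' < normalizerIn T Q ⊓ Subgroup.normalizer (U'' : Set Ω) :=
      lt_inf_normalizer c.pS (lt_of_le_of_ne hU''N htop) (inf_le_left.trans c.tS)
    obtain ⟨Z, hZ⟩ : ∃ Z, Z = normalizerIn T Q ⊓ Subgroup.normalizer (U'' : Set Ω) := ⟨_, rfl⟩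
    rw [← hZ] at hgrow
    have hZD : Z ≤ D₂ := hD₂ ▸ hZ ▸ fun z hz => ⟨⟨hTY₁ hz.1.1, hz.1.2⟩, hTY₁ hz.1.1, hz.2⟩
    have hcard : Nat.card U' < Nat.card ↥(normalizerIn T Q₆) := by
      have h1 : Nat.card U' < Nat.card Z := by
        rw [← he₂U.card_im, ← hU'']
        exact card_lt_of_lt hgrow (hZ ▸ inf_le_left.trans (inf_le_left.trans c.tS))
      refine h1.trans_le ?_
      have hZd : im Z h₂ ≤ normalizerIn Y₁ V := (im_mono hZD).trans hd₂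
      have hcr : cj (imG ι (im Z h₂)) x ≤ ι.range :=
        (cj_mono ((Subgroup.map_mono (Subgroup.comap_mono (im_mono hZD))).trans (hH₂.ge.trans hH₂R)) x).trans hxR
      have hm := (hh₂.1.restrict (hZD.trans hD₂U)).comp (L.mapF _ hZd x hcr) fun z hz => mem_im_of_mem hz
      haveI : Finite ↥(normalizerIn T Q₆) := finite_of_le (inf_le_left.trans c.tS)
      refine hm.card_le fun z hz => ⟨stronglyClosed_map c.tC hm hz (hZ.le hz).1.1, ?_⟩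
      show act ι x (h₂ z) ∈ Subgroup.normalizer (Q₆ : Set Ω)
      refine mem_normalizer_of_conj_mem (S := S) ((isConj_le hc₆).2.trans c.tS) fun q hq => ?_
      have hzv := L.toPre.act_spec hZd hcr (mem_im_of_mem hz)
      have hn : ue ι (act ι x (h₂ z)) ∈ Subgroup.normalizer (imG ι Q₆ : Set G) := by
        rw [hQ₆e, ← cj_normalizer, ue_act hzv]
        exact conj_mem_cj (hSt ▸ hH₂St (hH₂ ▸ ue_mem_up hd₂ (mem_im_of_mem (hZD hz))))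
      have h2 := conj_mem_of_normalizer hn (ue_mem_up hQ₆N hq)
      rw [← ue_conj act_mem (hQ₆N hq)] at h2
      obtain ⟨q₁, hq₁, hq₁e⟩ := (mem_imG hQ₆N).1 h2
      rwa [← ue_inj L.inj (hQ₆N hq₁) (Subgroup.mul_mem _ (Subgroup.mul_mem _ act_mem (hQ₆N hq))
        (Subgroup.inv_mem _ act_mem)) hq₁e]
    have hle6 : Nat.card ↥(normalizerIn T Q₆) ≤ Nat.card T := Subgroup.card_le_of_le inf_le_left
    obtain ⟨h', hh', hh'i⟩ := ihm (Nat.card T - Nat.card ↥(normalizerIn T Q₆))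
      (by rw [← hm, ← hU']; omega) Y Q Q₆ hn rfl hY hT hQ (isConj_trans (isConj_symm hc₆) hc)
    have hhY := c.kmap_mono le_rfl hY₁Y hY hT hTY₁ (hD₁ ▸ hh)
    refine ⟨_, c.kmap_comp hhY hh' fun z hz => ⟨c.kmap_mem hY hT hhY hz, ?_⟩, ?_⟩
    · have := (hhY.1.mem_normalizer hQN hz hz.2).2
      rwa [← hQ₆] at this
    · rw [(hhY.1.restrict hQN).im_comp, ← hQ₆, hh'i]

end Cfsg.Agent.Local.FS.Balance
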