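import Cfsg.Agent.Lib.Local.FS.Balance.Step
import Cfsg.Agent.Lib.Local.FS.NormalSubCentric

/-!
Every map of the system is a map defined on the product with `T` after a generated map.
-/

set_option autoImplicit false

namespace Cfsg.Agent.Local.FS.Balance

open Cfsg Cfsg.FusionSystem Cfsg.Agent.Fusion Cfsg.Agent.Local.FS Cfsg.Agent.Local.FS.Meet

universe u

variable {Ω : Type u} [Group Ω] {S T : Subgroup Ω} {F : FusionSystem S} {E : FusionSystem T}
  {A B P Q R : Subgroup Ω} {f g : Ω → Ω} {p : ℕ}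

/-- A map defined on `T A` after a generated map. -/
def Ctx.DMap (c : Ctx F E p) (A : Subgroup Ω) (g : Ω → Ω) : Prop :=
  ∃ e β, c.KMap T (T ⊔ A) A e ∧ Map F (T ⊔ A) β ∧ ∀ x ∈ A, g x = β (e x)

variable [Finite S] [Fact p.Prime] {c : Ctx F E p}

theorem Ctx.DMap.toMap (h : c.DMap A g) : Map F A g := by
  obtain ⟨e, β, he, hβ, hg⟩ := h
  exact (he.1.comp hβ fun x hx => c.kmap_mem (sup_le c.tS (le_sup_right.trans hβ.le)) le_sup_left he hx).congr
    fun x hx => (hg x hx).symm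

theorem Ctx.DMap.congr (h : c.DMap A g) (hf : ∀ x ∈ A, g x = f x) : c.DMap A f :=
  let ⟨e, β, he, hβ, hg⟩ := h; ⟨e, β, he, hβ, fun x hx => (hf x hx).symm.trans (hg x hx)⟩

theorem Ctx.DMap.restrict (h : c.DMap A g) (hB : B ≤ A) : c.DMap B g := by
  obtain ⟨e, β, he, hβ, hg⟩ := h
  exact ⟨e, β, c.kmap_down hβ.le le_sup_left (sup_le_sup_left hB T) (c.kmap_restrict he hB) le_sup_right,
    hβ.restrict (sup_le_sup_left hB T), fun x hx => hg x (hB hx)⟩

theorem Ctx.dmap_base (hA : A ≤ S) (hT : T ≤ A) (hg : Map F A g) : c.DMap A g :=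
  ⟨id, g, c.kmap_id (sup_le c.tS hA) le_sup_left le_sup_right, hg.restrict (sup_le hT le_rfl), fun _ _ => rfl⟩

/-- The image of the product with `T`. -/
theorem Ctx.dmap_im {e β : Ω → Ω} (he : c.KMap T (T ⊔ A) A e) (hβ : Map F (T ⊔ A) β)
    (hg : ∀ x ∈ A, g x = β (e x)) : im (T ⊔ A) β = T ⊔ im A g := by
  have hS : T ⊔ A ≤ S := hβ.le
  have hT : im T β = T := c.im_T le_sup_left hβ
  refine le_antisymm (hβ.im_sup_le.trans (sup_le (hT.le.trans le_sup_left) (im_le_iff.2 fun x hx => ?_)))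
    (sup_le (hT.ge.trans (im_mono le_sup_left)) (im_le_iff.2 fun x hx => ?_))
  · obtain ⟨t, ht, hte⟩ : ∃ t ∈ T, e x = x * t := ⟨_, c.kmap_shift hS le_sup_left he hx, by group⟩
    have h1 : β x = g x * (β t)⁻¹ := by
      rw [hg x hx, hte, hβ.map_mul (Subgroup.mem_sup_right hx) (Subgroup.mem_sup_left ht),
        mul_inv_cancel_right]
    rw [h1]
    exact Subgroup.mul_mem _ (Subgroup.mem_sup_right (mem_im_of_mem hx))
      (Subgroup.inv_mem _ (Subgroup.mem_sup_left (hT.le (mem_im_of_mem ht))))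
  · rw [hg x hx]
    exact mem_im_of_mem (c.kmap_mem hS le_sup_left he hx)

theorem Ctx.DMap.comp (h : c.DMap A g) (h' : c.DMap B f) (hm : ∀ x ∈ A, g x ∈ B) : c.DMap A (f ∘ g) := by
  obtain ⟨e, β, he, hβ, hg⟩ := h
  obtain ⟨e', β', he', hβ', hf⟩ := h'
  have hi := c.dmap_im he hβ hg
  have hgA : im A g ≤ B := im_le_iff.2 hm
  have hS' : T ⊔ B ≤ S := hβ'.le
  have he₁ := c.kmap_down hS' le_sup_left (sup_le_sup_left hgA T) (c.kmap_restrict he' hgA) le_sup_right
  obtain ⟨k, hk, hkβ, hβk, hki⟩ := hβ.exists_inv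
  rw [hi] at hk hβk hki
  obtain ⟨e₂, he₂, he₂e⟩ := c.kmap_transport le_sup_left hk he₁
  rw [hki, c.im_T le_sup_left hk] at he₂
  have hex : ∀ x ∈ A, e x ∈ T ⊔ A := fun x hx => c.kmap_mem hβ.le le_sup_left he hx
  have hkg : ∀ x ∈ A, k (g x) = e x := fun x hx => by rw [hg x hx, hkβ _ (hex x hx)]
  refine ⟨e₂ ∘ e, β' ∘ β, c.kmap_comp he he₂ fun x hx => ?_, hβ.comp hβ' fun x hx => ?_, fun x hx => ?_⟩
  · rw [← hkg x hx]
    exact mem_im_of_mem (mem_im_of_mem hx)
  · exact sup_le_sup_left hgA T (hi.le (mem_im_of_mem hx))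
  · show f (g x) = β' (β (e₂ (e x)))
    have h1 : e' (g x) ∈ T ⊔ im A g := c.kmap_mem ((sup_le_sup_left hgA T).trans hS') le_sup_left he₁
      (mem_im_of_mem hx)
    rw [hf _ (hm x hx), ← hkg x hx, he₂e _ (mem_im_of_mem hx), (hβk _ h1).1]

theorem Ctx.DMap.inv (h : c.DMap A g) (hf : ∀ x ∈ A, f (g x) = x) : c.DMap (im A g) f := by
  obtain ⟨e, β, he, hβ, hg⟩ := h
  have hi := c.dmap_im he hβ hg
  obtain ⟨u, hu, hue, -, -⟩ := c.kmap_exists_inv hβ.le le_sup_left he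
  obtain ⟨k, hk, hkβ, hβk, hki⟩ := hβ.exists_inv
  rw [hi] at hk
  obtain ⟨e₂, he₂, he₂e⟩ := c.kmap_transport le_sup_left hβ hu
  rw [hi, c.im_T le_sup_left hβ, ← he.1.im_comp, im_congr (f := β ∘ e) (g := g) fun x hx => (hg x hx).symm]
    at he₂
  have hgm : Map F A g := (he.1.comp hβ fun x hx => c.kmap_mem hβ.le le_sup_left he hx).congr
    fun x hx => (hg x hx).symm
  refine ⟨e₂, k, he₂, hk, fun y hy => ?_⟩
  obtain ⟨x, hx, rfl⟩ := hgm.mem_im.1 hy
  rw [hf x hx, hg x hx, he₂e _ (mem_im_of_mem hx), hue x hx, hkβ _ (Subgroup.mem_sup_right hx)]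

/-- **Decomposition**: every map of `F` is a map defined on `T A` after a generated map on `A`. -/
theorem Ctx.dec (c : Ctx F E p) : ∀ (A : Subgroup Ω) (g : Ω → Ω), Map F A g → c.DMap A g := by
  haveI := c.finT
  suffices ∀ n, ∀ (A : Subgroup Ω) (g : Ω → Ω), Map F A g → Nat.card T - Nat.card ↥(A ⊓ T) ≤ n →
      c.DMap A g from fun A g hg => this _ A g hg le_rfl
  intro n
  induction n using Nat.strong_induction_on with
  | _ n ih =>
  intro A g hg hA
  refine (alperin c.pS c.sat (K := fun P f => Map F P f ∧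
    (Nat.card T - Nat.card ↥(P ⊓ T) ≤ n → c.DMap P f)) ⟨?_, ?_, ?_, ?_⟩ (fun R hR α hα => ?_) A g hg).2 hA
  · rintro P f f' ⟨hf, h⟩ he
    exact ⟨hf.congr he, fun hP => (h hP).congr he⟩
  · rintro P R f - ⟨hf, h⟩ hR
    refine ⟨hf.restrict hR, fun hRn => (h ?_).restrict hR⟩
    haveI := finite_of_le (inf_le_right.trans c.tS : P ⊓ T ≤ S)
    have := Subgroup.card_le_of_le (inf_le_inf_right T hR)
    omega
  · rintro P Q f f' - - ⟨hf, h⟩ ⟨hf', h'⟩ hm
    refine ⟨hf.comp hf' hm, fun hP => (h hP).comp (h' ?_) hm⟩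
    haveI := finite_of_le (inf_le_right.trans c.tS : Q ⊓ T ≤ S)
    have h1 := (hf.restrict inf_le_left).card_im (P := P ⊓ T)
    have h2 : im (P ⊓ T) f ≤ Q ⊓ T :=
      im_le_iff.2 fun x hx => ⟨hm x hx.1, stronglyClosed_map c.tC hf hx.1 hx.2⟩
    have := Subgroup.card_le_of_le h2
    omega
  · rintro P f f' - ⟨hf, h⟩ hff
    obtain ⟨k, hk, hkf, -, -⟩ := hf.exists_inv
    refine ⟨hk.congr fun y hy => ?_, fun hP => (h ?_).inv hff⟩
    · obtain ⟨x, hx, rfl⟩ := hf.mem_im.1 hy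
      rw [hkf x hx, hff x hx]
    · rw [c.im_inf hf, (hf.restrict inf_le_left).card_im] at hP
      exact hP
  -- the generators
  have hRS : R ≤ S := by
    rcases hR with rfl | hR
    · exact le_rfl
    · exact hR.1.1
  refine ⟨map_of_mem_autGroup hRS hα, fun hRn => ?_⟩
  by_cases hTR : T ≤ R
  · exact c.dmap_base hRS hTR (map_of_mem_autGroup hRS hα)
  have hess : F.IsEssential p R := hR.resolve_left fun h => hTR (h ▸ c.tS)
  have hQc : E.IsCentric (R ⊓ T) := by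
    by_contra hno
    exact (not_radical_of_inter_not_centric c.pS c.sat c.tC c.inv.1 hess.1 hno).2
      (radical_of_essential c.pS c.sat hess)
  obtain ⟨hfc, hfa⟩ := fc_fa_of_fn c.pS c.sat hess.2.1
  haveI := finite_of_le hRS
  haveI := mulAut_finite_of_le hRS
  have hT := c.tC
  -- the automorphisms in `E` and trivial modulo `T`
  let AT : Subgroup (MulAut R) :=
    { carrier := {a | a ∈ F.autGroup R ∧ Map E (R ⊓ T) (av a) ∧ ∀ x ∈ R, x⁻¹ * av a x ∈ T}
      one_mem' := ⟨(F.autGroup R).one_mem, (map_id (F := E) inf_le_right).congr fun x hx => (av_one hx.1).symm,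
        fun x hx => by rw [av_one hx, inv_mul_cancel]; exact T.one_mem⟩
      mul_mem' := by
        rintro a b ⟨ha, ha1, ha2⟩ ⟨hb, hb1, hb2⟩
        refine ⟨(F.autGroup R).mul_mem ha hb, (hb1.comp ha1 fun x hx =>
          ⟨av_mem b hx.1, stronglyClosed_map hT (map_of_mem_autGroup hRS hb) hx.1 hx.2⟩).congr
          fun x hx => (av_mul _ _ hx.1).symm, fun x hx => ?_⟩
        rw [av_mul _ _ hx]
        simpa [mul_assoc] using T.mul_mem (hb2 x hx) (ha2 _ (av_mem b hx))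
      inv_mem' := by
        rintro a ⟨ha, ha1, ha2⟩
        refine ⟨(F.autGroup R).inv_mem ha, ?_, fun x hx => ?_⟩
        · obtain ⟨k, hk, hka, -, -⟩ := ha1.exists_inv
          have hi : im (R ⊓ T) (av a) = R ⊓ T := by
            rw [← c.im_inf (map_of_mem_autGroup hRS ha), im_av]
          rw [hi] at hk
          refine hk.congr fun y hy => ?_
          obtain ⟨x, hx, rfl⟩ := ha1.mem_im.1 (hi.ge hy)
          rw [hka x hx, av_inv_av a hx.1]
        · have h1 := T.inv_mem (ha2 _ (av_mem a⁻¹ hx))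
          rw [av_av_inv a hx] at h1
          simpa using h1 }
  have hATle : AT ≤ F.autGroup R := fun _ h => h.1
  have hnorm : F.autGroup R ≤ Subgroup.normalizer (AT : Set (MulAut R)) := by
    have key : ∀ b ∈ F.autGroup R, ∀ a ∈ AT, b * a * b⁻¹ ∈ AT := by
      rintro b hb a ⟨ha, ha1, ha2⟩
      have hbm := map_of_mem_autGroup hRS hb
      refine ⟨(F.autGroup R).mul_mem ((F.autGroup R).mul_mem hb ha) ((F.autGroup R).inv_mem hb), ?_, fun x hx => ?_⟩
      · obtain ⟨h, hh, hhe⟩ := c.strongInv (R ⊓ T) (R ⊓ T) (av a) (av b) le_rfl inf_le_right ha1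
          (fun x hx => ⟨av_mem a hx.1, ha1.mem hx⟩) (hbm.restrict inf_le_left)
        rw [← c.im_inf hbm, im_av] at hh
        refine hh.congr fun y hy => ?_
        have hy' : av b⁻¹ y ∈ R ⊓ T :=
          ⟨av_mem _ hy.1, stronglyClosed_map hT (map_of_mem_autGroup hRS ((F.autGroup R).inv_mem hb)) hy.1 hy.2⟩
        rw [av_mul _ _ hy.1, av_mul _ _ hy'.1, ← hhe _ hy', av_av_inv b hy.1]
      · have hy := av_mem b⁻¹ hx
        have h1 := stronglyClosed_map hT hbm (R.mul_mem (R.inv_mem hy) (av_mem a hy)) (ha2 _ hy)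
        rw [hbm.map_mul (R.inv_mem hy) (av_mem a hy), hbm.map_inv hy, av_av_inv b hx] at h1
        rwa [av_mul _ _ hx, av_mul _ _ hy]
    intro b hb
    refine Subgroup.mem_normalizer_iff.2 fun a => ⟨fun ha => key b hb a ha, fun ha => ?_⟩
    simpa [mul_assoc] using key b⁻¹ ((F.autGroup R).inv_mem hb) _ ha
  obtain ⟨Δ, hΔd⟩ : ∃ Δ, Δ = autInducedBy S R ⊓ AT := ⟨_, rfl⟩
  have hΔ : SylIn p Δ AT := hΔd ▸ (fa_iff.1 hfa).2.inf_normal hATle hnorm
  obtain ⟨a, ha, hγn⟩ := frattini_conj hΔ hnorm hα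
  obtain ⟨γ, hγd⟩ : ∃ γ, γ = a * α := ⟨_, rfl⟩
  rw [← hγd] at hγn
  have hγ : γ ∈ F.autGroup R := hγd ▸ (F.autGroup R).mul_mem (hATle ha) hα
  -- `γ` extends over the normalizer in `T`
  have hγm := map_of_mem_autGroup hRS hγ
  obtain ⟨h, hh, hhγ⟩ := (receptive_iff.1 (receptive_of_fc c.pS c.sat hfc)).2 R _ hγm (im_av γ)
  obtain ⟨R', hR'd⟩ : ∃ R', R' = R ⊔ normalizerIn T R := ⟨_, rfl⟩
  have hle : R' ≤ Nf S R (av γ) := by
    refine hR'd ▸ sup_le (le_Nf hγm) ?_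
    rintro t ⟨htT, htn⟩
    obtain ⟨d, hd, hdS⟩ := exists_aut_conj (P := R) htn
    have hdA : d ∈ AT := by
      refine ⟨autInducedBy_le_autGroup hRS (hdS S (c.tS htT)),
        (map_conjBy (F := E) inf_le_right htT).congr fun x hx => (hd x hx.1).symm, fun x hx => ?_⟩
      rw [hd x hx]
      have h1 := T.mul_mem (stronglyClosed_conj_mem hT (S.inv_mem (hRS hx)) htT) (T.inv_mem htT)
      simpa [mul_assoc] using h1
    obtain ⟨s, hs, hse⟩ := mem_autInducedBy.1
      ((hΔd ▸ (Subgroup.mem_normalizer_iff.1 hγn d).1 (hΔd ▸ ⟨hdS S (c.tS htT), hdA⟩) :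
        γ * d * γ⁻¹ ∈ autInducedBy S R ⊓ AT)).1
    refine mem_Nf.2 ⟨c.tS htT, htn, s, hs, fun x hx => ?_⟩
    have h1 := hse _ (av_mem γ hx)
    rwa [av_mul _ _ (av_mem γ hx), av_inv_av γ hx, av_mul _ _ hx, hd x hx] at h1
  have hγD : c.DMap R (av γ) := by
    have hlt : R ⊓ T < R' ⊓ T := by
      refine lt_of_le_of_ne (inf_le_inf_right T (hR'd ▸ le_sup_left)) fun he => hTR ?_
      have h1 : normalizerIn T R ≤ R := fun t ht =>
        ((he.ge ⟨hR'd ▸ Subgroup.mem_sup_right ht, ht.1⟩) : t ∈ R ⊓ T).1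
      exact le_of_inf_normalizer_le c.pS c.tS (stronglyClosed_le_normalizer hT) hRS h1
    haveI := finite_of_le (inf_le_right.trans c.tS : R' ⊓ T ≤ S)
    have hcard := card_lt_of_lt hlt (inf_le_right.trans c.tS)
    have hle' := Subgroup.card_le_of_le (inf_le_right : R' ⊓ T ≤ T)
    exact ((ih (Nat.card T - Nat.card ↥(R' ⊓ T)) (by omega) R' h (hh.restrict hle) le_rfl).restrict
      (hR'd ▸ le_sup_left)).congr hhγ
  -- elements of `AT`
  have hAT : ∀ b ∈ AT, c.DMap R (av b) := by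
    intro b hb
    obtain ⟨K, hK⟩ : ∃ K, K = Subgroup.closure {k : MulAut R | k ∈ AT ∧ (orderOf k).Coprime p} := ⟨_, rfl⟩
    have hKA : K ≤ AT := hK ▸ (Subgroup.closure_le _).2 fun k hk => hk.1
    have hAK : AT ≤ Subgroup.normalizer (K : Set (MulAut R)) := by
      intro x hx
      refine mem_normalizer_of_cj_le ?_
      rw [hK, cj, MonoidHom.map_closure, Subgroup.closure_le]
      rintro _ ⟨k, ⟨hk, hko⟩, rfl⟩
      refine Subgroup.subset_closure ⟨AT.mul_mem (AT.mul_mem hx hk) (AT.inv_mem hx), ?_⟩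
      rw [show orderOf ((MulAut.conj x).toMonoidHom k) = orderOf k from MulEquiv.orderOf_eq (MulAut.conj x) k]
      exact hko
    obtain ⟨r, hr, k, hk, rfl⟩ := mem_syl_sup hΔ hKA hAK (fun x hx hxo => hK ▸ Subgroup.subset_closure ⟨hx, hxo⟩) hb
    have hTR' : T ⊔ R ≤ S := sup_le c.tS hRS
    clear hb
    have hk' : c.KMap T (T ⊔ R) R (av k) := by
      rw [hK] at hk
      induction hk using Subgroup.closure_induction with
      | mem x hx => exact c.kmap_hk hTR' ⟨le_sup_right, hQc, hx.1.1, hx.2, hx.1.2.1, hx.1.2.2⟩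
      | one => exact c.kmap_congr (c.kmap_id hTR' le_sup_left le_sup_right) fun x hx => (av_one hx).symm
      | mul x y _ _ ihx ihy =>
        exact c.kmap_congr (c.kmap_comp ihy ihx fun z hz => av_mem y hz) fun z hz => (av_mul _ _ hz).symm
      | inv x _ ihx =>
        have := c.kmap_inv ihx (fun z hz => Subgroup.mem_sup_right (av_mem x hz)) (g := av x⁻¹)
          fun z hz => av_inv_av x hz
        rwa [im_av] at this
    obtain ⟨s, hs, hse⟩ := mem_autInducedBy.1 ((hΔd ▸ hr : r ∈ autInducedBy S R ⊓ AT)).1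
    refine ⟨av k, fun x => s * x * s⁻¹, hk', map_conjBy hTR' hs, fun x hx => ?_⟩
    rw [av_mul _ _ hx, hse _ (av_mem k hx)]
  refine ((hγD.comp (hAT a⁻¹ (AT.inv_mem ha)) fun x hx => av_mem γ hx)).congr fun x hx => ?_
  show av a⁻¹ (av γ x) = av α x
  rw [← av_mul _ _ hx, hγd, inv_mul_cancel_left]

end Cfsg.Agent.Local.FS.Balance
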