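import Cfsg.Agent.Lib.Local.FS.Balance.Model
import Cfsg.Agent.Lib.Local.FS.Sub

/-!
Local groups over `N_Y(Q)` for a fully normalized centric subgroup `Q` of a normal subsystem: the part of the model
of a conjugate, pulled back and extended by `N_Y(Q)`.
-/

set_option autoImplicit false

namespace Cfsg.Agent.Local.FS.Balance

open Cfsg Cfsg.FusionSystem Cfsg.Agent.Fusion Cfsg.Agent.Local.FS Cfsg.Agent.Local.FS.Meet

universe u

variable {Ω : Type u} [Group Ω] {S T : Subgroup Ω} {F : FusionSystem S} {E : FusionSystem T}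
  {P Q R U Y : Subgroup Ω} {f : Ω → Ω} {p : ℕ}
  {G : Type u} [Group G] {ι : ↥(normalizerIn Y Q) →* G} {W : Subgroup G}

/-- A group over `N` with a normal subgroup whose elements move `Q` by maps of the subsystem. -/
structure Ctx.Pre (_c : Ctx F E p) (Q : Subgroup Ω) {N : Subgroup Ω} (ι : ↥N →* G) (W : Subgroup G) :
    Prop where
  nS : N ≤ S
  qN : Q ≤ N
  nQ : N ≤ Subgroup.normalizer (Q : Set Ω)
  centric : E.IsCentric Q
  finite : Finite G
  inj : Function.Injective ι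
  normal : W.Normal
  qn : (imG ι Q).Normal
  syl : SylIn p ι.range ⊤
  gen : ι.range ⊔ W = ⊤
  inf : ι.range ⊓ W = imG ι (N ⊓ T)
  mapF : ∀ P : Subgroup Ω, P ≤ N → ∀ g : G, cj (imG ι P) g ≤ ι.range → Map F P (act ι g)
  part : ∀ w ∈ W, Map E Q (act ι w)

/-- A group over `N_Y(Q)` with a normal subgroup realizing the subsystem. -/
structure Ctx.Loc (c : Ctx F E p) (ι : ↥(normalizerIn Y Q) →* G) (W : Subgroup G) : Prop
    extends c.Pre Q ι W where
  yS : Y ≤ S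
  tY : T ≤ Y
  adm : ∀ (P : Subgroup Ω) (α : MulAut P), Q ≤ P → P ≤ normalizerIn Y Q → α ∈ F.autGroup P →
    (orderOf α).Coprime p → (∀ x ∈ Q, av α x ∈ Q) → Map E Q (av α) → (∀ x ∈ P, x⁻¹ * av α x ∈ T) →
    ∃ w ∈ W, w ∈ Subgroup.normalizer (imG ι P : Set G) ∧ ∀ x ∈ P, av α x = act ι w x
  lift : ∀ a ∈ E.autGroup Q, ∃ w ∈ W, ∀ x ∈ Q, av a x = act ι w x

variable [Finite S] [Fact p.Prime]

/-- A map of `F` into a normalizer carries the normalizer in `T` of a fully normalized subgroup onto the one of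
its image. -/
theorem Ctx.im_normalizer (c : Ctx F E p) (hQ : E.IsFullyNormalized Q) {k : Ω → Ω} {Q₀ : Subgroup Ω}
    (hk : Map F (normalizerIn S Q) k) (hkN : ∀ x ∈ normalizerIn S Q, k x ∈ normalizerIn S Q₀)
    (hki : im Q k = Q₀) : im (normalizerIn T Q) k = normalizerIn T Q₀ := by
  have hT := c.tC
  haveI := c.finT
  have hQT := hQ.1
  have hTN : normalizerIn T Q ≤ normalizerIn S Q := inf_le_inf_right _ c.tS
  have hkQ := hk.restrict (le_normalizerIn (hQT.trans c.tS))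
  haveI : Finite ↥(normalizerIn T Q₀) := finite_of_le (inf_le_left.trans c.tS)
  refine Subgroup.eq_of_le_of_card_ge (im_le_iff.2 fun x hx => ⟨stronglyClosed_map hT hk (hTN hx) hx.1,
    (hkN x (hTN hx)).2⟩) ?_
  rw [(hk.restrict hTN).card_im]
  obtain ⟨α, hα, g, hg, hge⟩ := decomp_all c.pS c.sat c.inv.1 hT c.strongInv Q k hQT hkQ
  obtain ⟨Q₁, hQ₁⟩ : ∃ Q₁, Q₁ = im Q g := ⟨_, rfl⟩
  have hQ₁T : Q₁ ≤ T := hQ₁ ▸ hg.im_le
  have hi : im Q₁ (av α) = Q₀ := by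
    rw [hQ₁, ← hg.im_comp, ← hki]
    exact im_congr fun x hx => (hge x hx).symm
  have hm := map_aut c.tS ((F.autGroup T).inv_mem hα)
  refine le_trans ?_ (hQ.2 Q₁ (isConj_iff.2 ⟨g, hg, hQ₁.symm⟩))
  have hQ₀T : Q₀ ≤ T := hi ▸ im_le_iff.2 fun x hx => av_mem α (hQ₁T hx)
  refine (hm.restrict inf_le_left).card_le fun x hx => ⟨av_mem _ hx.1, ?_⟩
  have h1 := hm.mem_normalizer hQ₀T hx.1 hx.2
  have h2 : im Q₀ (av α⁻¹) = Q₁ := by
    rw [← hi, ← (map_aut c.tS hα |>.restrict hQ₁T).im_comp,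
      im_congr (f := av α⁻¹ ∘ av α) (g := id) fun x hx => av_inv_av α (hQ₁T hx), im_id]
  rw [h2] at h1
  exact h1.2

/-- Local groups exist. -/
theorem Ctx.exists_loc (c : Ctx F E p) (hY : Y ≤ S) (hT : T ≤ Y) (hQc : E.IsCentric Q)
    (hQ : E.IsFullyNormalized Q) :
    ∃ (G : Type u) (_ : Group G) (ι : ↥(normalizerIn Y Q) →* G) (W : Subgroup G), c.Loc ι W := by
  have hQT := hQ.1
  have hQS := hQT.trans c.tS
  obtain ⟨Q₀, hQQ₀, hQ₀⟩ := exists_fullyNormalized (F := F) hQS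
  obtain ⟨k, hk, hkN, hki⟩ := exists_map_normalizer_fn c.pS c.sat hQ₀ hQQ₀
  have hQN : Q ≤ normalizerIn S Q := le_normalizerIn hQS
  have hTN : normalizerIn T Q ≤ normalizerIn S Q := inf_le_inf_right _ c.tS
  have hYN : normalizerIn Y Q ≤ normalizerIn S Q := inf_le_inf_right _ hY
  have hQY : Q ≤ normalizerIn Y Q := le_normalizerIn (hQT.trans hT)
  have hTY : normalizerIn T Q ≤ normalizerIn Y Q := inf_le_inf_right _ hT
  have hkQ := hk.restrict hQN
  have hkT := c.im_normalizer hQ hk hkN hki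
  have hQ₀c : E.IsCentric Q₀ := hki ▸ c.centric_im hQc hkQ
  obtain ⟨G₀, _, ι₀, W₀, M⟩ := c.exists_mod hQ₀ hQ₀c
  have L := M.model
  haveI := L.finite
  let kH : ↥(normalizerIn Y Q) →* ↥(normalizerIn S Q₀) :=
    MonoidHom.mk' (fun x => ⟨k x, hkN x (hYN x.2)⟩)
      fun x y => Subtype.ext (hk.map_mul (hYN x.2) (hYN y.2))
  obtain ⟨X, hX⟩ : ∃ X, X = (ι₀.comp kH).range ⊔ W₀ := ⟨_, rfl⟩
  obtain ⟨ι, hι⟩ : ∃ ι : ↥(normalizerIn Y Q) →* X,
      ι = (ι₀.comp kH).codRestrict X fun x => hX ▸ Subgroup.mem_sup_left ⟨x, rfl⟩ := ⟨_, rfl⟩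
  have hco : ∀ x ∈ normalizerIn Y Q, ((ue ι x : X) : G₀) = ue ι₀ (k x) := fun x hx => by
    rw [ue_apply hx, ue_apply (hkN x (hYN hx)), hι]
    rfl
  have hinj : Function.Injective ι := fun a b h => by
    have h1 : ι₀ (kH a) = ι₀ (kH b) := by
      have := congrArg Subtype.val h
      rwa [hι] at this
    exact Subtype.ext (hk.injOn (hYN a.2) (hYN b.2) (congrArg Subtype.val (L.inj h1)))
  obtain ⟨k', hk', hk'k, hkk', hk'i⟩ := (hk.restrict hYN).exists_inv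
  have hk'Q : im Q₀ k' = Q := by
    rw [← hki, ← hkQ.im_comp, im_congr (f := k' ∘ k) (g := id) fun x hx => hk'k x (hQY hx), im_id]
  have hQ₀k : Q₀ ≤ im (normalizerIn Y Q) k := hki ▸ im_mono hQY
  have hW₀X : W₀ ≤ X := hX ▸ le_sup_right
  -- the two actions
  have hact : ∀ (g : X) (x : Ω), x ∈ normalizerIn Y Q → g * ue ι x * g⁻¹ ∈ ι.range →
      k (act ι g x) = act ι₀ (g : G₀) (k x) := by
    intro g x hx hg
    refine (act_eq L.inj (hkN _ (hYN act_mem)) ?_).symm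
    rw [← hco _ act_mem, ue_act hg, Subgroup.coe_mul, Subgroup.coe_mul, hco x hx, Subgroup.coe_inv]
  have hrange : ∀ (g : X) (x : Ω), x ∈ Q → g * ue ι x * g⁻¹ ∈ imG ι Q := by
    intro g x hx
    obtain ⟨z, hz, hze⟩ := (mem_imG M.qN).1 (L.nQ.conj_mem _ (ue_mem_up M.qN (hki.le (mem_im_of_mem hx)))
      (g : G₀))
    obtain ⟨y, hy, rfl⟩ := hkQ.mem_im.1 (hki.ge hz)
    refine (mem_imG hQY).2 ⟨y, hy, Subtype.ext ?_⟩
    rw [hco y (hQY hy), hze, Subgroup.coe_mul, Subgroup.coe_mul, hco x (hQY hx), Subgroup.coe_inv]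
  haveI hXfin : Finite X := inferInstance
  have hcomp : X.subtype.comp ι = ι₀.comp kH := by rw [hι]; rfl
  have hgen : ι.range ⊔ W₀.subgroupOf X = ⊤ := by
    refine Subgroup.map_injective X.subtype_injective ?_
    rw [Subgroup.map_sup, ← MonoidHom.range_comp, Subgroup.map_subgroupOf_eq_of_le hW₀X,
      ← MonoidHom.range_eq_map, X.range_subtype, hcomp, ← hX]
  have hTY' : normalizerIn T Q = normalizerIn Y Q ⊓ T :=
    le_antisymm (fun x hx => ⟨hTY hx, hx.1⟩) fun x hx => ⟨hx.2, hx.1.2⟩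
  refine ⟨X, inferInstance, ι, W₀.subgroupOf X, ⟨inf_le_left.trans hY, hQY, inf_le_right, hQc, hXfin, hinj,
    Subgroup.Normal.subgroupOf M.normal X, ⟨fun z hz g => ?_⟩, ?_, hgen, ?_, fun P hP g hg => ?_,
    fun w hw => ?_⟩, hY, hT, fun P α hQP hP hαF hαo hαQ hαE hαs => ?_, fun a ha => ?_⟩
  · obtain ⟨x, hx, rfl⟩ := (mem_imG hQY).1 hz
    exact hrange g x hx
  rotate_left 2
  · -- the maps
    have hkP : im P k ≤ normalizerIn S Q₀ := im_le_iff.2 fun x hx => hkN x (hYN (hP hx))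
    have hkPm := hk.restrict (hP.trans hYN)
    have hcj : cj (imG ι₀ (im P k)) (g : G₀) ≤ ι₀.range := by
      rintro _ ⟨z, hz, rfl⟩
      obtain ⟨y, hy, rfl⟩ := (mem_imG hkP).1 hz
      obtain ⟨x, hx, rfl⟩ := hkPm.mem_im.1 hy
      show (g : G₀) * ue ι₀ (k x) * (g : G₀)⁻¹ ∈ ι₀.range
      have h1 := hg (conj_mem_cj (g := g) (ue_mem_up hP hx))
      obtain ⟨u, hu⟩ := h1
      have h2 := congrArg Subtype.val hu
      rw [← ue_coe u, hco u u.2, Subgroup.coe_mul, Subgroup.coe_mul, hco x (hP hx), Subgroup.coe_inv] at h2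
      exact h2 ▸ ue_mem_range (hkN _ (hYN u.2))
    have hm := hkPm.comp (L.map_act hkP hcj) fun x hx => mem_im_of_mem hx
    refine ((hm.comp hk' fun x hx => ?_)).congr fun x hx => ?_
    · show act ι₀ (g : G₀) (k x) ∈ _
      rw [← hact g x (hP hx) (hg (conj_mem_cj (g := g) (ue_mem_up hP hx)))]
      exact mem_im_of_mem act_mem
    · show k' (act ι₀ (g : G₀) (k x)) = act ι g x
      rw [← hact g x (hP hx) (hg (conj_mem_cj (g := g) (ue_mem_up hP hx))), hk'k _ act_mem]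
  · -- the maps on `Q`
    have hE₀ : Map E Q₀ (act ι₀ (w : G₀)) := (M.part _ hw).1.restrict le_sup_left
    obtain ⟨h, hh, hhe⟩ := c.strongInv Q₀ Q₀ _ k' le_rfl hQ₀c.1 hE₀ (fun x hx => L.act_Q hQ₀.1 _ hx)
      (hk'.restrict hQ₀k)
    rw [hk'Q] at hh
    refine hh.congr fun x hx => ?_
    have hkx : k x ∈ Q₀ := hki.le (mem_im_of_mem hx)
    have hr := Subgroup.map_le_range ι _ (hrange w x hx)
    have h1 := hhe _ hkx
    rw [hk'k x (hQY hx)] at h1
    rw [h1, ← hact w x (hQY hx) hr, hk'k _ act_mem]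
  · -- admissible automorphisms
    have hkP : im P k ≤ normalizerIn S Q₀ := im_le_iff.2 fun x hx => hkN x (hYN (hP hx))
    have hkPm := hk.restrict (hP.trans hYN)
    obtain ⟨e, he⟩ := exists_equiv hkPm rfl
    have hadm : M.Adm (im P k) (MulAut.congr e α) := by
      refine ⟨hki ▸ im_mono hQP, hkP, congr_mem_autGroup hkPm rfl he hαF,
        by rw [MulEquiv.orderOf_eq]; exact hαo, fun y hy => ?_, ?_, fun y hy => ?_⟩
      · obtain ⟨x, hx, rfl⟩ := hkQ.mem_im.1 (hki.ge hy)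
        rw [av_congr_apply he α (hQP hx)]
        exact hki.le (mem_im_of_mem (hαQ x hx))
      · obtain ⟨h, hh, hhe⟩ := c.strongInv Q Q (av α) k le_rfl hQT hαE hαQ hkQ
        rw [hki] at hh
        refine hh.congr fun y hy => ?_
        obtain ⟨x, hx, rfl⟩ := hkQ.mem_im.1 (hki.ge hy)
        rw [hhe x hx, av_congr_apply he α (hQP hx)]
      · obtain ⟨x, hx, rfl⟩ := hkPm.mem_im.1 hy
        rw [av_congr_apply he α hx, ← hkPm.map_inv hx, ← hkPm.map_mul (P.inv_mem hx) (av_mem α hx)]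
        exact stronglyClosed_map c.tC hkPm (P.mul_mem (P.inv_mem hx) (av_mem α hx)) (hαs x hx)
    obtain ⟨w, hw, -, hwn, hwe⟩ := M.exists_act hadm
    have hval : ∀ x ∈ P, (⟨w, hW₀X hw⟩ : X) * ue ι x * (⟨w, hW₀X hw⟩ : X)⁻¹ = ue ι (av α x) := by
      intro x hx
      refine Subtype.ext ?_
      rw [hco _ (hP (av_mem α hx)), Subgroup.coe_mul, Subgroup.coe_mul, hco x (hP hx), Subgroup.coe_inv,
        ← av_congr_apply he α hx, hwe _ (mem_im_of_mem hx),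
        ue_act (act_spec hkP (L.cj_range hwn) (mem_im_of_mem hx))]
    refine ⟨⟨w, hW₀X hw⟩, hw, mem_normalizer_of_cj_le ?_, fun x hx => ?_⟩
    · rintro _ ⟨z, hz, rfl⟩
      obtain ⟨x, hx, rfl⟩ := (mem_imG hP).1 hz
      show (⟨w, hW₀X hw⟩ : X) * ue ι x * (⟨w, hW₀X hw⟩ : X)⁻¹ ∈ _
      rw [hval x hx]
      exact ue_mem_up hP (av_mem α hx)
    · exact (act_eq hinj (hP (av_mem α hx)) (hval x hx).symm).symm
  · -- lifting
    haveI := mulAut_finite_of_le hQS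
    obtain ⟨e, he⟩ := exists_equiv hkQ hki
    obtain ⟨w, hw, hwe⟩ := c.lift_all Q₀ hQ₀ hQ₀c ι₀ W₀ M _ (congr_mem_sub c.inv hkQ hQT hki he ha)
    refine ⟨⟨w, hW₀X hw⟩, hw, fun x hx => ?_⟩
    have hr := Subgroup.map_le_range ι _ (hrange ⟨w, hW₀X hw⟩ x hx)
    refine hk.injOn (hQN (av_mem a hx)) (hYN act_mem) ?_
    rw [hact _ x (hQY hx) hr, ← hwe _ (hki.le (mem_im_of_mem hx)), av_congr_apply he a hx]
  · -- Sylow
    haveI := Subgroup.Normal.subgroupOf M.normal X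
    have hp : IsPGroup p ι.range := by
      have h0 : IsPGroup p ↥(normalizerIn Y Q) := c.pS.to_le (inf_le_left.trans hY)
      exact h0.of_surjective ι.rangeRestrict ι.rangeRestrict_surjective
    obtain ⟨R', hR', hle⟩ := exists_sylIn_ge hp le_top
    suffices R' ≤ ι.range from (le_antisymm hle this) ▸ hR'
    intro r hr
    obtain ⟨a, ha, w, hw, rfl⟩ := Subgroup.mem_sup_of_normal_right.1 (hgen.ge (Subgroup.mem_top r))
    have hwR : w ∈ R' := by simpa using R'.mul_mem (R'.inv_mem (hle ha)) hr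
    obtain ⟨A, hA⟩ : ∃ A, A = (R' ⊓ W₀.subgroupOf X).map X.subtype := ⟨_, rfl⟩
    have hAp : IsPGroup p A := hA ▸ (hR'.isPGroup.to_inf_left).map _
    have hTA : imG ι₀ (normalizerIn T Q₀) ≤ A := by
      rintro _ ⟨z, hz, rfl⟩
      obtain ⟨y, hy, hye⟩ := (hk.restrict hTN).mem_im.1 (hkT.ge hz)
      refine hA ▸ ⟨ue ι y, ⟨hle (ue_mem_range (hTY hy)), ?_⟩, ?_⟩
      · show ((ue ι y : X) : G₀) ∈ W₀
        rw [hco y (hTY hy), hye]
        exact M.syl.le (ue_mem_up M.nT hz)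
      · show ((ue ι y : X) : G₀) = _
        rw [hco y (hTY hy), hye]
        exact ue_coe z
    have hAW : A ≤ W₀ := by
      rw [hA]
      rintro _ ⟨z, hz, rfl⟩
      exact hz.2
    obtain ⟨z, hz, hze⟩ := (mem_imG M.nT).1 ((M.syl.eq_of_le hAp hTA hAW).le
      (hA ▸ Subgroup.mem_map_of_mem X.subtype (⟨hwR, hw⟩ : w ∈ R' ⊓ W₀.subgroupOf X)))
    obtain ⟨y, hy, rfl⟩ := (hk.restrict hTN).mem_im.1 (hkT.ge hz)
    refine ι.range.mul_mem ha ⟨⟨y, hTY hy⟩, Subtype.ext ?_⟩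
    rw [← ue_apply (hTY hy), hco y (hTY hy), hze]
    rfl
  · rw [← hTY']
    refine le_antisymm ?_ ?_
    · rintro _ ⟨⟨x, rfl⟩, hxW⟩
      refine ⟨x, ⟨?_, x.2.2⟩, rfl⟩
      have h1 : ue ι₀ (k x) ∈ ι₀.range ⊓ W₀ := ⟨ue_mem_range (hkN _ (hYN x.2)), by
        rw [← hco _ x.2, ue_coe]; exact hxW⟩
      obtain ⟨z, hz, hze⟩ := (mem_imG M.nT).1 (M.inf.le h1)
      have h2 : k x = z := (ue_inj L.inj (M.nT hz) (hkN _ (hYN x.2)) hze).symm
      show (x : Ω) ∈ T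
      rw [← hk'k x x.2]
      exact stronglyClosed_map c.tC hk' (mem_im_of_mem x.2) (h2 ▸ hz.1)
    · rintro _ ⟨x, hx, rfl⟩
      refine ⟨⟨x, rfl⟩, ?_⟩
      show ((ι x : X) : G₀) ∈ W₀
      rw [← ue_coe, hco _ x.2]
      exact M.syl.le (ue_mem_up M.nT (hkT.le (mem_im_of_mem hx)))

end Cfsg.Agent.Local.FS.Balance
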