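import Cfsg.Agent.Lib.Local.FS.Balance.Cent
import Cfsg.Agent.Lib.Local.FS.Commute.LayerNormal
import Cfsg.Agent.Lib.Local.FS.CoreCentralizer
import Cfsg.Agent.Lib.Local.FS.ConstrainedComponent
import Cfsg.Agent.Lib.Local.FS.FocalCentralizer

/-!
Balance for fusion systems: the layer of a normalizer system lies in the layer.
-/

set_option autoImplicit false

namespace Cfsg.Agent.Local.FS.Balance

open Cfsg Cfsg.FusionSystem Cfsg.Agent.Fusion Cfsg.Agent.Local.FS Cfsg.Agent.Local.FS.Meet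

universe u

variable {Ω : Type u} [Group Ω] {S T U V A B X : Subgroup Ω} {F : FusionSystem S} {E : FusionSystem T}
  {C : FusionSystem U} {p : ℕ}

theorem le_centralizerIn_sup (hA : U ≤ centralizerIn S A) (hB : U ≤ centralizerIn S B) :
    U ≤ centralizerIn S (A ⊔ B) := fun u hu =>
  mem_centralizerIn.2 ⟨(hA hu).1, fun z hz => (Subgroup.mem_centralizer_iff.1
    ((sup_le (fun a ha => Subgroup.mem_centralizer_iff.2 fun b (hb : b ∈ ({u} : Set Ω)) => by
        rw [Set.mem_singleton_iff.1 hb, (mem_centralizerIn.1 (hA hu)).2 a ha])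
      (fun a ha => Subgroup.mem_centralizer_iff.2 fun b (hb : b ∈ ({u} : Set Ω)) => by
        rw [Set.mem_singleton_iff.1 hb, (mem_centralizerIn.1 (hB hu)).2 a ha]) :
      A ⊔ B ≤ Subgroup.centralizer ({u} : Set Ω)) hz) u (Set.mem_singleton u)).symm⟩

/-- The automorphisms of order prime to `p` of `C` extend fixing `A`. -/
def Fix (F : FusionSystem S) (C : FusionSystem U) (p : ℕ) (A : Subgroup Ω) : Prop :=
  ∀ P : Subgroup Ω, P ≤ U → ∀ α ∈ C.autGroup P, (orderOf α).Coprime p →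
    ∃ g, Map F (P ⊔ A) g ∧ (∀ x ∈ P, g x = av α x) ∧ ∀ a ∈ A, g a = a

variable [Finite S] [Fact p.Prime]

/-- The centralizer system of a fully normalized subgroup is normal in the normalizer system. -/
theorem exists_local (hS : IsPGroup p S) (hF : F.IsSaturated p) (hA : F.IsFullyNormalized A) :
    ∃ N : FusionSystem (centralizerIn (normalizerIn S A) A), N.IsNormalIn (normSys F hA.1) p ∧
      ∀ P : Subgroup Ω, N.Hom P = (normSys F hA.1).centralizerHom A P := by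
  haveI : Finite ↥(normalizerIn S A) := finite_of_le inf_le_left
  have hp : IsPGroup p ↥(normalizerIn S A) := hS.to_le inf_le_left
  have hNs := normSys_saturated hS hF hA
  have hAN : A ≤ normalizerIn S A := le_normalizerIn hA.1
  have hQ : (normSys F hA.1).IsNormal A := normal_iff.2 ⟨hAN, fun P f hf => by
    obtain ⟨φ, hφ, he⟩ := hf
    obtain ⟨hP, hm, g, hg, hφg, hgA⟩ := mem_normalizerHom.1 hφ
    obtain ⟨ψ, hψ, hψg⟩ := id hg
    refine ⟨g, ⟨ψ, mem_normalizerHom.2 ⟨sup_le hP hAN, fun z => ?_, g,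
      hg.restrict (sup_le le_rfl le_sup_right), hψg, hgA⟩, hψg⟩,
      fun x hx => (hφg ⟨x, hx⟩).symm.trans (he ⟨x, hx⟩), hgA⟩
    rw [hψg]
    refine (hg.im_sup_le.trans (sup_le (im_le_iff.2 fun x hx => ?_) (hgA.le.trans hAN))) (mem_im_of_mem z.2)
    exact hφg ⟨x, hx⟩ ▸ hm ⟨x, hx⟩⟩
  have h := centEOf_inner hp hNs hQ
  obtain ⟨D, hD, hle, hge⟩ := exists_centralizer_system_full hp (inner_normal_of_normal hp hNs hQ)
  have hge' := hge h.ge
  clear hge
  revert D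
  rw [h]
  intro D hD hle hge
  exact ⟨D, hD, fun P => (hle P).antisymm (hge P)⟩

/-- One step of the climb to the normalizer inside a strongly closed subgroup. -/
theorem climb (hS : IsPGroup p S) (hF : F.IsSaturated p) (hV : F.StronglyClosed V)
    (hX : F.IsFullyNormalized X) (hXA : X ≤ A) (hAV : A ≤ X ⊔ V)
    (hCA : centralizerIn S X ⊓ (X ⊔ V) ≤ A) (hU : U ≤ centralizerIn S A)
    (hyp : C.hyperfocalSubgroup p = U) (hfix : Fix F C p A) :
    U ≤ centralizerIn S (A ⊔ normalizerIn V A) ∧ Fix F C p (A ⊔ normalizerIn V A) := by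
  have hXS := hX.1
  have hVS := hV.1
  have hAS : A ≤ S := hAV.trans (sup_le hXS hVS)
  have hVn := stronglyClosed_le_normalizer hV
  obtain ⟨A', hAA', hA'⟩ := exists_fullyNormalized (F := F) hAS
  obtain ⟨φ, hφ, hφN, hφA⟩ := exists_map_normalizer_fn hS hF hA' hAA'
  have hA'S := hA'.1
  have hAN : A ≤ normalizerIn S A := le_normalizerIn hAS
  -- moves inside `X V`
  have hsplit : ∀ {X₁ W : Subgroup Ω} {u : Ω → Ω}, Map F W u → X₁ ≤ W → ∀ z ∈ W, z ∈ X₁ ⊔ V →
      u z ∈ im X₁ u ⊔ V := fun {X₁ W u} hu hX₁ z hz hzV => by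
    obtain ⟨a, ha, b, hb, rfl⟩ := mem_sup_of_normalized hVn (hX₁.trans hu.le) hzV
    have hbW : b ∈ W := by simpa using W.mul_mem (W.inv_mem (hX₁ ha)) hz
    rw [hu.map_mul (hX₁ ha) hbW]
    exact Subgroup.mul_mem_sup (mem_im_of_mem ha) (stronglyClosed_map hV hu hbW hb)
  obtain ⟨X', hX'⟩ : ∃ Z, Z = im X φ := ⟨_, rfl⟩
  have hX'A : X' ≤ A' := hX' ▸ hφA ▸ im_mono hXA
  have hA'V : A' ≤ X' ⊔ V := by
    rw [← hφA, hX']
    exact im_le_iff.2 fun z hz => hsplit hφ (hXA.trans hAN) z (hAN hz) (hAV hz)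
  have hconj : F.IsConj X' X := isConj_symm (isConj_iff.2 ⟨φ, hφ.restrict (hXA.trans hAN), hX'.symm⟩)
  obtain ⟨ψ, hψ, hψN, hψX⟩ := exists_map_normalizer_fn hS hF hX hconj
  have hK' : centralizerIn S X' ⊓ (X' ⊔ V) ≤ A' := by
    obtain ⟨K, hK⟩ : ∃ Z, Z = centralizerIn S X ⊓ (X ⊔ V) := ⟨_, rfl⟩
    rw [← hK] at hCA
    obtain ⟨K', hK'⟩ : ∃ Z, Z = centralizerIn S X' ⊓ (X' ⊔ V) := ⟨_, rfl⟩
    rw [← hK']
    have hK'S : K' ≤ normalizerIn S X' := hK' ▸ inf_le_left.trans centralizerIn_le_normalizerIn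
    have hX'S : X' ≤ normalizerIn S X' := le_normalizerIn (hX'A.trans hA'S)
    haveI : Finite K' := finite_of_le (hK'S.trans inf_le_left)
    haveI : Finite K := finite_of_le (hCA.trans hAS)
    have hsub : im K φ ≤ K' := im_le_iff.2 fun z hz => by
      obtain ⟨hzC, hzV⟩ := Subgroup.mem_inf.1 (hK ▸ hz : z ∈ centralizerIn S X ⊓ (X ⊔ V))
      have h1 := hφ.mem_centralizer (hXA.trans hAN) (hAN (hCA hz)) (mem_centralizerIn.1 hzC).2
      rw [← hX'] at h1
      exact hK' ▸ Subgroup.mem_inf.2 ⟨h1, hX' ▸ hsplit hφ (hXA.trans hAN) z (hAN (hCA hz)) hzV⟩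
    have hcard : Nat.card K' ≤ Nat.card K := (hψ.restrict hK'S).card_le fun z hz => by
      obtain ⟨hzC, hzV⟩ := Subgroup.mem_inf.1 (hK' ▸ hz : z ∈ centralizerIn S X' ⊓ (X' ⊔ V))
      have h1 := hψ.mem_centralizer hX'S (hK'S hz) (mem_centralizerIn.1 hzC).2
      rw [hψX] at h1
      exact hK ▸ Subgroup.mem_inf.2 ⟨h1, hψX ▸ hsplit hψ hX'S z (hK'S hz) hzV⟩
    rw [← Subgroup.eq_of_le_of_card_ge hsub (by rw [(hφ.restrict (hCA.trans hAN)).card_im]; exact hcard), ← hφA]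
    exact im_mono hCA
  obtain ⟨N, hN, hNhom⟩ := exists_local hS hF hA'
  obtain ⟨R', hR'⟩ : ∃ Z, Z = A' ⊔ normalizerIn V A' := ⟨_, rfl⟩
  have hA'N : A' ≤ normalizerIn S A' := le_normalizerIn hA'S
  have hR'N : R' ≤ normalizerIn S A' := hR' ▸ sup_le hA'N (inf_le_inf_right _ hVS)
  have hVA' : normalizerIn S A' ≤ Subgroup.normalizer (normalizerIn V A' : Set Ω) := fun s hs =>
    mem_normalizer_of_conj_mem (S := S) (inf_le_left.trans hVS) fun y hy =>
      ⟨stronglyClosed_conj_mem hV hs.1 hy.1, Subgroup.mul_mem _ (Subgroup.mul_mem _ hs.2 hy.2) (Subgroup.inv_mem _ hs.2)⟩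
  haveI : Finite ↥(normalizerIn S A') := finite_of_le inf_le_left
  have hfixA : ∀ z ∈ centralizerIn (normalizerIn S A') A', z ∈ R' → z ∈ A' := fun z hz hzR => hK'
    (Subgroup.mem_inf.2 ⟨mem_centralizerIn.2 ⟨hz.1.1, fun y hy => (mem_centralizerIn.1 hz).2 y (hX'A hy)⟩,
      (hR' ▸ sup_le hA'V (inf_le_left.trans le_sup_right) : R' ≤ X' ⊔ V) hzR⟩)
  have c' : Commute.Ctx (normSys F hA'.1) N R' p := by
    refine ⟨hS.to_le inf_le_left, normSys_saturated hS hF hA', hN, stronglyClosed_iff.2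
      ⟨hR'N, fun P f hP hf z hz => ?_⟩, fun P f hf => ?_⟩
    · obtain ⟨θ, hθ, he⟩ := id hf
      obtain ⟨-, hm, g, hg, hθg, hgA⟩ := mem_normalizerHom.1 hθ
      have hzR := hP hz
      rw [hR'] at hzR
      obtain ⟨a, ha, b, hb, rfl⟩ := mem_sup_of_normalized hVA' hA'N hzR
      have hbW : b ∈ P ⊔ A' := by
        simpa using Subgroup.mul_mem _ (Subgroup.inv_mem _ (Subgroup.mem_sup_right ha : a ∈ P ⊔ A'))
          (Subgroup.mem_sup_left hz : a * b ∈ P ⊔ A')
      have hga : g a ∈ A' := hgA.le (mem_im_of_mem ha)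
      have hval : f (a * b) = g a * g b := by
        rw [← he ⟨_, hz⟩, hθg, hg.map_mul (Subgroup.mem_sup_right ha) hbW]
      rw [hval, hR']
      refine Subgroup.mul_mem_sup hga ⟨stronglyClosed_map hV hg hbW hb.1, ?_⟩
      have h1 := hm ⟨_, hz⟩
      rw [he ⟨_, hz⟩] at h1
      have h2 := Subgroup.mul_mem _ (Subgroup.inv_mem _ (Subgroup.le_normalizer hga)) h1.2
      rwa [show f ((⟨a * b, hz⟩ : P) : Ω) = g a * g b from hval, inv_mul_cancel_left] at h2
    · obtain ⟨θ, hθ, he⟩ := id hf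
      rw [hNhom P] at hθ
      obtain ⟨-, -, g, hg, hθg, hgA⟩ := mem_centralizerHom.1 hθ
      refine ⟨g, hg.restrict (sup_le le_sup_left fun w hw => Subgroup.mem_sup_right (hfixA w hw.1 hw.2)),
        fun x hx => (hθg ⟨x, hx⟩).symm.trans (he ⟨x, hx⟩), fun w hw => hgA w (hfixA w hw.1 hw.2)⟩
  obtain ⟨R, hR⟩ : ∃ Z, Z = A ⊔ normalizerIn V A := ⟨_, rfl⟩
  have hRN : R ≤ normalizerIn S A := hR ▸ sup_le hAN (inf_le_inf_right _ hVS)
  have hext : Fix F C p R := by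
    intro P hPU α hα hαo
    obtain ⟨g, hg, hgα, hgA⟩ := hfix P hPU α hα hαo
    have hPC : P ≤ centralizerIn S A := hPU.trans hU
    have hPN : P ≤ normalizerIn S A := hPC.trans centralizerIn_le_normalizerIn
    obtain ⟨P', hP'⟩ : ∃ Z, Z = im P φ := ⟨_, rfl⟩
    obtain ⟨e, he⟩ := exists_equiv (hφ.restrict hPN) hP'.symm
    obtain ⟨k, hk, hkφ, hφk, -⟩ := (hφ.restrict (sup_le hPN hAN : P ⊔ A ≤ normalizerIn S A)).exists_inv
    have hgin : ∀ z ∈ P ⊔ A, g z ∈ P ⊔ A := fun z hz => (hg.im_sup_le.trans (sup_le_sup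
      (im_le_iff.2 fun x hx => by rw [hgα x hx]; exact av_mem α hx)
      (im_le_iff.2 fun x hx => by rw [hgA x hx]; exact hx))) (mem_im_of_mem hz)
    have hg₂ : Map F (im (P ⊔ A) φ) (φ ∘ g ∘ k) := (hk.comp hg fun z hz => (hφk z hz).2).comp
      (hφ.restrict (sup_le hPN hAN)) fun z hz => hgin _ (hφk z hz).2
    have hle : P' ⊔ A' ≤ im (P ⊔ A) φ := sup_le (hP' ▸ im_mono le_sup_left) (hφA ▸ im_mono le_sup_right)
    have hP'C : P' ≤ centralizerIn (normalizerIn S A') A' := hP' ▸ im_le_iff.2 fun x hx =>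
      mem_centralizerIn.2 ⟨hφN x (hPN hx), by
        have h1 := hφ.mem_centralizer hAN (hPN hx) (mem_centralizerIn.1 (hPC hx)).2
        rw [hφA] at h1
        exact (mem_centralizerIn.1 h1).2⟩
    have hval : ∀ y ∈ P', φ (g (k y)) = av (MulAut.congr e α) y := fun y hy => by
      obtain ⟨x, hx, rfl⟩ := (hφ.restrict hPN).mem_im.1 (hP' ▸ hy)
      rw [hkφ x (Subgroup.mem_sup_left hx), hgα x hx, av_congr_apply he α hx]
    have hA'fix : ∀ y ∈ A', φ (g (k y)) = y := fun y hy => by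
      obtain ⟨x, hx, rfl⟩ := (hφ.restrict hAN).mem_im.1 (hφA.ge hy)
      rw [hkφ x (Subgroup.mem_sup_right hx), hgA x hx]
    have hiA : im A' (φ ∘ g ∘ k) = A' := by rw [im_congr (f := φ ∘ g ∘ k) (g := id) hA'fix, im_id]
    have hP'N : P' ≤ normalizerIn S A' := hP'C.trans inf_le_left
    have hg₂N : Map (normSys F hA'.1) (P' ⊔ A') (φ ∘ g ∘ k) := by
      obtain ⟨θ, hθ, hθe⟩ := id (hg₂.restrict hle)
      refine ⟨θ, mem_normalizerHom.2 ⟨sup_le hP'N hA'N, fun z => ?_, φ ∘ g ∘ k,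
        hg₂.restrict (sup_le hle (le_sup_right.trans hle)), hθe, hiA⟩, hθe⟩
      rw [hθe]
      exact hφN _ (sup_le hPN hAN (hgin _ (hφk _ (hle z.2)).2))
    have hαN : Map N P' (av (MulAut.congr e α)) := by
      obtain ⟨θ, hθ, hθe⟩ := (hg₂N.restrict le_sup_left).congr hval
      refine ⟨θ, ?_, hθe⟩
      rw [hNhom P']
      exact mem_centralizerHom.2 ⟨hP'C, fun z => hθe z ▸ hP'C (av_mem _ z.2), φ ∘ g ∘ k, hg₂N,
        fun z => (hθe z).trans (hval z z.2).symm, hA'fix⟩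
    obtain ⟨g', hg', hg'α, hg'R⟩ := c'.ext_fix hαN (by rw [MulEquiv.orderOf_eq]; exact hαo)
    have hg'F : Map F (P' ⊔ R') g' := hg'.of_sub (show (normSys F hA'.1).IsSubsystemOf F from fun Q θ (h : θ ∈ F.normalizerHom A' Q) => h.1)
    -- back along `φ`
    have hφP := hφ.restrict (sup_le hPN hRN : P ⊔ R ≤ normalizerIn S A)
    obtain ⟨l, hl, hlφ, -, -⟩ := hφP.exists_inv
    have hRR : ∀ r ∈ R, φ r ∈ R' := fun r hr => by
      refine ((hφ.restrict hRN).restrict hR.ge).im_sup_le.trans (sup_le ?_ ?_) (mem_im_of_mem (hR ▸ hr))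
      · exact hR' ▸ hφA.le.trans le_sup_left
      · exact im_le_iff.2 fun v hv => hR' ▸ Subgroup.mem_sup_right
          ⟨stronglyClosed_map hV hφ (hRN (hR ▸ Subgroup.mem_sup_right hv)) hv.1,
            (hφN v (hRN (hR ▸ Subgroup.mem_sup_right hv))).2⟩
    have hφdom : ∀ z ∈ P ⊔ R, φ z ∈ P' ⊔ R' := fun z hz => (hφP.im_sup_le.trans
      (sup_le_sup hP'.ge (im_le_iff.2 hRR))) (mem_im_of_mem hz)
    have hcomp := hφP.comp hg'F hφdom
    have hPv : ∀ x ∈ P, g' (φ x) = φ (av α x) := fun x hx => by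
      rw [hg'α _ (hP' ▸ mem_im_of_mem hx), av_congr_apply he α hx]
    have himg : ∀ z ∈ P ⊔ R, g' (φ z) ∈ im (P ⊔ R) φ := fun z hz => (hcomp.im_sup_le.trans (sup_le
      (im_le_iff.2 fun x hx => by
        show g' (φ x) ∈ _
        rw [hPv x hx]
        exact mem_im_of_mem (Subgroup.mem_sup_left (av_mem α hx)))
      (im_le_iff.2 fun r hr => by
        show g' (φ r) ∈ _
        rw [hg'R _ (hRR r hr)]
        exact mem_im_of_mem (Subgroup.mem_sup_right hr)))) (mem_im_of_mem (f := g' ∘ φ) hz)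
    refine ⟨l ∘ g' ∘ φ, hcomp.comp hl himg, fun x hx => ?_, fun r hr => ?_⟩
    · show l (g' (φ x)) = _
      rw [hPv x hx, hlφ _ (Subgroup.mem_sup_left (av_mem α hx))]
    · show l (g' (φ r)) = _
      rw [hg'R _ (hRR r hr), hlφ r (Subgroup.mem_sup_right hr)]
  rw [← hR]
  refine ⟨?_, hext⟩
  haveI : Finite U := finite_of_le (hU.trans inf_le_left)
  conv_lhs => rw [← hyp]
  refine Commute.hyperfocal_sub (N := C) (fun _ _ h => h) fun P α hP hα hαo x hx => ?_
  obtain ⟨g, hg, hgα, hgR⟩ := hext P hP α (mem_autGroup_of_map hα) hαo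
  have hxU := hP hx
  have hαx := hP (av_mem α hx)
  have hxaC : x⁻¹ * av α x ∈ centralizerIn S A := Subgroup.mul_mem _ (Subgroup.inv_mem _ (hU hxU)) (hU hαx)
  refine mem_centralizerIn.2 ⟨hxaC.1, fun r hr => ?_⟩
  refine ((Subgroup.mem_centralizer_iff.1 ((hR ▸ sup_le
    (fun a ha => Subgroup.mem_centralizer_iff.2 fun b hb => ?_)
    (fun v hv => Subgroup.mem_centralizer_iff.2 fun b hb => ?_) :
      R ≤ Subgroup.centralizer ({x⁻¹ * av α x} : Set Ω)) hr)) _ (Set.mem_singleton _)).symm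
  · rw [Set.mem_singleton_iff.1 hb, (mem_centralizerIn.1 hxaC).2 a ha]
  rw [Set.mem_singleton_iff.1 hb]
  obtain ⟨w, hw⟩ : ∃ w, w = v * x * v⁻¹ * x⁻¹ := ⟨_, rfl⟩
  have hxC := mem_centralizerIn.1 (hU hxU)
  have hwV : w ∈ V := by
    rw [show w = v * (x * v⁻¹ * x⁻¹) by rw [hw]; group]
    exact V.mul_mem hv.1 (stronglyClosed_conj_mem hV hxC.1 (V.inv_mem hv.1))
  have hwA : w ∈ A := by
    refine hCA (Subgroup.mem_inf.2 ⟨?_, Subgroup.mem_sup_right hwV⟩)
    have hcn : ∀ a ∈ A, a * (v * x * v⁻¹) = (v * x * v⁻¹) * a := fun a ha => by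
      have h1 := conj_mem_of_normalizer (Subgroup.inv_mem _ hv.2) ha
      calc a * (v * x * v⁻¹) = v * ((v⁻¹ * a * v⁻¹⁻¹) * x) * v⁻¹ := by group
        _ = v * (x * (v⁻¹ * a * v⁻¹⁻¹)) * v⁻¹ := by rw [hxC.2 _ h1]
        _ = _ := by group
    have h2 : w ∈ centralizerIn S A := hw ▸ Subgroup.mul_mem _
      (mem_centralizerIn.2 ⟨S.mul_mem (S.mul_mem (hVS hv.1) hxC.1) (S.inv_mem (hVS hv.1)), hcn⟩)
      (Subgroup.inv_mem _ (hU hxU))
    exact mem_centralizerIn.2 ⟨h2.1, fun y hy => (mem_centralizerIn.1 h2).2 y (hXA hy)⟩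
  have hvR : v ∈ P ⊔ R := Subgroup.mem_sup_right (hR ▸ Subgroup.mem_sup_right hv)
  have hwR : w ∈ R := hR ▸ Subgroup.mem_sup_left hwA
  have e1 : g (v * x * v⁻¹) = v * av α x * v⁻¹ := by
    rw [hg.map_conj hvR (Subgroup.mem_sup_left hx), hgR v (hR ▸ Subgroup.mem_sup_right hv), hgα x hx]
  rw [show v * x * v⁻¹ = w * x by rw [hw]; group, hg.map_mul (Subgroup.mem_sup_right hwR) (Subgroup.mem_sup_left hx),
    hgR w hwR, hgα x hx] at e1
  refine (mul_inv_eq_iff_eq_mul.1 ?_).symm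
  calc v * (x⁻¹ * av α x) * v⁻¹ = (v * x * v⁻¹)⁻¹ * (v * av α x * v⁻¹) := by group
    _ = (w * x)⁻¹ * (w * av α x) := by rw [← e1, hw]; group
    _ = x⁻¹ * av α x := by group

/-- The climb reaches the whole of `X V`. -/
theorem climb_top (hS : IsPGroup p S) (hF : F.IsSaturated p) (hV : F.StronglyClosed V)
    (hX : F.IsFullyNormalized X) (hyp : C.hyperfocalSubgroup p = U) :
    ∀ A : Subgroup Ω, X ≤ A → A ≤ X ⊔ V → centralizerIn S X ⊓ (X ⊔ V) ≤ A → U ≤ centralizerIn S A →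
      Fix F C p A → U ≤ centralizerIn S (X ⊔ V) ∧ Fix F C p (X ⊔ V) := by
  have hXV : X ⊔ V ≤ S := sup_le hX.1 hV.1
  haveI := finite_of_le hXV
  suffices ∀ n, ∀ A : Subgroup Ω, Nat.card ↥(X ⊔ V) - Nat.card A = n → X ≤ A → A ≤ X ⊔ V →
      centralizerIn S X ⊓ (X ⊔ V) ≤ A → U ≤ centralizerIn S A → Fix F C p A →
      U ≤ centralizerIn S (X ⊔ V) ∧ Fix F C p (X ⊔ V) from fun A => this _ A rfl
  intro n
  induction n using Nat.strong_induction_on with
  | _ n ih =>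
  intro A hn hXA hAV hCA hU hfix
  by_cases hVA : V ≤ A
  · obtain rfl : A = X ⊔ V := le_antisymm hAV (sup_le hXA hVA)
    exact ⟨hU, hfix⟩
  have hlt : A < A ⊔ normalizerIn V A := lt_of_le_of_ne le_sup_left fun he => hVA
    (le_of_inf_normalizer_le hS hV.1 (stronglyClosed_le_normalizer hV) (hAV.trans hXV)
      (le_sup_right.trans he.ge))
  have hle : A ⊔ normalizerIn V A ≤ X ⊔ V := sup_le hAV (inf_le_left.trans le_sup_right)
  obtain ⟨hU', hfix'⟩ := climb hS hF hV hX hXA hAV hCA hU hyp hfix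
  refine ih _ ?_ _ rfl (hXA.trans le_sup_left) hle (hCA.trans le_sup_left) hU' hfix'
  have h1 := card_lt_of_lt hlt (hle.trans hXV)
  have h2 := Subgroup.card_le_of_le hle
  omega

/-- A component of `C_F(X)` lies in the part of `E` centralizing `X`. -/
theorem component_key (hS : IsPGroup p S) (hF : F.IsSaturated p) (hX : F.IsFullyNormalized X)
    (hfc : F.IsFullyCentralized X) (hE : E.IsLayerOf F p)
    {D₁ : FusionSystem (centralizerIn (T ⊔ X) X)} {D₃ : FusionSystem (centralizerIn T X)}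
    (hD₁ : D₁.IsNormalIn (centSys F hfc.1) p) (hD₃ : D₃.IsNormalIn (centSys F hfc.1) p)
    (hsh : ∀ P f, Map D₁ P f → ∀ x ∈ P, x⁻¹ * f x ∈ T)
    (hC : C.IsComponentIn (centSys F hfc.1) p) : C.IsSubsystemOf D₃ := by
  haveI : Finite ↥(centralizerIn S X) := finite_of_le inf_le_left
  have hpM : IsPGroup p ↥(centralizerIn S X) := hS.to_le inf_le_left
  have hMs := centSys_saturated hS hF hfc
  have hXS := hX.1
  have hCM := subnormal_sub hC.1
  have hUC : U ≤ centralizerIn S X := le_of_sub hCM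
  haveI := finite_of_le (hUC.trans inf_le_left)
  have hhyp := hC.2.2.1
  rcases Commute.dichotomy hpM hMs hC hD₁ with h | h
  · have hC₁ := Layer.component_sub hpM hMs hC hD₁ h
    refine Layer.component_sub hpM hMs hC hD₃ fun u hu => mem_centralizerIn.2
      ⟨?_, (mem_centralizerIn.1 (hUC hu)).2⟩
    have hle : C.hyperfocalSubgroup p ≤ T := Commute.hyperfocal_sub (N := C) (fun _ _ h => h)
      fun P α _ hα _ x hx => hsh P _ (hα.of_sub hC₁) x hx
    exact hle (hhyp.ge hu)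
  refine absurd ?_ (ConComp.not_le_center hC.2)
  have hTc := hE.1.1.2.2.2.1
  have hTS := hTc.1
  have hQn := core_normal hS hF
  -- extensions in the centralizer system give extensions in `F`
  have hstart : ∀ {V : Subgroup Ω}, F.StronglyClosed V →
      U ≤ centralizerIn (centralizerIn S X) (centralizerIn S X ⊓ (X ⊔ V)) →
      (∀ P f, Map C P f → ∃ g, Map (centSys F hfc.1) (P ⊔ (centralizerIn S X ⊓ (X ⊔ V))) g ∧
        (∀ x ∈ P, g x = f x) ∧ ∀ k ∈ centralizerIn S X ⊓ (X ⊔ V), g k = k) →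
      U ≤ centralizerIn S (X ⊔ V) ∧ Fix F C p (X ⊔ V) := by
    intro V hV hUK hext
    refine climb_top hS hF hV hX hhyp (X ⊔ (centralizerIn S X ⊓ (X ⊔ V))) le_sup_left
      (sup_le le_sup_left inf_le_right) le_sup_right
      (le_centralizerIn_sup hUC fun u hu => mem_centralizerIn.2
        ⟨(hUC hu).1, (mem_centralizerIn.1 (hUK hu)).2⟩) fun P hP α hα _ => ?_
    obtain ⟨g, hg, hgα, hgK⟩ := hext P _ (map_of_mem_autGroup hP hα)
    obtain ⟨-, g', hg', hg'g, hg'X⟩ := map_centSys.1 hg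
    refine ⟨g', hg'.restrict (sup_le (le_sup_left.trans le_sup_left)
      (sup_le le_sup_right (le_sup_right.trans le_sup_left))), fun x hx => ?_, fun a ha => ?_⟩
    · rw [hg'g x (Subgroup.mem_sup_left hx), hgα x hx]
    · have hfix : ∀ z ∈ ((X : Set Ω) ∪ (centralizerIn S X ⊓ (X ⊔ V) : Subgroup Ω)),
          z ∈ P ⊔ (centralizerIn S X ⊓ (X ⊔ V)) ⊔ X ∧ g' z = z := by
        rintro z (hz | hz)
        · exact ⟨Subgroup.mem_sup_right hz, hg'X z hz⟩
        · exact ⟨Subgroup.mem_sup_left (Subgroup.mem_sup_right hz),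
            (hg'g z (Subgroup.mem_sup_right hz)).trans (hgK z hz)⟩
      refine Map.fix_closure hg' hfix a ?_
      exact (sup_le (fun z hz => Subgroup.subset_closure (Or.inl hz))
        (fun z hz => Subgroup.subset_closure (Or.inr hz)) :
        X ⊔ (centralizerIn S X ⊓ (X ⊔ V)) ≤
          Subgroup.closure ((X : Set Ω) ∪ (centralizerIn S X ⊓ (X ⊔ V) : Subgroup Ω))) ha
  -- over `T`
  have hKT : centralizerIn S X ⊓ (X ⊔ T) = centralizerIn (T ⊔ X) X := by
    rw [sup_comm]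
    exact le_antisymm (fun z hz => ⟨hz.2, hz.1.2⟩) fun z hz => ⟨⟨(sup_le hTS hXS) hz.1, hz.2⟩, hz.1⟩
  obtain ⟨K₁, hK₁, hK₁c⟩ := exists_centralizer_system hpM hD₁
  have hC₁ := Layer.component_sub hpM hMs hC hK₁ h
  obtain ⟨hUT, hfixT⟩ := hstart hTc (by rw [hKT]; exact h.trans centEOf_le) (by
    rw [hKT]
    intro P f hf
    obtain ⟨θ, hθ, he⟩ := hf.of_sub hC₁
    obtain ⟨-, -, g, hg, hθg, hgR⟩ := mem_centralizerHom.1 (hK₁c P hθ)
    exact ⟨g, hg, fun x hx => (hθg ⟨x, hx⟩).symm.trans (he ⟨x, hx⟩), hgR⟩)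
  -- over the core
  obtain ⟨K₂, hK₂⟩ : ∃ K, K = centralizerIn S X ⊓ (X ⊔ F.core) := ⟨_, rfl⟩
  have hK₂C : K₂ ≤ centralizerIn S X := hK₂ ▸ inf_le_left
  have hQc := normal_stronglyClosed hQn
  have hK₂n : (centSys F hfc.1).IsNormal K₂ := normal_iff.2 ⟨hK₂C, fun P f hf => by
    obtain ⟨hP, g, hg, hgf, hgX⟩ := map_centSys.1 hf
    obtain ⟨g', hg', hg'g, hg'Q⟩ := (normal_iff.1 hQn).2 _ g hg
    have hfix : ∀ x ∈ X, g' x = x := fun x hx => (hg'g x (Subgroup.mem_sup_right hx)).trans (hgX x hx)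
    have hle : P ⊔ K₂ ⊔ X ≤ P ⊔ X ⊔ F.core := sup_le (sup_le (le_sup_left.trans le_sup_left)
      (hK₂ ▸ inf_le_right.trans (sup_le (le_sup_right.trans le_sup_left) le_sup_right)))
      (le_sup_right.trans le_sup_left)
    have hg'' := hg'.restrict hle
    have hK₂m : ∀ z ∈ K₂, g' z ∈ K₂ := fun z hz => by
      obtain ⟨hzC, hzV⟩ := Subgroup.mem_inf.1 (hK₂ ▸ hz : z ∈ centralizerIn S X ⊓ (X ⊔ F.core))
      have h1 := hg''.mem_centralizer le_sup_right (Subgroup.mem_sup_left (Subgroup.mem_sup_right hz))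
        (mem_centralizerIn.1 hzC).2
      rw [im_congr (f := g') (g := id) hfix, im_id] at h1
      refine hK₂ ▸ Subgroup.mem_inf.2 ⟨h1, ?_⟩
      obtain ⟨a, ha, b, hb, rfl⟩ := mem_sup_of_normalized (stronglyClosed_le_normalizer hQc) hXS hzV
      rw [hg'.map_mul (Subgroup.mem_sup_left (Subgroup.mem_sup_right ha)) (Subgroup.mem_sup_right hb), hfix a ha]
      exact Subgroup.mul_mem_sup ha (hg'Q.le (mem_im_of_mem hb))
    refine ⟨g', map_centSys.2 ⟨sup_le hP hK₂C, g', hg'', fun _ _ => rfl, hfix⟩,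
      fun x hx => (hg'g x (Subgroup.mem_sup_left hx)).trans (hgf x hx), ?_⟩
    haveI := finite_of_le (hK₂C.trans inf_le_left)
    exact Subgroup.eq_of_le_of_card_ge (im_le_iff.2 hK₂m)
      (hg''.restrict (le_sup_right.trans le_sup_left)).card_im.ge⟩
  have hK₂le : K₂ ≤ (centSys F hfc.1).core := le_sSup (α := Subgroup Ω) hK₂n
  obtain ⟨hext, hUcore⟩ := component_centExt hpM hMs hC
  obtain ⟨hUQc, hfixQ⟩ := hstart hQc (fun u hu => mem_centralizerIn.2 ⟨(mem_centralizerIn.1 (hUcore hu)).1,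
      fun y hy => (mem_centralizerIn.1 (hUcore hu)).2 y (hK₂le (hK₂ ▸ hy))⟩) fun P f hf => by
    obtain ⟨g, hg, hgf, hgQ⟩ := hext P f hf
    exact ⟨g, hg.restrict (sup_le_sup_left (hK₂ ▸ hK₂le) P), hgf, fun k hk => hgQ k (hK₂le (hK₂ ▸ hk))⟩
  -- `U` centralizes `E`
  obtain ⟨W, hW⟩ : ∃ W : Set Ω, W = {v | ∃ x φ, x ∈ centralizerIn S T ∧ Map F (T ⊔ Subgroup.zpowers x) φ ∧
      (∀ r ∈ T, φ r = r) ∧ v = x⁻¹ * φ x} := ⟨_, rfl⟩
  have hUE : U ≤ centEOf E F := by
    refine le_trans ?_ (focal_centE hS hE.1 (V := W) fun v hv => by rw [hW] at hv; exact hv).le_centEOf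
    conv_lhs => rw [← hhyp]
    refine Commute.hyperfocal_sub (N := C) (fun _ _ h => h) fun P α hP hα hαo x hx => ?_
    obtain ⟨g, hg, hgα, hgfix⟩ := hfixT P hP α (mem_autGroup_of_map hα) hαo
    refine Subgroup.subset_closure (hW ▸ ⟨x, g, mem_centralizerIn.2 ⟨(hUT (hP hx)).1,
      fun y hy => (mem_centralizerIn.1 (hUT (hP hx))).2 y (Subgroup.mem_sup_right hy)⟩,
      hg.restrict (sup_le (le_sup_right.trans le_sup_right) (Subgroup.zpowers_le.2 (Subgroup.mem_sup_left hx))),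
      fun r hr => hgfix r (Subgroup.mem_sup_right hr), by rw [hgα x hx]⟩)
  obtain ⟨K, hK, hKcent⟩ := exists_centralizer_system hS hE.1
  have hCS : centEOf E F ≤ S := centEOf_le.trans inf_le_left
  haveI := finite_of_le hCS
  have hKc : K.IsConstrained p := by
    by_contra hnc
    obtain ⟨V, L, hL⟩ := ConComp.exists_component (centEOf E F) K (hS.to_le hCS) hK.1.1 hnc
    have hLK := subnormal_sub hL.1
    have hVT : V ≤ T := le_of_sub (hE.2.1 V L ⟨hL.1.step hK, hL.2⟩)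
    haveI := finite_of_le (hVT.trans hTS)
    refine ConComp.not_le_center hL.2 (le_trans ?_ bot_le)
    conv_lhs => rw [← hL.2.2.1]
    refine Commute.hyperfocal_sub (N := L) (fun _ _ h => h) fun P α hP hα _ x hx => ?_
    obtain ⟨θ, hθ, he⟩ := hα.of_sub hLK
    obtain ⟨-, -, g, -, hθg, hgT⟩ := mem_centralizerHom.1 (hKcent P hθ)
    rw [← he ⟨x, hx⟩, hθg ⟨x, hx⟩, hgT x (hVT (hP hx)), Subgroup.mem_bot, inv_mul_cancel]
  have hUQ : U ≤ F.core := fun u hu => ConComp.inf_cent_le hS hK.1 hKc ⟨hUE hu,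
    mem_centralizerIn.2 ⟨(hUC hu).1, fun r hr => (mem_centralizerIn.1 (hUQc hu)).2 r (Subgroup.mem_sup_right hr)⟩⟩
  -- so `U` is trivial
  refine le_trans ?_ bot_le
  conv_lhs => rw [← hhyp]
  refine Commute.hyperfocal_sub (N := C) (fun _ _ h => h) fun P α hP hα hαo x hx => ?_
  obtain ⟨g, -, hgα, hgfix⟩ := hfixQ P hP α (mem_autGroup_of_map hα) hαo
  rw [← hgα x hx, hgfix x (Subgroup.mem_sup_right (hUQ (hP hx))), Subgroup.mem_bot, inv_mul_cancel]

/-- **E-balance.** -/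
theorem layer_balance (hS : IsPGroup p S) (hF : F.IsSaturated p) (hX : F.IsFullyNormalized X)
    {N : FusionSystem (normalizerIn S X)} (hN : F.IsNormalizerSystem X N) {EN : FusionSystem U}
    (hEN : EN.IsLayerOf N p) (hE : E.IsLayerOf F p) : EN.IsSubsystemOf E := by
  obtain rfl : N = normSys F hX.1 := eq_of_map_iff fun P f => by
    constructor
    · rintro ⟨φ, hφ, he⟩; exact ⟨φ, (hN P).le hφ, he⟩
    · rintro ⟨φ, hφ, he⟩; exact ⟨φ, (hN P).ge hφ, he⟩
  have c : Ctx F E p := ⟨hS, hF, hE.1⟩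
  have hfc := (fc_fa_of_fn hS hF hX).1
  obtain ⟨D₁, D₃, hD₁, hD₃, hsh, hsubE⟩ := c.exists_cent hfc
  haveI : Finite ↥(normalizerIn S X) := finite_of_le inf_le_left
  haveI : Finite ↥(centralizerIn S X) := finite_of_le inf_le_left
  have hpN : IsPGroup p ↥(normalizerIn S X) := hS.to_le inf_le_left
  have hpM : IsPGroup p ↥(centralizerIn S X) := hS.to_le inf_le_left
  have hNs := normSys_saturated hS hF hX
  have hMs := centSys_saturated hS hF hfc
  have hXN : X ≤ normalizerIn S X := le_normalizerIn hX.1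
  have hMN : (centSys F hfc.1).IsSubsystemOf (normSys F hX.1) := fun P φ hφ => by
    obtain ⟨hP, hm, g, hg, hφg, hgX⟩ := mem_centralizerHom.1 hφ
    exact mem_normalizerHom.2 ⟨hP.trans centralizerIn_le_normalizerIn,
      fun x => centralizerIn_le_normalizerIn (hm x), g, hg, hφg, by rw [im_congr (g := id) hgX, im_id]⟩
  -- the centralizer system is normal in the normalizer system
  have hMn : (centSys F hfc.1).IsNormalIn (normSys F hX.1) p := by
    obtain ⟨D, hD, hDhom⟩ := exists_local hS hF hX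
    have h : centralizerIn (normalizerIn S X) X = centralizerIn S X :=
      le_antisymm (fun z hz => ⟨hz.1.1, hz.2⟩) fun z hz => ⟨centralizerIn_le_normalizerIn hz, hz.2⟩
    revert D
    rw [h]
    intro D hD hDhom
    convert hD
    refine eq_of_map_iff fun P f => ⟨fun hf => ?_, ?_⟩
    · obtain ⟨θ, hθ, he⟩ := id hf
      obtain ⟨hP, hm, g, hg, hθg, hgX⟩ := mem_centralizerHom.1 hθ
      have hgN : Map (normSys F hX.1) (P ⊔ X) g := by
        obtain ⟨ψ, hψ, hψe⟩ := id hg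
        refine ⟨ψ, mem_normalizerHom.2 ⟨sup_le (hP.trans centralizerIn_le_normalizerIn) hXN, fun z => ?_, g,
          hg.restrict (sup_le le_rfl le_sup_right), hψe, by rw [im_congr (g := id) hgX, im_id]⟩, hψe⟩
        rw [hψe]
        exact (hg.im_sup_le.trans (sup_le (im_le_iff.2 fun x hx => hθg ⟨x, hx⟩ ▸
          centralizerIn_le_normalizerIn (hm ⟨x, hx⟩)) (im_le_iff.2 fun x hx => by rw [hgX x hx]; exact hXN hx)))
          (mem_im_of_mem z.2)
      refine ⟨θ, ?_, he⟩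
      rw [hDhom P]
      exact mem_centralizerHom.2 ⟨fun z hz => h.ge (hP hz), fun z => h.ge (hm z), g, hgN, hθg, hgX⟩
    · rintro ⟨θ, hθ, he⟩
      rw [hDhom P] at hθ
      obtain ⟨hP, hm, g, hg, hθg, hgX⟩ := mem_centralizerHom.1 hθ
      exact ⟨θ, mem_centralizerHom.2 ⟨fun z hz => h.le (hP hz), fun z => h.le (hm z), g,
        hg.of_sub (show (normSys F hX.1).IsSubsystemOf F from fun Q ψ (h : ψ ∈ F.normalizerHom X Q) => h.1),
        hθg, hgX⟩, he⟩
  have hXcore : X ≤ (normSys F hX.1).core := le_sSup (α := Subgroup Ω) (normal_iff.2 ⟨hXN, fun P f hf => by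
    obtain ⟨φ, hφ, he⟩ := hf
    obtain ⟨hP, hm, g, hg, hφg, hgX⟩ := mem_normalizerHom.1 hφ
    obtain ⟨ψ, hψ, hψg⟩ := id hg
    refine ⟨g, ⟨ψ, mem_normalizerHom.2 ⟨sup_le hP hXN, fun z => ?_, g,
      hg.restrict (sup_le le_rfl le_sup_right), hψg, hgX⟩, hψg⟩,
      fun x hx => (hφg ⟨x, hx⟩).symm.trans (he ⟨x, hx⟩), hgX⟩
    rw [hψg]
    exact (hg.im_sup_le.trans (sup_le (im_le_iff.2 fun x hx => hφg ⟨x, hx⟩ ▸ hm ⟨x, hx⟩)
      (hgX.le.trans hXN))) (mem_im_of_mem z.2)⟩)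
  have hENM : EN.IsSubsystemOf (centSys F hfc.1) := hEN.2.2 _ _ hMn fun V C hC =>
    Layer.component_sub hpN hNs hC hMn fun u hu => by
      have h1 := (component_centExt hpN hNs hC).2 hu
      exact mem_centralizerIn.2 ⟨h1.1.1, fun x hx => (mem_centralizerIn.1 h1).2 x (hXcore hx)⟩
  have hUNM : U ≤ centralizerIn S X := le_of_sub hENM
  haveI := finite_of_le (hUNM.trans inf_le_left)
  obtain ⟨hENs, -, hENi⟩ := id hEN.1.1
  have hsc : (centSys F hfc.1).StronglyClosed U := stronglyClosed_iff.2 ⟨hUNM, fun P f hP hf x hx =>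
    (stronglyClosed_iff.1 hENi.2.1).2 P f hP (hf.of_sub hMN) x hx⟩
  have hweak : EN.IsWeaklyNormalIn (centSys F hfc.1) p := ⟨hENs, hMs,
    (isInvariantIn_iff hpM hMs hENM hsc).2 fun A B f g hAB hB hf hfB hg =>
      (isInvariantIn_iff hpN hNs hENi.1 hENi.2.1).1 hENi A B f g hAB hB hf hfB (hg.of_sub hMN)⟩
  have hD := isPPrimeResidual_primeRes (hpM.to_le hUNM) hENs
  have hle : EN.IsSubsystemOf (primeRes EN p) := hEN.2.2 _ _ (primeResidual_isNormalIn hpN hEN.1.1 hD)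
    fun V C hC => Layer.component_sub hpN hNs hC (primeResidual_isNormalIn hpN hEN.1.1 hD)
      (le_of_sub (hEN.2.1 V C hC))
  have heq : primeRes EN p = EN := eq_of_map_iff fun P f =>
    ⟨fun h => map_of_le primeRes_le h, fun h => h.of_sub hle⟩
  have hENn : EN.IsNormalIn (centSys F hfc.1) p := heq ▸ primeResidual_isNormalIn hpM hweak hD
  obtain ⟨TM, EM, hEM⟩ := Layer.exists_layer hpM hMs
  have h1 : EN.IsSubsystemOf EM := hEN.2.2 _ _ (Commute.layer_normal hpN hNs hMn hEM) fun V C hC =>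
    hEM.2.1 V C ⟨((IsSubnormalIn.refl C p).step (Commute.component_normal hpN hNs hC hEN)).step hENn, hC.2⟩
  have h3 : EM.IsSubsystemOf D₃ := hEM.2.2 _ _ hD₃ fun V C hC => component_key hS hF hX hfc hE hD₁ hD₃ hsh hC
  intro P φ hφ
  exact (hsubE P _ (((map_of_mem hφ).of_sub h1).of_sub h3)).mem_hom fun x => (fn_coe φ x).symm

end Cfsg.Agent.Local.FS.Balance
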