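import Cfsg.Agent.Lib.Local.FS.Balance.Basic
import Cfsg.Agent.Lib.Local.FS.Meet.Move

/-!
The part of a normal subsystem in the model at a fully normalized centric subgroup: it realises all the
automorphisms of the subsystem, and all the automorphisms of order prime to `p` that are trivial modulo the base.
-/

set_option autoImplicit false

namespace Cfsg.Agent.Local.FS.Balance

open Cfsg Cfsg.FusionSystem Cfsg.Agent.Fusion Cfsg.Agent.Local.FS Cfsg.Agent.Local.FS.Meet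

universe u

variable {Ω : Type u} [Group Ω] {S T : Subgroup Ω} {F : FusionSystem S} {E : FusionSystem T}
  {P Q R : Subgroup Ω} {f : Ω → Ω} {p : ℕ}
  {G : Type u} [Group G] {ι : ↥(normalizerIn S Q) →* G} {W : Subgroup G}

/-- A power of order prime to `p` with the same restriction. -/
theorem exists_pow_restrict {N : Subgroup Ω} [Finite N] [Fact p.Prime] (hQN : Q ≤ N) (β : MulAut N)
    (α : MulAut Q) (h : ∀ x ∈ Q, av β x = av α x) (hα : (orderOf α).Coprime p) :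
    ∃ m : ℕ, (orderOf (β ^ m)).Coprime p ∧ α ^ m = α ∧ ∀ x ∈ Q, av (β ^ m) x = av α x := by
  haveI := finite_mulAut (P := N)
  obtain ⟨i, r, hr, hord⟩ := Nat.exists_eq_pow_mul_and_not_dvd (orderOf_pos β).ne' p
    (Fact.out : p.Prime).ne_one
  obtain ⟨k, hk⟩ := exists_pow_eq_self_of_coprime (x := α) (n := p ^ i) (hα.symm.pow_left i)
  refine ⟨p ^ i * k, ((Nat.Prime.coprime_iff_not_dvd Fact.out).2 hr).symm.coprime_dvd_left
    (orderOf_dvd_of_pow_eq_one ?_), by rw [pow_mul]; exact hk, fun x hx => ?_⟩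
  · rw [← pow_mul, show p ^ i * k * r = orderOf β * k by rw [hord]; ring, pow_mul, pow_orderOf_eq_one, one_pow]
  · rw [av_pow hQN h _ x hx, pow_mul, hk]

/-- The part of `E` in the model at `Q`. -/
structure Ctx.Mod (_c : Ctx F E p) (Q : Subgroup Ω) (ι : ↥(normalizerIn S Q) →* G) (W : Subgroup G) :
    Prop where
  model : LModel F p Q ι
  normal : W.Normal
  part : ∀ g ∈ W, Part E S Q (act ι g)
  syl : SylIn p (imG ι (normalizerIn T Q)) W
  inf : ι.range ⊓ W = imG ι (normalizerIn T Q)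
  coprime : ∀ g : G, (orderOf g).Coprime p → Part E S Q (act ι g) → g ∈ W
  fn : F.IsFullyNormalized Q
  centric : E.IsCentric Q

variable {c : Ctx F E p}

theorem Ctx.exists_mod [Finite S] [Fact p.Prime] (c : Ctx F E p) (hQ : F.IsFullyNormalized Q)
    (hQc : E.IsCentric Q) :
    ∃ (G : Type u) (_ : Group G) (ι : ↥(normalizerIn S Q) →* G) (W : Subgroup G), c.Mod Q ι W := by
  obtain ⟨G, hG, ι, L⟩ := exists_lModel c.pS c.sat hQ
  obtain ⟨W, h1, h2, h3, h4, h5⟩ := L.exists_part c.pS c.sat c.n hQc.1 hQ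
  exact ⟨G, hG, ι, W, L, h1, h2, h3, h4, h5, hQ, hQc⟩

variable [Finite S] [Fact p.Prime]

namespace Ctx.Mod

variable (M : c.Mod Q ι W)
include M

omit [Finite S] [Fact p.Prime] in
theorem qS : Q ≤ S := M.fn.1

omit [Finite S] [Fact p.Prime] in
theorem nT : normalizerIn T Q ≤ normalizerIn S Q := inf_le_inf_right _ c.tS

omit [Finite S] [Fact p.Prime] in
theorem qN : Q ≤ normalizerIn S Q := le_normalizerIn M.qS

omit [Fact p.Prime] in
theorem hatT : hat T Q = Q :=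
  haveI := c.finT
  sup_eq_left.2 fun _ hx => centric_inv_mem M.centric hx.1 (mem_centralizerIn.1 hx).2

omit [Finite S] [Fact p.Prime] in
theorem shift_imG {g : G} (hg : g ∈ W) {x : Ω} (hx : x ∈ normalizerIn S Q)
    (hgx : g * ue ι x * g⁻¹ ∈ ι.range) :
    g * ue ι x * g⁻¹ * (ue ι x)⁻¹ ∈ imG ι (normalizerIn T Q) := by
  refine M.inf.le ⟨ι.range.mul_mem hgx (ι.range.inv_mem (ue_mem_range hx)), ?_⟩
  have h1 := W.mul_mem hg (M.normal.conj_mem _ (W.inv_mem hg) (ue ι x))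
  simpa [mul_assoc] using h1

omit [Finite S] [Fact p.Prime] in
/-- Elements of the part shift inside `T`. -/
theorem shift_act {g : G} (hg : g ∈ W) {x : Ω} (hx : x ∈ normalizerIn S Q)
    (hgx : g * ue ι x * g⁻¹ ∈ ι.range) : x⁻¹ * act ι g x ∈ T := by
  obtain ⟨t, ht, hte⟩ := (mem_imG M.nT).1 (M.shift_imG hg hx hgx)
  have h1 : act ι g x = t * x := act_eq M.model.inj (Subgroup.mul_mem _ (M.nT ht) hx) (by
    rw [ue_mul (M.nT ht) hx, hte]; group)
  rw [h1, ← mul_assoc]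
  simpa using stronglyClosed_conj_mem c.tC (S.inv_mem hx.1) ht.1

/-- In the part only the elements of a centric subgroup normalized by `Q` centralize it. -/
theorem cent (hPc : E.IsCentric P) (hP : P ≤ normalizerIn T Q) (hQP : Q ≤ Subgroup.normalizer (P : Set Ω))
    {w : G} (hw : w ∈ W)
    (hwP : ∀ x ∈ P, w * ue ι x * w⁻¹ = ue ι x) : w ∈ imG ι P := by
  have L := M.model
  haveI := L.finite
  haveI := c.finT
  have hPS := hP.trans M.nT
  haveI := finite_of_le (hPS.trans inf_le_left)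
  obtain ⟨C, hCd⟩ : ∃ C, C = W ⊓ Subgroup.centralizer (imG ι P : Set G) := ⟨_, rfl⟩
  have hC : w ∈ C := hCd ▸ ⟨hw, Subgroup.mem_centralizer_iff.2 fun z hz => by
    obtain ⟨x, hx, rfl⟩ := (mem_imG hPS).1 hz
    exact (mul_inv_eq_iff_eq_mul.1 (hwP x hx)).symm⟩
  have hcop : ∀ g ∈ C, (orderOf g).Coprime p → g = 1 := by
    intro g hg hgo
    rw [hCd] at hg
    have hgP : ∀ x ∈ P, g * ue ι x * g⁻¹ = ue ι x := fun x hx =>
      mul_inv_eq_iff_eq_mul.2 (Subgroup.mem_centralizer_iff.1 hg.2 _ (ue_mem_up hPS hx)).symm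
    have hcopfix : ∀ y d, y ∈ normalizerIn S Q → d ∈ normalizerIn S Q →
        g * ue ι y * g⁻¹ = ue ι y * ue ι d → g * ue ι d * g⁻¹ = ue ι d →
        g * ue ι y * g⁻¹ = ue ι y := fun y d hy hd h1 h2 => by
      have h3 := NormalInModel.conj_pow_eq h1 h2 (orderOf g)
      rw [pow_orderOf_eq_one, one_mul, inv_one, mul_one, eq_comm, mul_eq_left] at h3
      obtain ⟨k, hk⟩ := L.syl.isPGroup ⟨ue ι d, ue_mem_range hd⟩
      rw [h1, orderOf_eq_one_iff.1 (Nat.eq_one_of_dvd_coprimes (hgo.pow_right k)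
        (orderOf_dvd_of_pow_eq_one h3) (orderOf_dvd_of_pow_eq_one (congrArg Subtype.val hk))), mul_one]
    have hgQ : ∀ y ∈ Q, g * ue ι y * g⁻¹ = ue ι y := fun y hy => by
      have hyH : y ∈ hat S Q := Subgroup.mem_sup_left hy
      have hay : act ι g y ∈ Q := L.act_Q M.qS g hy
      obtain ⟨d, hdd⟩ : ∃ d, d = y⁻¹ * act ι g y := ⟨_, rfl⟩
      have hdQ : d ∈ Q := hdd ▸ Q.mul_mem (Q.inv_mem hy) hay
      have hcy : ∀ x ∈ P, act ι g y * x * (act ι g y)⁻¹ = y * x * y⁻¹ := fun x hx => by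
        have hyx : y * x * y⁻¹ ∈ P := conj_mem_of_normalizer (hQP hy) hx
        refine ue_inj L.inj (Subgroup.mul_mem _ (Subgroup.mul_mem _ act_mem (hPS hx))
          (Subgroup.inv_mem _ act_mem)) (hPS hyx) ?_
        rw [ue_conj act_mem (hPS hx), ue_act (L.hat_range M.qS g hyH)]
        conv_lhs => rw [← hgP x hx]
        rw [← hgP _ hyx, ue_conj (M.qN hy) (hPS hx)]
        group
      have hdP : d ∈ P := centric_inv_mem hPc (M.centric.1 hdQ) fun x hx => by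
        have h1 := hcy x hx
        rw [show act ι g y = y * d by rw [hdd, mul_inv_cancel_left]] at h1
        have h2 : d * x * d⁻¹ = x := by
          calc d * x * d⁻¹ = y⁻¹ * (y * d * x * (y * d)⁻¹) * y := by group
            _ = y⁻¹ * (y * x * y⁻¹) * y := by rw [h1]
            _ = x := by group
        exact (mul_inv_eq_iff_eq_mul.1 h2).symm
      refine hcopfix y d (M.qN hy) (hPS hdP) ?_ (hgP d hdP)
      rw [← ue_mul (M.qN hy) (hPS hdP), hdd, mul_inv_cancel_left, ue_act (L.hat_range M.qS g hyH)]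
    have hfix : ∀ y ∈ centralizerIn S Q, g * ue ι y * g⁻¹ = ue ι y := fun y hy => by
      have hyH : y ∈ hat S Q := Subgroup.mem_sup_right hy
      have hyN : y ∈ normalizerIn S Q := centralizerIn_le_normalizerIn hy
      have hd : y⁻¹ * act ι g y ∈ Q := centric_inv_mem M.centric ((M.part g hg.1).2 y hy)
        (mem_centralizerIn.1 ((centralizerIn S Q).mul_mem ((centralizerIn S Q).inv_mem hy)
          (L.act_cent M.qS g hy))).2
      obtain ⟨d, hdd⟩ : ∃ d, d = y⁻¹ * act ι g y := ⟨_, rfl⟩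
      rw [← hdd] at hd
      have h1 : g * ue ι y * g⁻¹ = ue ι y * ue ι d := by
        rw [← ue_mul hyN (M.qN hd), hdd, mul_inv_cancel_left, ue_act (L.hat_range M.qS g hyH)]
      exact hcopfix y d hyN (M.qN hd) h1 (hgQ d hd)
    have hgH : g ∈ imG ι (hat S Q) := by
      refine L.centH g fun x hx => ?_
      have hle : hat S Q ≤ ((Subgroup.centralizer {g}).comap ι).map (normalizerIn S Q).subtype := by
        refine sup_le (fun y hy => ⟨⟨y, M.qN hy⟩, ?_, rfl⟩)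
          fun y hy => ⟨⟨y, centralizerIn_le_normalizerIn hy⟩, ?_, rfl⟩
        · rw [SetLike.mem_coe, Subgroup.mem_comap, ← ue_apply (M.qN hy),
            Subgroup.mem_centralizer_singleton_iff, ← mul_inv_eq_iff_eq_mul.1 (hgQ y hy)]
        · rw [SetLike.mem_coe, Subgroup.mem_comap, ← ue_apply (centralizerIn_le_normalizerIn hy),
            Subgroup.mem_centralizer_singleton_iff, ← mul_inv_eq_iff_eq_mul.1 (hfix y hy)]
      obtain ⟨y, hy, hye⟩ := hle hx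
      rw [SetLike.mem_coe, Subgroup.mem_comap, Subgroup.mem_centralizer_singleton_iff] at hy
      rw [show x = (y : Ω) from hye.symm, ue_coe]
      exact mul_inv_eq_iff_eq_mul.2 hy.symm
    obtain ⟨k, hk⟩ := L.syl.isPGroup ⟨g, Subgroup.map_le_range ι _ hgH⟩
    exact orderOf_eq_one_iff.1 (Nat.eq_one_of_dvd_coprimes (hgo.pow_right k) dvd_rfl
      (orderOf_dvd_of_pow_eq_one (congrArg Subtype.val hk)))
  have hCp : IsPGroup p C := by
    intro g
    obtain ⟨k, m, hm', hkm⟩ := Nat.exists_eq_pow_mul_and_not_dvd (orderOf_pos (g : G)).ne' p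
      (Fact.out : p.Prime).ne_one
    refine ⟨k, Subtype.ext (hcop _ (C.pow_mem g.2 _) ?_)⟩
    rw [SubgroupClass.coe_pow, orderOf_pow, hkm, Nat.gcd_mul_right_left,
      Nat.mul_div_cancel_left _ (pow_pos (Fact.out : p.Prime).pos k)]
    exact ((Nat.Prime.coprime_iff_not_dvd Fact.out).2 hm').symm
  have hPW : imG ι P ≤ W := (Subgroup.map_mono (Subgroup.comap_mono hP)).trans M.syl.le
  have hsup : IsPGroup p ↥(imG ι P ⊔ C) := IsPGroup.to_sup_of_normal_left'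
    (L.syl.isPGroup.to_le (Subgroup.map_le_range ι _)) hCp
    (hCd ▸ inf_le_right.trans (Subgroup.centralizer_le_normalizer _))
  obtain ⟨a, ha, hle⟩ := M.syl.conj_le hsup (sup_le hPW (hCd ▸ inf_le_left))
  obtain ⟨s, hs, hse⟩ := (mem_imG M.nT).1 (hle (conj_mem_cj (g := a) (Subgroup.mem_sup_right hC)))
  have haP : cj (imG ι P) a ≤ ι.range :=
    ((cj_mono le_sup_left a).trans hle).trans (Subgroup.map_le_range ι _)
  have hm := L.map_act hPS haP
  have hP₁c : E.IsCentric (im P (act ι a)) := c.centric_im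
    hPc hm
  have hs₁ : s ∈ im P (act ι a) := centric_inv_mem hP₁c hs.1 fun y hy => by
    obtain ⟨x, hx, rfl⟩ := hm.mem_im.1 hy
    refine ue_inj L.inj (Subgroup.mul_mem _ act_mem (M.nT hs)) (Subgroup.mul_mem _ (M.nT hs) act_mem) ?_
    rw [ue_mul act_mem (M.nT hs), ue_mul (M.nT hs) act_mem, ue_act (act_spec hPS haP hx), hse]
    calc a * ue ι x * a⁻¹ * (a * w * a⁻¹) = a * (ue ι x * w) * a⁻¹ := by group
      _ = a * (w * ue ι x) * a⁻¹ := by rw [mul_inv_eq_iff_eq_mul.1 (hwP x hx)]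
      _ = _ := by group
  have h2 : ue ι s ∈ imG ι (im P (act ι a)) := ue_mem_up (im_le_iff.2 fun _ _ => act_mem) hs₁
  rw [L.imG_im hPS haP, hse] at h2
  have h3 : w ∈ cj (cj (imG ι P) a) a⁻¹ := by
    have := conj_mem_cj (g := a⁻¹) h2
    simpa [mul_assoc] using this
  rwa [cj_cj_inv] at h3

end Ctx.Mod

/-- Every automorphism in `E` of a fully normalized centric subgroup is induced by the part. -/
theorem Ctx.lift_all (c : Ctx F E p) : ∀ (Q : Subgroup Ω), F.IsFullyNormalized Q → E.IsCentric Q →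
    ∀ {G : Type u} [Group G] (ι : ↥(normalizerIn S Q) →* G) (W : Subgroup G), c.Mod Q ι W →
      ∀ a ∈ E.autGroup Q, ∃ w ∈ W, ∀ x ∈ Q, av a x = act ι w x := by
  haveI := c.finT
  suffices ∀ n, ∀ (Q : Subgroup Ω), Nat.card T - Nat.card Q = n → F.IsFullyNormalized Q → E.IsCentric Q →
      ∀ {G : Type u} [Group G] (ι : ↥(normalizerIn S Q) →* G) (W : Subgroup G), c.Mod Q ι W →
        ∀ a ∈ E.autGroup Q, ∃ w ∈ W, ∀ x ∈ Q, av a x = act ι w x from
    fun Q h1 h2 G _ ι W M => this _ Q rfl h1 h2 ι W M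
  intro n
  induction n using Nat.strong_induction_on with
  | _ n ih =>
  intro Q hn hQ hQc G _ ι W M a ha
  have L := M.model
  haveI := L.finite
  have hQS := hQ.1
  haveI := mulAut_finite_of_le hQS
  obtain ⟨π, hπ, hπF, hπs⟩ := L.exists_toAut c.pS c.sat hQ
  obtain ⟨N, hNd⟩ : ∃ N, N = W.map π := ⟨_, rfl⟩
  suffices h : a ∈ N by
    obtain ⟨w, hw, rfl⟩ := hNd ▸ h
    exact ⟨w, hw, fun x hx => hπ w x hx⟩
  have hNn : ∀ b ∈ F.autGroup Q, ∀ y ∈ N, b * y * b⁻¹ ∈ N := by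
    intro b hb y hy
    obtain ⟨w, hw, rfl⟩ := hNd ▸ hy
    obtain ⟨g, rfl⟩ := hπs b hb
    exact hNd ▸ ⟨g * w * g⁻¹, M.normal.conj_mem w hw g, by rw [map_mul, map_mul, map_inv]⟩
  have hNE : N ≤ E.autGroup Q := by
    rw [hNd]
    rintro _ ⟨w, hw, rfl⟩
    exact mem_autGroup_of_map (((M.part w hw).1.restrict le_sup_left).congr fun x hx => (hπ w x hx).symm)
  have hTN : autInducedBy T Q ≤ N := by
    intro b hb
    obtain ⟨t, ht, htb⟩ := mem_autInducedBy.1 hb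
    have htn : t ∈ normalizerIn T Q := ⟨ht, mem_normalizer_of_conj_aut htb⟩
    exact hNd ▸ ⟨ue ι t, M.syl.le (ue_mem_up M.nT htn), aut_ext fun x hx => by
      rw [hπ _ x hx, act_conj L.inj (M.nT htn) (M.qN hx), htb x hx]⟩
  have hsyl := (fa_iff.1 (fc_fa_of_fn c.pT c.eSat (fn_of_fn c.pS c.n.1 hQ hQc.1)).2).2
  have hAF : E.autGroup Q ≤ F.autGroup Q := autGroup_sub_le c.inv hQc.1
  have hAN : E.autGroup Q ≤ Subgroup.normalizer (N : Set (MulAut Q)) := fun b hb =>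
    Subgroup.mem_normalizer_iff.2 fun y => ⟨hNn b (hAF hb) y, fun hy => by
      simpa [mul_assoc] using hNn b⁻¹ (hAF (inv_mem hb)) _ hy⟩
  have hpel : ∀ b ∈ E.autGroup Q, ∀ k : ℕ, b ^ p ^ k = 1 → b ∈ N := by
    intro b hb k hk
    have hp : IsPGroup p ↥(Subgroup.zpowers b) := by
      obtain ⟨i, -, hi⟩ := (Nat.dvd_prime_pow Fact.out).1 (orderOf_dvd_of_pow_eq_one hk)
      exact IsPGroup.of_card ((Nat.card_zpowers b).trans hi)
    obtain ⟨x, hx, hle⟩ := hsyl.conj_le hp (Subgroup.zpowers_le.2 hb)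
    have h1 := hNn x⁻¹ (hAF (inv_mem hx)) _ (hTN (hle (conj_mem_cj (g := x) (Subgroup.mem_zpowers b))))
    simpa [mul_assoc] using h1
  -- it is enough to treat automorphisms of order prime to `p` normalizing `Aut_T(Q)`
  suffices hmain : ∀ b ∈ E.autGroup Q, b ∈ Subgroup.normalizer (autInducedBy T Q : Set (MulAut Q)) →
      (orderOf b).Coprime p → b ∈ N by
    obtain ⟨y, hy, hyn⟩ := frattini_conj (hsyl.mono hTN hNE) hAN ha
    obtain ⟨b, hbd⟩ : ∃ b, b = y * a := ⟨_, rfl⟩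
    rw [← hbd] at hyn
    have hb : b ∈ E.autGroup Q := hbd ▸ mul_mem (hNE hy) ha
    have hbN : b ∈ N := by
      obtain ⟨k, r, hr, hord⟩ := Nat.exists_eq_pow_mul_and_not_dvd (orderOf_pos b).ne' p
        (Fact.out : p.Prime).ne_one
      have hro : r.Coprime p := ((Nat.Prime.coprime_iff_not_dvd Fact.out).2 hr).symm
      have h1 : b ^ p ^ k ∈ N := hmain _ (pow_mem hb _) (Subgroup.pow_mem _ hyn _)
        (hro.coprime_dvd_left (orderOf_dvd_of_pow_eq_one (by rw [← pow_mul, ← hord, pow_orderOf_eq_one])))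
      have h2 : b ^ r ∈ N := hpel _ (pow_mem hb _) k (by rw [← pow_mul, mul_comm, ← hord, pow_orderOf_eq_one])
      have h3 : b ^ ((Nat.gcd (p ^ k) r : ℕ) : ℤ) ∈ N := by
        rw [Nat.gcd_eq_gcd_ab, zpow_add, zpow_mul, zpow_mul, zpow_natCast, zpow_natCast]
        exact mul_mem (zpow_mem h1 _) (zpow_mem h2 _)
      rwa [(hro.symm.pow_left k).gcd_eq_one, Nat.cast_one, zpow_one] at h3
    have := mul_mem (inv_mem hy) hbN
    rwa [hbd, inv_mul_cancel_left] at this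
  intro b hb hbn hbo
  rcases eq_or_lt_of_le hQc.1 with hQT | hlt
  · subst hQT
    obtain ⟨β, hβ, -, hβb, hβs⟩ := exists_pPrime_ext c.n hb hbo
    have hβm := map_of_mem_autGroup (hat_le_of hQS) hβ
    obtain ⟨g, hg⟩ := L.ofMap _ (av β) M.qN (hβm.restrict (sup_le le_sup_left le_rfl))
      (by rw [im_congr hβb, im_av]) (im_av β)
    have hval : ∀ x ∈ hat S Q, act ι g x = av β x := fun x hx =>
      act_eq L.inj (hg x (Subgroup.mem_sup_right hx)).1 (hg x (Subgroup.mem_sup_right hx)).2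
    have hgb : π g = b := aut_ext fun x hx => by
      rw [hπ g x hx, hval x (Subgroup.mem_sup_left hx), hβb x hx]
    obtain ⟨m, hm, hmb⟩ := CLift.exists_pow_coprime π g (p := p) (by rw [hgb]; exact hbo)
    have hgA : g ∈ L.part hQS le_rfl c.tC E := by
      refine ⟨?_, fun x hx => ?_⟩
      · rw [M.hatT]
        exact (map_of_mem_autGroup le_rfl hb).congr fun x hx =>
          ((hval x (Subgroup.mem_sup_left hx)).trans (hβb x hx)).symm
      · rw [hval x (Subgroup.mem_sup_right hx)]; exact hβs x hx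
    exact hNd ▸ ⟨g ^ m, M.coprime _ hm (Subgroup.pow_mem _ hgA m), hmb.trans hgb⟩
  -- extend `b` to the normalizer in `T`
  have hQT := hQc.1
  obtain ⟨U, hUd⟩ : ∃ U, U = normalizerIn T Q := ⟨_, rfl⟩
  have hQU : Q ≤ U := hUd ▸ le_normalizerIn hQT
  have hUT : U ≤ T := hUd ▸ inf_le_left
  haveI := finite_of_le (hUT.trans c.tS)
  have hbm := map_of_mem_autGroup hQT hb
  obtain ⟨e, he, heb⟩ := (receptive_iff.1 (receptive_of_fc c.pT c.eSat (fc_of_centric hQc))).2 Q _ hbm (im_av b)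
  have hle : U ≤ Nf T Q (av b) := by
    rw [hUd]
    rintro t ⟨ht, htn⟩
    obtain ⟨d, hd, hdT⟩ := exists_aut_conj (P := Q) htn
    obtain ⟨h, hh, hhe⟩ := mem_autInducedBy.1 ((Subgroup.mem_normalizer_iff.1 hbn d).1 (hdT T ht))
    refine mem_Nf.2 ⟨ht, htn, h, hh, fun x hx => ?_⟩
    have h1 := hhe _ (av_mem b hx)
    rwa [av_mul _ _ (av_mem b hx), av_inv_av b hx, av_mul _ _ hx, hd x hx] at h1
  have heU := he.restrict hle
  obtain ⟨α₀, hα₀, hα₀e⟩ := exists_aut heU (Subgroup.eq_of_le_of_card_ge (im_le_iff.2 fun x hx => by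
    rw [hUd] at hx ⊢
    have h1 := he.mem_normalizer (le_Nf hbm) (hle (hUd ▸ hx)) hx.2
    rw [im_congr heb, im_av] at h1
    exact h1) heU.card_im.ge)
  obtain ⟨m₀, hα₁o, -, hα₁b⟩ := exists_pow_restrict hQU α₀ b (fun x hx => by rw [hα₀e x (hQU hx), heb x hx]) hbo
  have hα₁ := pow_mem hα₀ m₀
  generalize α₀ ^ m₀ = α₁ at hα₁o hα₁b hα₁
  -- move to a fully normalized conjugate of the normalizer
  obtain ⟨U₂, hUU₂, hU₂⟩ := exists_fullyNormalized (F := F) (hUT.trans c.tS)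
  obtain ⟨k, hk, hkN, hki⟩ := exists_map_normalizer_fn c.pS c.sat hU₂ hUU₂
  have hUN : U ≤ normalizerIn S U := le_normalizerIn (hUT.trans c.tS)
  have hkU := hk.restrict hUN
  have hCU : centralizerIn S Q ≤ normalizerIn S U := fun s hs => ⟨hs.1,
    centralizerIn_normalizes_centric c.tC (centric_inter c.tS hQc) hQU
      (hUd ▸ inf_le_inf_right _ c.tS) hUT hs⟩
  have hU₂c : E.IsCentric U₂ := hki ▸ c.centric_im (centric_mono hQc hQU hUT) hkU
  obtain ⟨G₂, _, ι₂, W₂, M₂⟩ := c.exists_mod hU₂ hU₂c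
  have L₂ := M₂.model
  haveI := L₂.finite
  obtain ⟨ε, hε⟩ := exists_equiv hkU hki
  have hcard : Nat.card Q < Nat.card U :=
    card_lt_of_lt (hUd ▸ lt_normalizerIn c.pT hlt) (hUT.trans c.tS)
  obtain ⟨w, hw, hwα⟩ := ih (Nat.card T - Nat.card U₂) (by
    rw [← hn]
    have h1 := Subgroup.card_le_of_le hUT
    have h2 : Nat.card U₂ = Nat.card U := hki ▸ hkU.card_im
    omega) U₂ rfl hU₂ hU₂c ι₂ W₂ M₂ _ (congr_mem_sub c.inv hkU hUT hki hε hα₁)
  have hk₂ : ∀ x ∈ U, act ι₂ w (k x) = k (av α₁ x) := fun x hx => by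
    rw [← hwα _ (hki.le (mem_im_of_mem hx)), av_congr_apply hε α₁ hx]
  obtain ⟨Q₂, hQ₂d⟩ : ∃ Q₂, Q₂ = im Q k := ⟨_, rfl⟩
  have hkQ := hk.restrict (hQU.trans hUN)
  have hQ₂U : Q₂ ≤ U₂ := hQ₂d ▸ hki ▸ im_mono hQU
  have hQ₂c : E.IsCentric Q₂ := hQ₂d ▸ c.centric_im hQc hkQ
  obtain ⟨V, hVd⟩ : ∃ V, V = U ⊔ centralizerIn S Q := ⟨_, rfl⟩
  have hVN : V ≤ normalizerIn S U := hVd ▸ sup_le hUN hCU
  obtain ⟨V₂, hV₂d⟩ : ∃ V₂, V₂ = im V k := ⟨_, rfl⟩
  have hV₂N : V₂ ≤ normalizerIn S U₂ := hV₂d ▸ im_le_iff.2 fun x hx => hkN x (hVN hx)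
  have hU₂N : U₂ ≤ normalizerIn S U₂ := M₂.qN
  have hwU : ∀ x ∈ U₂, w * ue ι₂ x * w⁻¹ ∈ imG ι₂ U₂ := fun x hx =>
    L₂.nQ.conj_mem _ (ue_mem_up hU₂N hx) w
  have hkm : ∀ s ∈ centralizerIn S Q, ∀ x ∈ U, k (s * x * s⁻¹) = k s * k x * (k s)⁻¹ :=
    fun s hs x hx => hk.map_conj (hCU hs) (hUN hx)
  have hshift : ∀ s ∈ centralizerIn S Q,
      w * ue ι₂ (k s) * w⁻¹ * (ue ι₂ (k s))⁻¹ ∈ imG ι₂ U₂ := by
    intro s hs
    have hks := hkN s (hCU hs)
    obtain ⟨z, hzd⟩ : ∃ z, z = w * ue ι₂ (k s) * w⁻¹ * (ue ι₂ (k s))⁻¹ := ⟨_, rfl⟩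
    have hz : z ∈ W₂ := hzd ▸ by
      have h1 := W₂.mul_mem hw (M₂.normal.conj_mem _ (W₂.inv_mem hw) (ue ι₂ (k s)))
      simpa [mul_assoc] using h1
    have hzQ : ∀ y ∈ Q₂, z * ue ι₂ y * z⁻¹ = ue ι₂ y := by
      have hcs : ∀ y ∈ Q₂, ue ι₂ (k s) * ue ι₂ y = ue ι₂ y * ue ι₂ (k s) := by
        intro y hy
        obtain ⟨x, hx, rfl⟩ := hkQ.mem_im.1 (hQ₂d ▸ hy)
        have hxN := hUN (hQU hx)
        rw [← ue_mul hks (hkN x hxN), ← ue_mul (hkN x hxN) hks, ← hk.map_mul (hCU hs) hxN,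
          ← hk.map_mul hxN (hCU hs), (mem_centralizerIn.1 hs).2 x hx]
      intro y hy
      obtain ⟨x, hx, rfl⟩ := hkQ.mem_im.1 (hQ₂d ▸ hy)
      obtain ⟨x', hx'd⟩ : ∃ x', x' = av b⁻¹ x := ⟨_, rfl⟩
      have hx' : x' ∈ Q := hx'd ▸ av_mem _ hx
      have hwx : w * ue ι₂ (k x') * w⁻¹ = ue ι₂ (k x) := by
        rw [← ue_act (act_spec hU₂N (L₂.cj_range (by
          rw [Subgroup.normalizer_eq_top_iff.2 L₂.nQ]; trivial)) (hki.le (mem_im_of_mem (hQU hx')))),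
          hk₂ x' (hQU hx'), hα₁b x' hx', hx'd, av_av_inv b hx]
      have hc₁ := hcs _ (hQ₂d ▸ mem_im_of_mem hx')
      rw [hzd]
      calc w * ue ι₂ (k s) * w⁻¹ * (ue ι₂ (k s))⁻¹ * ue ι₂ (k x) *
            (w * ue ι₂ (k s) * w⁻¹ * (ue ι₂ (k s))⁻¹)⁻¹
          = w * ue ι₂ (k s) * w⁻¹ * ((ue ι₂ (k s))⁻¹ * (ue ι₂ (k x) * ue ι₂ (k s))) * w *
            (ue ι₂ (k s))⁻¹ * w⁻¹ := by group
        _ = w * ue ι₂ (k s) * (w⁻¹ * ue ι₂ (k x) * w) * (ue ι₂ (k s))⁻¹ * w⁻¹ := by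
            rw [← hcs _ (hQ₂d ▸ mem_im_of_mem hx)]; group
        _ = w * ((ue ι₂ (k s) * ue ι₂ (k x')) * (ue ι₂ (k s))⁻¹) * w⁻¹ := by
            rw [← hwx]; group
        _ = w * ue ι₂ (k x') * w⁻¹ := by rw [hc₁, mul_inv_cancel_right]
        _ = _ := hwx
    obtain ⟨y, hy, hye⟩ := (mem_imG (hQ₂U.trans hU₂N)).1 (M₂.cent hQ₂c
      (hQ₂U.trans (le_normalizerIn hU₂c.1)) (fun u hu => by
        obtain ⟨x, hx, rfl⟩ := hkU.mem_im.1 (hki.ge hu)
        have h1 := hk.mem_normalizer (hQU.trans hUN) (hUN hx) (hUd.le hx).2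
        rw [← hQ₂d] at h1
        exact h1.2) hz hzQ)
    rw [← hzd, ← hye]
    exact ue_mem_up hU₂N (hQ₂U hy)
  have hwV : w ∈ Subgroup.normalizer (imG ι₂ V₂ : Set G₂) := by
    refine mem_normalizer_of_cj_le ?_
    have hle2 : V₂ ≤ U₂ ⊔ im (centralizerIn S Q) k := by
      rw [hV₂d, hVd]
      exact (hk.restrict (sup_le hUN hCU)).im_sup_le.trans (sup_le_sup hki.le le_rfl)
    have hkC : im (centralizerIn S Q) k ≤ normalizerIn S U₂ := im_le_iff.2 fun x hx => hkN x (hCU hx)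
    have hVeq : imG ι₂ V₂ = imG ι₂ U₂ ⊔ imG ι₂ (im (centralizerIn S Q) k) := by
      rw [le_antisymm hle2 (hV₂d ▸ sup_le (hki.ge.trans (im_mono (hVd ▸ le_sup_left)))
        (im_mono (hVd ▸ le_sup_right))), imG, Subgroup.subgroupOf_sup hU₂N hkC, Subgroup.map_sup]
    rw [hVeq, cj_sup]
    refine sup_le ?_ ?_
    · rintro _ ⟨y, hy, rfl⟩
      obtain ⟨x, hx, rfl⟩ := (mem_imG hU₂N).1 hy
      exact Subgroup.mem_sup_left (hwU x hx)
    · rintro _ ⟨y, hy, rfl⟩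
      obtain ⟨x, hx, rfl⟩ := (mem_imG hkC).1 hy
      obtain ⟨s, hs, rfl⟩ := (hk.restrict hCU).mem_im.1 hx
      show w * ue ι₂ (k s) * w⁻¹ ∈ _
      rw [show w * ue ι₂ (k s) * w⁻¹ = (w * ue ι₂ (k s) * w⁻¹ * (ue ι₂ (k s))⁻¹) * ue ι₂ (k s) by group]
      exact Subgroup.mul_mem_sup (hshift s hs) (ue_mem_up hkC (mem_im_of_mem hs))
  -- pull back
  obtain ⟨k', hk', hk'k, hkk', hk'i⟩ := (hk.restrict hVN).exists_inv
  rw [← hV₂d] at hk' hkk' hk'i
  have hA := L₂.map_act hV₂N (L₂.cj_range hwV)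
  have hAm : ∀ x ∈ V₂, act ι₂ w x ∈ V₂ := fun x hx => L₂.act_normalizer hV₂N hwV hx
  obtain ⟨γ, hγd⟩ : ∃ γ : Ω → Ω, γ = k' ∘ (act ι₂ w ∘ k) := ⟨_, rfl⟩
  have hkV : ∀ x ∈ V, k x ∈ V₂ := fun x hx => hV₂d ▸ mem_im_of_mem hx
  have hγ : Map F V γ := hγd ▸ ((hk.restrict hVN).comp hA hkV).comp hk' fun x hx => hAm _ (hkV x hx)
  have hγU : ∀ x ∈ U, γ x = av α₁ x := fun x hx => by
    rw [hγd]
    show k' (act ι₂ w (k x)) = _
    rw [hk₂ x hx, hk'k _ (hVd ▸ Subgroup.mem_sup_left (av_mem α₁ hx))]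
  have hQV : Q ≤ V := hVd ▸ hQU.trans le_sup_left
  have hCV : centralizerIn S Q ≤ V := hVd ▸ le_sup_right
  have hHV : hat S Q ≤ V := sup_le hQV hCV
  have hγQ : im Q γ = Q := by rw [im_congr (g := av b) (fun x hx => by rw [hγU x (hQU hx), hα₁b x hx]), im_av]
  have hγH : im (hat S Q) γ = hat S Q := by
    haveI := finite_of_le (hat_le_of hQS : hat S Q ≤ S)
    refine Subgroup.eq_of_le_of_card_ge ((hγ.restrict hHV).im_sup_le.trans (sup_le_sup hγQ.le
      (im_le_iff.2 fun x hx => ?_))) (hγ.restrict hHV).card_im.ge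
    have h1 := hγ.mem_centralizer hQV (hCV hx) (mem_centralizerIn.1 hx).2
    rwa [hγQ] at h1
  have hγs : ∀ s ∈ centralizerIn S Q, s⁻¹ * γ s ∈ T := by
    intro s hs
    have hsV := hCV hs
    obtain ⟨y, hy, hye⟩ := (mem_imG hU₂N).1 (hshift s hs)
    obtain ⟨u, hu, rfl⟩ := hkU.mem_im.1 (hki.ge hy)
    have hks := hkN s (hCU hs)
    have h1 : act ι₂ w (k s) = k (u * s) := by
      refine act_eq L₂.inj (hkN _ (Subgroup.mul_mem _ (hUN hu) (hCU hs))) ?_
      rw [hk.map_mul (hUN hu) (hCU hs), ue_mul (hkN u (hUN hu)) hks, hye]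
      group
    rw [hγd]
    show s⁻¹ * k' (act ι₂ w (k s)) ∈ T
    rw [h1, hk'k _ (hVd ▸ Subgroup.mul_mem_sup hu hs), ← mul_assoc]
    simpa using stronglyClosed_conj_mem c.tC (S.inv_mem hs.1) (hUT hu)
  obtain ⟨g, hg⟩ := L.ofMap Q γ M.qN (hγ.restrict (sup_le hQV hHV)) hγQ hγH
  have hval : ∀ x ∈ hat S Q, act ι g x = γ x := fun x hx =>
    act_eq L.inj (hg x (Subgroup.mem_sup_right hx)).1 (hg x (Subgroup.mem_sup_right hx)).2
  have hgb : π g = b := aut_ext fun x hx => by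
    rw [hπ g x hx, hval x (Subgroup.mem_sup_left hx), hγU x (hQU hx), hα₁b x hx]
  obtain ⟨m, hm, hmb⟩ := CLift.exists_pow_coprime π g (p := p) (by rw [hgb]; exact hbo)
  have hgA : g ∈ L.part hQS hQT c.tC E := by
    refine ⟨?_, fun x hx => ?_⟩
    · rw [M.hatT]
      exact hbm.congr fun x hx => by
        rw [hval x (Subgroup.mem_sup_left hx), hγU x (hQU hx), hα₁b x hx]
    · rw [hval x (Subgroup.mem_sup_right hx)]; exact hγs x hx
  exact hNd ▸ ⟨g ^ m, M.coprime _ hm (Subgroup.pow_mem _ hgA m), hmb.trans hgb⟩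

namespace Ctx.Mod

variable (M : c.Mod Q ι W)
include M

/-- The automorphisms of `P` induced by the part. -/
def wAut (hP : P ≤ normalizerIn S Q) : Subgroup (MulAut P) where
  carrier := {a | ∃ w ∈ W, w ∈ Subgroup.normalizer (imG ι P : Set G) ∧ ∀ x ∈ P, av a x = act ι w x}
  one_mem' := ⟨1, W.one_mem, Subgroup.one_mem _, fun x hx => by rw [av_one hx, act_one M.model.inj (hP hx)]⟩
  mul_mem' := by
    rintro a b ⟨v, hv, hvn, hve⟩ ⟨w, hw, hwn, hwe⟩
    refine ⟨v * w, W.mul_mem hv hw, Subgroup.mul_mem _ hvn hwn, fun x hx => ?_⟩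
    rw [av_mul _ _ hx, hwe x hx, hve _ (M.model.act_normalizer hP hwn hx),
      act_comp (act_spec hP (M.model.cj_range hwn) hx)]
  inv_mem' := by
    rintro a ⟨w, hw, hwn, hwe⟩
    have hwn' := Subgroup.inv_mem _ hwn
    refine ⟨w⁻¹, W.inv_mem hw, hwn', fun x hx => ?_⟩
    have hy := M.model.act_normalizer hP hwn' hx
    have h1 : av a (act ι w⁻¹ x) = x := by
      rw [hwe _ hy, act_comp (act_spec hP (M.model.cj_range hwn') hx), mul_inv_cancel,
        act_one M.model.inj (hP hx)]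
    conv_lhs => rw [← h1, av_inv_av a hy]

/-- An automorphism of order prime to `p` preserving `Q`, in `E` on `Q` and trivial modulo `T`. -/
structure Adm (_M : c.Mod Q ι W) (P : Subgroup Ω) (α : MulAut P) : Prop where
  qP : Q ≤ P
  pN : P ≤ normalizerIn S Q
  memF : α ∈ F.autGroup P
  coprime : (orderOf α).Coprime p
  fixQ : ∀ x ∈ Q, av α x ∈ Q
  memE : Map E Q (av α)
  shift : ∀ x ∈ P, x⁻¹ * av α x ∈ T

/-- Some element of the part agrees with an admissible automorphism on `Q` and normalizes `P`. -/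
theorem exists_near {α : MulAut P} (h : M.Adm P α) :
    ∃ β ∈ M.wAut h.pN, M.Adm P β ∧ (∀ x ∈ Q, av β x = av α x) ∧ ∀ x ∈ P, (av β x)⁻¹ * av α x ∈ Q := by
  have L := M.model
  haveI := L.finite
  haveI := c.finT
  haveI := finite_of_le M.qS
  have hPS : P ≤ S := h.pN.trans inf_le_left
  haveI := finite_of_le hPS
  have hαm := map_of_mem_autGroup hPS h.memF
  obtain ⟨a, ha, hae⟩ := exists_aut h.memE
    (Subgroup.eq_of_le_of_card_ge (im_le_iff.2 h.fixQ) h.memE.card_im.ge)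
  obtain ⟨w, hw, hwa⟩ := c.lift_all Q M.fn M.centric ι W M a ha
  have hwQ : ∀ x ∈ Q, act ι w x = av α x := fun x hx => (hwa x hx).symm.trans (hae x hx)
  have hwQG : ∀ x ∈ Q, w * ue ι x * w⁻¹ = ue ι (av α x) := fun x hx => by
    rw [← hwQ x hx, ue_act (L.hat_range M.qS w (Subgroup.mem_sup_left hx))]
  have hQN : normalizerIn T Q ≤ Subgroup.normalizer (Q : Set Ω) := inf_le_right
  have hcrit : ∀ v ∈ P, ∃ q ∈ Q, w * ue ι v * w⁻¹ = ue ι (q * av α v) := by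
    intro v hv
    have hvN := h.pN hv
    have hαv := av_mem α hv
    obtain ⟨z, hzd⟩ : ∃ z, z = w * ue ι v * w⁻¹ * (ue ι (av α v))⁻¹ := ⟨_, rfl⟩
    have ht : v * (av α v)⁻¹ ∈ normalizerIn T Q := by
      refine ⟨?_, (Subgroup.mul_mem _ hvN (Subgroup.inv_mem _ (h.pN hαv))).2⟩
      have h1 := stronglyClosed_conj_mem c.tC hvN.1 (T.inv_mem (h.shift v hv))
      simpa [mul_assoc] using h1
    have hz : z ∈ W := by
      have h1 := W.mul_mem (W.mul_mem hw (M.normal.conj_mem _ (W.inv_mem hw) (ue ι v)))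
        (M.syl.le (ue_mem_up M.nT ht))
      rw [ue_mul hvN (Subgroup.inv_mem _ (h.pN hαv)), ue_inv (h.pN hαv)] at h1
      rw [hzd]
      simpa [mul_assoc] using h1
    have hzQ : ∀ y ∈ Q, z * ue ι y * z⁻¹ = ue ι y := by
      intro y hy
      obtain ⟨x, hx, rfl⟩ := (hαm.restrict h.qP).mem_im.1
        ((Subgroup.eq_of_le_of_card_ge (im_le_iff.2 h.fixQ) (hαm.restrict h.qP).card_im.ge).ge hy)
      have hx' : v⁻¹ * x * v ∈ Q := by
        simpa using conj_mem_of_normalizer (Subgroup.inv_mem _ hvN.2) hx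
      have h1 : av α (v⁻¹ * x * v) = (av α v)⁻¹ * av α x * av α v := by
        rw [hαm.map_mul (P.mul_mem (P.inv_mem hv) (h.qP hx)) hv, hαm.map_mul (P.inv_mem hv) (h.qP hx),
          hαm.map_inv hv]
      have h2 : w * ue ι (v⁻¹ * x * v) * w⁻¹ = (ue ι (av α v))⁻¹ * ue ι (av α x) * ue ι (av α v) := by
        rw [hwQG _ hx', h1, ue_mul (Subgroup.mul_mem _ (Subgroup.inv_mem _ (h.pN hαv))
          (M.qN (h.fixQ x hx))) (h.pN hαv), ue_mul (Subgroup.inv_mem _ (h.pN hαv)) (M.qN (h.fixQ x hx)),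
          ue_inv (h.pN hαv)]
      rw [ue_mul (Subgroup.mul_mem _ (Subgroup.inv_mem _ hvN) (M.qN hx)) hvN,
        ue_mul (Subgroup.inv_mem _ hvN) (M.qN hx), ue_inv hvN] at h2
      rw [hzd]
      calc w * ue ι v * w⁻¹ * (ue ι (av α v))⁻¹ * ue ι (av α x) *
            (w * ue ι v * w⁻¹ * (ue ι (av α v))⁻¹)⁻¹
          = w * ue ι v * w⁻¹ * ((ue ι (av α v))⁻¹ * ue ι (av α x) * ue ι (av α v)) *
            (w * (ue ι v)⁻¹ * w⁻¹) := by group
        _ = w * ue ι x * w⁻¹ := by rw [← h2]; group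
        _ = _ := hwQG x hx
    obtain ⟨q, hq, hqe⟩ := (mem_imG M.qN).1 (M.cent M.centric (le_normalizerIn M.centric.1)
      Subgroup.le_normalizer hz hzQ)
    exact ⟨q, hq, by rw [ue_mul (M.qN hq) (h.pN hαv), hqe, hzd]; group⟩
  have hwn : w ∈ Subgroup.normalizer (imG ι P : Set G) := by
    refine mem_normalizer_of_cj_le ?_
    rintro _ ⟨y, hy, rfl⟩
    obtain ⟨v, hv, rfl⟩ := (mem_imG h.pN).1 hy
    obtain ⟨q, hq, hqe⟩ := hcrit v hv
    show w * ue ι v * w⁻¹ ∈ _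
    rw [hqe]
    exact ue_mem_up h.pN (P.mul_mem (h.qP hq) (av_mem α hv))
  obtain ⟨β₀, hβ₀, hβ₀e⟩ := L.exists_aut_act h.pN hwn
  have hβ₀Q : ∀ x ∈ Q, av β₀ x = av a x := fun x hx => (hβ₀e x (h.qP hx)).trans (hwa x hx).symm
  have hao : (orderOf a).Coprime p := h.coprime.coprime_dvd_left (orderOf_dvd_of_pow_eq_one (aut_ext fun x hx => by
    rw [← av_pow h.qP (fun y hy => (hae y hy).symm) _ x hx, pow_orderOf_eq_one, av_one (h.qP hx), av_one hx]))
  obtain ⟨m, hmo, ham, hmQ⟩ := exists_pow_restrict h.qP β₀ a hβ₀Q hao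
  have hm : β₀ ^ m ∈ M.wAut h.pN := Subgroup.pow_mem _ (⟨w, hw, hwn, hβ₀e⟩ : β₀ ∈ M.wAut h.pN) m
  obtain ⟨v, hv, hvn, hve⟩ := id hm
  have hQ : ∀ x ∈ Q, av (β₀ ^ m) x = av α x := fun x hx => (hmQ x hx).trans (hae x hx)
  have hsh : ∀ x ∈ P, x⁻¹ * av (β₀ ^ m) x ∈ T := fun x hx => by
    rw [hve x hx]
    exact M.shift_act hv (h.pN hx) (act_spec h.pN (L.cj_range hvn) hx)
  refine ⟨β₀ ^ m, hm, ⟨h.qP, h.pN, pow_mem hβ₀ m, hmo, fun x hx => by rw [hQ x hx]; exact h.fixQ x hx,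
    h.memE.congr fun x hx => (hQ x hx).symm, hsh⟩, hQ, fun x hx => ?_⟩
  obtain ⟨d, hdd⟩ : ∃ d, d = (av (β₀ ^ m) x)⁻¹ * av α x := ⟨_, rfl⟩
  have hβm := map_of_mem_autGroup (F := F) hPS (pow_mem hβ₀ m)
  rw [← hdd]
  refine centric_inv_mem M.centric ?_ fun y hy => ?_
  · have h1 := T.mul_mem (T.inv_mem (hsh x hx)) (h.shift x hx)
    rw [hdd]
    simpa [mul_assoc] using h1
  · obtain ⟨z, hz, rfl⟩ := (hαm.restrict h.qP).mem_im.1
      ((Subgroup.eq_of_le_of_card_ge (im_le_iff.2 h.fixQ) (hαm.restrict h.qP).card_im.ge).ge hy)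
    have hz' : x * z * x⁻¹ ∈ Q := conj_mem_of_normalizer (h.pN hx).2 hz
    have h1 := (hQ _ hz').symm
    rw [hαm.map_conj hx (h.qP hz), hβm.map_conj hx (h.qP hz), hQ z hz] at h1
    rw [hdd]
    calc av α z * ((av (β₀ ^ m) x)⁻¹ * av α x) = (av (β₀ ^ m) x)⁻¹ *
          (av (β₀ ^ m) x * av α z * (av (β₀ ^ m) x)⁻¹) * av α x := by group
      _ = (av (β₀ ^ m) x)⁻¹ * (av α x * av α z * (av α x)⁻¹) * av α x := by rw [h1]
      _ = _ := by group

/-- Two admissible automorphisms induced by the part that agree on `Q` differ by an element of `Q`. -/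
theorem eq_mod_Q {hP : P ≤ normalizerIn S Q} (hQP : Q ≤ P) {a b : MulAut P} (ha : a ∈ M.wAut hP)
    (hb : b ∈ M.wAut hP) (hab : ∀ x ∈ Q, av a x = av b x) :
    ∃ z ∈ Q, ∀ x ∈ P, av b x = av a (z * x * z⁻¹) := by
  have L := M.model
  haveI := L.finite
  obtain ⟨v, hv, hvn, hve⟩ := ha
  obtain ⟨w, hw, hwn, hwe⟩ := hb
  have hQ : ∀ x ∈ Q, v⁻¹ * w * ue ι x * (v⁻¹ * w)⁻¹ = ue ι x := fun x hx => by
    have h1 : v * ue ι x * v⁻¹ = w * ue ι x * w⁻¹ := by
      rw [← ue_act (act_spec hP (L.cj_range hvn) (hQP hx)), ← hve x (hQP hx), hab x hx, hwe x (hQP hx),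
        ue_act (act_spec hP (L.cj_range hwn) (hQP hx))]
    calc v⁻¹ * w * ue ι x * (v⁻¹ * w)⁻¹ = v⁻¹ * (w * ue ι x * w⁻¹) * v := by group
      _ = _ := by rw [← h1]; group
  obtain ⟨z, hz, hze⟩ := (mem_imG M.qN).1 (M.cent M.centric (le_normalizerIn M.centric.1)
    Subgroup.le_normalizer (W.mul_mem (W.inv_mem hv) hw) hQ)
  refine ⟨z, hz, fun x hx => ?_⟩
  have hzx : z * x * z⁻¹ ∈ P := P.mul_mem (P.mul_mem (hQP hz) hx) (P.inv_mem (hQP hz))
  rw [hwe x hx, hve _ hzx]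
  refine act_eq L.inj act_mem ?_
  rw [ue_act (act_spec hP (L.cj_range hvn) hzx), ue_conj (M.qN hz) (hP hx), hze]
  group

/-- An admissible automorphism on a well placed subgroup is induced by the part. -/
theorem mem_wAut_fn {α : MulAut P} (h : M.Adm P α) (hPn : (normSys F M.qS).IsFullyNormalized P) :
    α ∈ M.wAut h.pN := by
  have L := M.model
  haveI := L.finite
  have hPS : P ≤ S := h.pN.trans inf_le_left
  haveI : Finite ↥(normalizerIn S Q) := finite_normalizerIn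
  haveI := finite_of_le hPS
  haveI := mulAut_finite_of_le hPS
  have hNp : IsPGroup p ↥(normalizerIn S Q) := c.pS.to_le inf_le_left
  have hsyl := (fa_iff.1 (fc_fa_of_fn hNp (normSys_saturated c.pS c.sat M.fn) hPn).2).2
  obtain ⟨β, hβW, hβA, hβQ, hβd⟩ := M.exists_near h
  obtain ⟨A, hAd⟩ : ∃ A, A = (normSys F M.qS).autGroup P := ⟨_, rfl⟩
  rw [← hAd] at hsyl
  have hA : ∀ a ∈ F.autGroup P, (∀ x ∈ Q, av a x ∈ Q) → a ∈ A := fun a ha haQ => by
    haveI := finite_of_le M.qS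
    have hm := map_of_mem_autGroup hPS ha
    rw [hAd]
    exact mem_autGroup_of_map ((map_normalizerSystem_iff fun _ => rfl).2 ⟨h.pN,
      fun x hx => h.pN (av_mem a hx), av a, hm.restrict (sup_le le_rfl h.qP), fun _ _ => rfl,
      Subgroup.eq_of_le_of_card_ge (im_le_iff.2 haQ) (hm.restrict h.qP).card_im.ge⟩)
  have hAQ : ∀ a ∈ A, ∀ x ∈ Q, av a x ∈ Q := fun a ha x hx => by
    rw [hAd] at ha
    obtain ⟨-, -, g, hg, hga, hgQ⟩ := (map_normalizerSystem_iff fun _ => rfl).1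
      (map_of_mem_autGroup h.pN ha)
    rw [← hga x (h.qP hx)]
    exact hgQ.le (mem_im_of_mem hx)
  have hconjQ : ∀ y ∈ P, ∀ q ∈ Q, y * q * y⁻¹ ∈ Q := fun y hy q hq =>
    conj_mem_of_normalizer (h.pN hy).2 hq
  -- the stabilizer of `1 ≤ Q ≤ P`
  let D : Subgroup (MulAut P) :=
    { carrier := {a | a ∈ A ∧ (∀ x ∈ Q, av a x = x) ∧ ∀ x ∈ P, x⁻¹ * av a x ∈ Q}
      one_mem' := ⟨A.one_mem, fun x hx => av_one (h.qP hx), fun x hx => by
        rw [av_one hx, inv_mul_cancel]; exact Q.one_mem⟩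
      mul_mem' := by
        rintro a b ⟨ha, ha1, ha2⟩ ⟨hb, hb1, hb2⟩
        refine ⟨A.mul_mem ha hb, fun x hx => by rw [av_mul _ _ (h.qP hx), hb1 x hx, ha1 x hx], fun x hx => ?_⟩
        rw [av_mul _ _ hx]
        simpa [mul_assoc] using Q.mul_mem (hb2 x hx) (ha2 _ (av_mem b hx))
      inv_mem' := by
        rintro a ⟨ha, ha1, ha2⟩
        refine ⟨A.inv_mem ha, fun x hx => ?_, fun x hx => ?_⟩
        · conv_lhs => rw [← ha1 x hx, av_inv_av a (h.qP hx)]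
        · have h1 := Q.inv_mem (ha2 _ (av_mem a⁻¹ hx))
          rw [av_av_inv a hx] at h1
          simpa using h1 }
  have hDn : ∀ b ∈ A, ∀ d ∈ D, b * d * b⁻¹ ∈ D := by
    rintro b hb d ⟨hd, hd1, hd2⟩
    refine ⟨A.mul_mem (A.mul_mem hb hd) (A.inv_mem hb), fun x hx => ?_, fun x hx => ?_⟩
    · have hxP := h.qP hx
      rw [av_mul _ _ hxP, av_mul _ _ (av_mem _ hxP), hd1 _ (hAQ _ (A.inv_mem hb) x hx), av_av_inv b hxP]
    · have hy := av_mem b⁻¹ hx
      have hbF : b ∈ F.autGroup P := by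
        rw [hAd] at hb
        obtain ⟨-, -, g, hg, hga, -⟩ := (map_normalizerSystem_iff fun _ => rfl).1
          (map_of_mem_autGroup h.pN hb)
        exact mem_autGroup_of_map ((hg.restrict le_sup_left).congr hga)
      have hm := map_of_mem_autGroup hPS hbF
      rw [av_mul _ _ hx, av_mul _ _ hy]
      have h1 := hAQ b hb _ (hd2 _ hy)
      rw [hm.map_mul (P.inv_mem hy) (av_mem d hy), hm.map_inv hy, av_av_inv b hx] at h1
      exact h1
  have hDp : IsPGroup p D := fun d => by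
    obtain ⟨hd, hd1, hd2⟩ := d.2
    obtain ⟨j, hj⟩ := exists_pow_eq_one_of_stabilizes (c.pS.to_le hPS) (α := (d : MulAut P))
      (fun i => if i = 0 then ⊥ else if i = 1 then Q else P) 2 rfl (by simp)
      (monotone_nat_of_le_succ fun i => by rcases i with _ | _ | i <;> simp [h.qP])
      (fun i hi x hx hxC => by
        rcases i with _ | _ | i
        · simp only [zero_add, one_ne_zero, if_false, if_true] at hxC ⊢
          rw [Subgroup.mem_bot, hd1 x hxC, inv_mul_cancel]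
        · simpa using hd2 x hx
        · omega)
    exact ⟨j, Subtype.ext (by simpa using hj)⟩
  have hδ : β⁻¹ * α ∈ D := by
    refine ⟨A.mul_mem (A.inv_mem (hA β hβA.memF hβA.fixQ)) (hA α h.memF h.fixQ), fun x hx => ?_, fun x hx => ?_⟩
    · rw [av_mul _ _ (h.qP hx), ← hβQ x hx, av_inv_av β (h.qP hx)]
    · have hax := av_mem α hx
      have hbF := map_of_mem_autGroup hPS ((F.autGroup P).inv_mem hβA.memF)
      have hd := hAQ β⁻¹ (A.inv_mem (hA β hβA.memF hβA.fixQ)) _ (hβd x hx)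
      rw [hbF.map_mul (P.inv_mem (av_mem β hx)) hax, hbF.map_inv (av_mem β hx), av_inv_av β hx] at hd
      rwa [av_mul _ _ hx]
  have hDS : D ≤ autInducedBy (normalizerIn S Q) P := by
    obtain ⟨a, ha, hle⟩ := hsyl.conj_le hDp (fun d hd => hd.1)
    intro d hd
    have h1 := hle (conj_mem_cj (g := a) (hDn a⁻¹ (A.inv_mem ha) d hd))
    simpa [mul_assoc] using h1
  obtain ⟨s, hs, hse⟩ := mem_autInducedBy.1 (hDS hδ)
  have hsn : s ∈ Subgroup.normalizer (P : Set Ω) := mem_normalizer_of_conj_aut hse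
  have hsG : ue ι s ∈ Subgroup.normalizer (imG ι P : Set G) := by
    refine mem_normalizer_of_cj_le ?_
    rintro _ ⟨y, hy, rfl⟩
    obtain ⟨x, hx, rfl⟩ := (mem_imG h.pN).1 hy
    show ue ι s * ue ι x * (ue ι s)⁻¹ ∈ _
    rw [← ue_conj hs (h.pN hx)]
    exact ue_mem_up h.pN (conj_mem_of_normalizer hsn hx)
  obtain ⟨w, hw, hwn, hwe⟩ := hβW
  obtain ⟨g, hgd⟩ : ∃ g, g = w * ue ι s := ⟨_, rfl⟩
  have hgn : g ∈ Subgroup.normalizer (imG ι P : Set G) := hgd ▸ Subgroup.mul_mem _ hwn hsG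
  have hge : ∀ x ∈ P, av α x = act ι g x := fun x hx => by
    have h1 := hse x hx
    have h2 : act ι g x = act ι w (s * x * s⁻¹) := by
      rw [hgd, ← act_comp (act_spec h.pN (L.cj_range hsG) hx), act_conj L.inj hs (h.pN hx)]
    rw [h2, ← h1, ← hwe _ (av_mem _ hx), av_mul _ _ hx, av_av_inv β (av_mem α hx)]
  obtain ⟨k, hk⟩ := L.syl.isPGroup ⟨ue ι s, ue_mem_range hs⟩
  have hgW : g ^ p ^ k ∈ W := by
    have h1 : ∀ n : ℕ, g ^ n * (ue ι s ^ n)⁻¹ ∈ W := by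
      intro n
      induction n with
      | zero => simp
      | succ n ih =>
        have e : g ^ (n + 1) * (ue ι s ^ (n + 1))⁻¹ = g * (g ^ n * (ue ι s ^ n)⁻¹) * g⁻¹ * w := by
          rw [pow_succ', pow_succ', mul_inv_rev, hgd]; group
        rw [e]
        exact W.mul_mem (M.normal.conj_mem _ ih g) hw
    have := h1 (p ^ k)
    rwa [show ue ι s ^ p ^ k = 1 from congrArg Subtype.val hk, inv_one, mul_one] at this
  have hpow : ∀ n : ℕ, ∀ x ∈ P, av (α ^ n) x = act ι (g ^ n) x := by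
    intro n
    induction n with
    | zero => intro x hx; rw [pow_zero, pow_zero, av_one hx, act_one L.inj (h.pN hx)]
    | succ n ih =>
      intro x hx
      rw [pow_succ', pow_succ', av_mul _ _ hx, ih x hx, hge _ (L.act_normalizer h.pN (Subgroup.pow_mem _ hgn n) hx),
        act_comp (act_spec h.pN (L.cj_range (Subgroup.pow_mem _ hgn n)) hx)]
  exact mem_of_pPow_mem (k := k) h.coprime ⟨_, hgW, Subgroup.pow_mem _ hgn _, hpow _⟩

/-- **Admissible automorphisms are induced by the part.** -/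
theorem exists_act {α : MulAut P} (h : M.Adm P α) :
    ∃ w ∈ W, (orderOf w).Coprime p ∧ w ∈ Subgroup.normalizer (imG ι P : Set G) ∧
      ∀ x ∈ P, av α x = act ι w x := by
  have L := M.model
  haveI := L.finite
  have hPS : P ≤ S := h.pN.trans inf_le_left
  haveI : Finite ↥(normalizerIn S Q) := finite_normalizerIn
  haveI := finite_of_le hPS
  haveI := mulAut_finite_of_le hPS
  haveI := finite_of_le M.qS
  have hmem : α ∈ M.wAut h.pN := by
    obtain ⟨β, hβW, hβA, hβQ, -⟩ := M.exists_near h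
    obtain ⟨P₂, hPP₂, hP₂⟩ := exists_fullyNormalized (F := normSys F M.qS) h.pN
    obtain ⟨f, hf, hfi⟩ := isConj_iff.1 hPP₂
    obtain ⟨hP₂N, -, χ, hχ, hχf, hχQ⟩ := (map_normalizerSystem_iff fun _ => rfl).1 hf
    have hχP := hχ.restrict le_sup_left
    have hi : im P χ = P₂ := (im_congr hχf).trans hfi
    have hP₂le : P₂ ≤ normalizerIn S Q := hP₂.1
    have hQP₂ : Q ≤ P₂ := hi ▸ hχQ.ge.trans (im_mono h.qP)
    obtain ⟨ε, hε⟩ := exists_equiv hχP hi
    have tr : ∀ γ : MulAut P, M.Adm P γ → M.Adm P₂ (MulAut.congr ε γ) := by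
      intro γ hγ
      refine ⟨hQP₂, hP₂le, congr_mem_autGroup hχP hi hε hγ.memF, by rw [MulEquiv.orderOf_eq]; exact hγ.coprime,
        fun y hy => ?_, ?_, fun y hy => ?_⟩
      · obtain ⟨x, hx, rfl⟩ := (hχP.restrict h.qP).mem_im.1 (hχQ.ge hy)
        rw [av_congr_apply hε γ (h.qP hx)]
        exact hχQ.le (mem_im_of_mem (hγ.fixQ x hx))
      · obtain ⟨k, hk, hke⟩ := c.strongInv Q Q (av γ) χ le_rfl M.centric.1 hγ.memE hγ.fixQ
          (hχP.restrict h.qP)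
        rw [hχQ] at hk
        refine hk.congr fun y hy => ?_
        obtain ⟨x, hx, rfl⟩ := (hχP.restrict h.qP).mem_im.1 (hχQ.ge hy)
        rw [hke x hx, av_congr_apply hε γ (h.qP hx)]
      · obtain ⟨x, hx, rfl⟩ := hχP.mem_im.1 (hi.ge hy)
        rw [av_congr_apply hε γ hx, ← hχP.map_inv hx, ← hχP.map_mul (P.inv_mem hx) (av_mem γ hx)]
        exact stronglyClosed_map c.tC hχP (P.mul_mem (P.inv_mem hx) (av_mem γ hx)) (hγ.shift x hx)
    obtain ⟨z, hz, hze⟩ := M.eq_mod_Q hQP₂ (M.mem_wAut_fn (tr β hβA) hP₂)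
      (M.mem_wAut_fn (tr α h) hP₂) (fun y hy => by
        obtain ⟨x, hx, rfl⟩ := (hχP.restrict h.qP).mem_im.1 (hχQ.ge hy)
        rw [av_congr_apply hε β (h.qP hx), av_congr_apply hε α (h.qP hx), hβQ x hx])
    obtain ⟨z₀, hz₀, rfl⟩ := (hχP.restrict h.qP).mem_im.1 (hχQ.ge hz)
    obtain ⟨v, hv, hvn, hve⟩ := hβW
    have hzn : ue ι z₀ ∈ Subgroup.normalizer (imG ι P : Set G) :=
      Subgroup.le_normalizer (ue_mem_up h.pN (h.qP hz₀))
    refine ⟨v * ue ι z₀, W.mul_mem hv (M.syl.le (ue_mem_up M.nT (le_normalizerIn M.centric.1 hz₀))),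
      Subgroup.mul_mem _ hvn hzn, fun x hx => ?_⟩
    have hzx : z₀ * x * z₀⁻¹ ∈ P := P.mul_mem (P.mul_mem (h.qP hz₀) hx) (P.inv_mem (h.qP hz₀))
    rw [← act_comp (act_spec h.pN (L.cj_range hzn) hx), act_conj L.inj (M.qN hz₀) (h.pN hx), ← hve _ hzx]
    refine hχP.injOn (av_mem α hx) (av_mem β hzx) ?_
    rw [← av_congr_apply hε α hx, ← av_congr_apply hε β hzx, hze _ (hi.le (mem_im_of_mem hx)),
      hχP.map_conj (h.qP hz₀) hx]
  obtain ⟨w, hw, hwn, hwe⟩ := hmem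
  obtain ⟨i, r, hr, hord⟩ := Nat.exists_eq_pow_mul_and_not_dvd (orderOf_pos w).ne' p
    (Fact.out : p.Prime).ne_one
  obtain ⟨k, hk⟩ := exists_pow_eq_self_of_coprime (x := α) (n := p ^ i) (h.coprime.symm.pow_left i)
  refine ⟨w ^ (p ^ i * k), W.pow_mem hw _, ((Nat.Prime.coprime_iff_not_dvd Fact.out).2 hr).symm.coprime_dvd_left
    (orderOf_dvd_of_pow_eq_one ?_), Subgroup.pow_mem _ hwn _, ?_⟩
  · rw [← pow_mul, show p ^ i * k * r = orderOf w * k by rw [hord]; ring, pow_mul, pow_orderOf_eq_one, one_pow]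
  · have key : ∀ n : ℕ, ∀ x ∈ P, av (α ^ n) x = act ι (w ^ n) x := by
      intro n
      induction n with
      | zero => intro x hx; rw [pow_zero, pow_zero, av_one hx, act_one L.inj (h.pN hx)]
      | succ n ih =>
        intro x hx
        rw [pow_succ', pow_succ', av_mul _ _ hx, ih x hx, hwe _ (L.act_normalizer h.pN (Subgroup.pow_mem _ hwn n) hx),
          act_comp (act_spec h.pN (L.cj_range (Subgroup.pow_mem _ hwn n)) hx)]
    intro x hx
    rw [← key _ x hx, pow_mul, hk]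

end Ctx.Mod

end Cfsg.Agent.Local.FS.Balance
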