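import Cfsg.Agent.Lib.Local.FS.Balance.Sat
import Cfsg.Agent.Lib.Local.FS.Balance.Cent
import Cfsg.Agent.Lib.Local.FS.PowerIndex

/-!
The normal subsystem has `p`-power index in each product, and its `p`-residual is normal.
-/

set_option autoImplicit false

namespace Cfsg.Agent.Local.FS.Balance

open Cfsg Cfsg.FusionSystem Cfsg.Agent.Fusion Cfsg.Agent.Local.FS

universe u

variable {Ω : Type u} [Group Ω] {S T : Subgroup Ω} {F : FusionSystem S} {E : FusionSystem T}
  {P Y : Subgroup Ω} {f g : Ω → Ω} {p : ℕ}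

/-- A subsystem of `p`-power index over a strongly closed subgroup has the whole hyperfocal subgroup. -/
theorem hyperfocal_le_of_pPower {R : Subgroup Ω} {D : FusionSystem R} [Finite R] [Fact p.Prime]
    (hR : IsPGroup p R) (hT : D.StronglyClosed T) (hE : E.HasPPowerIndexIn D p) :
    D.hyperfocalSubgroup p ≤ E.hyperfocalSubgroup p := by
  haveI := finite_of_le hT.1
  refine (Subgroup.closure_le _).2 ?_
  rintro _ ⟨P, α, x, hP, hα, rfl⟩
  suffices h : ∀ x ∈ P, x⁻¹ * av (α : MulAut P) x ∈ E.hyperfocalSubgroup p by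
    have := h x x.2
    rwa [av_coe] at this
  haveI := mulAut_finite_of_le hP
  induction hα using Subgroup.closure_induction with
  | mem δ hδ =>
    intro x hx
    have hm := map_of_mem_autGroup hP δ.2
    have hPT : Map E (P ⊓ T) (av (δ : MulAut P)) := pPower_restrict hE hT hP (Subgroup.subset_closure hδ)
    haveI := finite_of_le (hT.1.trans le_rfl)
    haveI : Finite ↥(P ⊓ T) := finite_of_le inf_le_right
    obtain ⟨β, hβ, hβe⟩ := exists_aut hPT (Subgroup.eq_of_le_of_card_ge (im_le_iff.2 fun z hz =>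
      ⟨av_mem _ hz.1, stronglyClosed_map hT hm hz.1 hz.2⟩) hPT.card_im.ge)
    have hord : β ^ orderOf δ = 1 := aut_ext fun z hz => by
      rw [av_one hz, ← av_pow (inf_le_left : P ⊓ T ≤ P) (fun w hw => (hβe w hw).symm) _ z hz,
        ← SubmonoidClass.coe_pow, pow_orderOf_eq_one, OneMemClass.coe_one, av_one hz.1]
    have hβp : (⟨β, hβ⟩ : E.autGroup (P ⊓ T)) ∈ pResidual p ↥(E.autGroup (P ⊓ T)) := by
      refine Subgroup.subset_closure ?_
      show (orderOf (⟨β, hβ⟩ : E.autGroup (P ⊓ T))).Coprime p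
      rw [← Subgroup.orderOf_coe]
      exact Nat.Coprime.coprime_dvd_left (orderOf_dvd_of_pow_eq_one hord) hδ
    obtain ⟨y, hy⟩ : ∃ y, y = x⁻¹ * av (δ : MulAut P) x := ⟨_, rfl⟩
    have hyPT : y ∈ P ⊓ T := hy ▸ ⟨P.mul_mem (P.inv_mem hx) (av_mem _ hx),
      hE.2.1 (inv_mul_mem_hyperfocal hP (Subgroup.subset_closure hδ) hx)⟩
    rw [← hy]
    have key : ∀ k : ℕ, x⁻¹ * av ((δ : MulAut P) ^ k) x ∈ P ⊓ T ∧
        (y ^ k)⁻¹ * (x⁻¹ * av ((δ : MulAut P) ^ k) x) ∈ E.hyperfocalSubgroup p := by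
      intro k
      induction k with
      | zero => simp [pow_zero, av_one hx]
      | succ k ih =>
        obtain ⟨z, hz⟩ : ∃ z, z = x⁻¹ * av ((δ : MulAut P) ^ k) x := ⟨_, rfl⟩
        rw [← hz] at ih
        have h1 : x⁻¹ * av ((δ : MulAut P) ^ (k + 1)) x = y * av (δ : MulAut P) z := by
          rw [pow_succ', av_mul _ _ hx, show av ((δ : MulAut P) ^ k) x = x * z by rw [hz]; group,
            hm.map_mul hx ih.1.1, hy, mul_assoc]
        rw [h1]
        refine ⟨(P ⊓ T).mul_mem hyPT ⟨av_mem _ ih.1.1, stronglyClosed_map hT hm ih.1.1 ih.1.2⟩, ?_⟩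
        rw [show (y ^ (k + 1))⁻¹ * (y * av (δ : MulAut P) z) =
          (y ^ k)⁻¹ * z * (z⁻¹ * av (δ : MulAut P) z) by group]
        refine Subgroup.mul_mem _ ih.2 ?_
        rw [← hβe z ih.1]
        exact inv_mul_mem_hyperfocal (P := P ⊓ T) inf_le_right hβp ih.1
    have hyk : y ^ orderOf δ ∈ E.hyperfocalSubgroup p := by
      have := (key (orderOf δ)).2
      rwa [← SubmonoidClass.coe_pow, pow_orderOf_eq_one, OneMemClass.coe_one, av_one hx, inv_mul_cancel,
        mul_one, Subgroup.inv_mem_iff] at this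
    obtain ⟨j, hj⟩ := hR ⟨y, hT.1 hyPT.2⟩
    obtain ⟨m, hm'⟩ := exists_pow_eq_self_of_coprime (x := y) (n := orderOf δ)
      ((Nat.Coprime.pow_right j hδ).coprime_dvd_right
        (orderOf_dvd_of_pow_eq_one (by simpa using congrArg Subtype.val hj)))
    rw [← hm']
    exact Subgroup.pow_mem _ hyk m
  | one => intro x hx; rw [OneMemClass.coe_one, av_one hx, inv_mul_cancel]; exact Subgroup.one_mem _
  | mul a b _ _ iha ihb =>
    intro x hx
    rw [Subgroup.coe_mul, av_mul _ _ hx]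
    have := Subgroup.mul_mem _ (ihb x hx) (iha _ (av_mem (b : MulAut P) hx))
    simpa [mul_assoc] using this
  | inv a _ ih =>
    intro x hx
    have := Subgroup.inv_mem _ (ih _ (av_mem (a : MulAut P)⁻¹ hx))
    rw [av_av_inv (a : MulAut P) hx] at this
    simpa [Subgroup.coe_inv] using this

variable [Finite S] [Fact p.Prime] (c : Ctx F E p)
include c

/-- An automorphism of order prime to `p` of the product needs no conjugation outside `T`. -/
theorem Ctx.kmap_coprime (hY : Y ≤ S) (hT : T ≤ Y) (hP : P ≤ Y) {α : MulAut P}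
    (hα : α ∈ (c.sys hY).autGroup P) (ho : (orderOf α).Coprime p) : c.KMap T Y P (av α) := by
  haveI := finite_of_le hY
  obtain ⟨n, hn⟩ := IsPGroup.iff_card.1 (c.pS.to_le hY)
  obtain ⟨m, hm⟩ := exists_pow_eq_self_of_coprime (x := α) (n := p ^ n) (Nat.Coprime.pow_left n ho.symm)
  obtain ⟨β, hβ⟩ : ∃ β, β = α ^ m := ⟨_, rfl⟩
  have hβα : β ^ p ^ n = α := by rw [hβ, ← pow_mul, mul_comm, pow_mul, hm]
  obtain ⟨y, hy, e, he, hβe⟩ := c.kmap_dec hY hT
    ((c.map_sys hY).1 (map_of_mem_autGroup hP (hβ ▸ Subgroup.pow_mem _ hα m)))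
  have key : ∀ k : ℕ, ∃ d, c.KMap T Y P d ∧ ∀ x ∈ P, av (β ^ k) x = y ^ k * d x * (y ^ k)⁻¹ := by
    intro k
    induction k with
    | zero => exact ⟨id, c.kmap_id hY hT hP, fun x hx => by simp [pow_zero, av_one hx]⟩
    | succ k ih =>
      obtain ⟨d, hd, hde⟩ := ih
      have hc := map_conjBy (F := F) hY (hY (Y.inv_mem hy))
      obtain ⟨u, hu, hue⟩ := c.kmap_transport hT hc hd
      rw [Subgroup.eq_of_le_of_card_ge (im_le_iff.2 fun x hx =>
        Y.mul_mem (Y.mul_mem (Y.inv_mem hy) hx) (Y.inv_mem (Y.inv_mem hy))) hc.card_im.ge, c.im_T hT hc] at hu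
      have he' : ∀ x ∈ P, e x = y⁻¹ * av β x * y⁻¹⁻¹ := fun x hx => by rw [hβe x hx]; group
      refine ⟨u ∘ e, c.kmap_comp he hu fun x hx => ?_, fun x hx => ?_⟩
      · rw [he' x hx]
        exact mem_im_of_mem (f := fun z => y⁻¹ * z * y⁻¹⁻¹) (av_mem β hx)
      · rw [pow_succ β, av_mul _ _ hx, hde _ (av_mem β hx)]
        show _ = y ^ (k + 1) * u (e x) * (y ^ (k + 1))⁻¹
        rw [he' x hx, hue _ (av_mem β hx)]
        group
  obtain ⟨d, hd, hde⟩ := key (p ^ n)
  refine c.kmap_congr hd fun x hx => ?_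
  have h1 : y ^ p ^ n = 1 := by
    have h2 : (⟨y, hy⟩ : Y) ^ p ^ n = 1 := by rw [← hn]; exact pow_card_eq_one'
    simpa using congrArg Subtype.val h2
  rw [← hβα, hde x hx, h1]
  simp

/-- The normal subsystem lies in each product. -/
theorem Ctx.sys_contains (hY : Y ≤ S) (hT : T ≤ Y) (hf : Map E P f) : Map (c.sys hY) P f := by
  haveI := c.finT
  haveI := finite_of_le hY
  refine alperin c.pT c.eSat ⟨fun h he => h.congr he, fun _ h hR => h.restrict hR, fun _ _ h h' hm => h.comp h' hm,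
    fun _ h hg => (isClosedClass_map (F := c.sys hY) _).inv h h hg⟩ (fun R hR α hα => ?_) P f hf
  have hRc : E.IsCentric R := hR.elim (by rintro rfl; exact c.centric_top) fun h => h.1
  exact (c.map_sys hY).2 (c.kmap_mono hT le_rfl hY le_rfl hT
    (c.kmap_of_E hY hT hRc (map_of_mem_autGroup hRc.1 hα)))

/-- The normal subsystem has `p`-power index in each product. -/
theorem Ctx.pPower_sys (hY : Y ≤ S) (hT : T ≤ Y) : E.HasPPowerIndexIn (c.sys hY) p := by
  haveI := finite_of_le hY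
  haveI := c.finT
  refine ⟨fun P φ hφ => (c.sys_contains hY hT (map_of_mem hφ)).mem_hom fun x => (fn_coe φ x).symm, ?_, ?_⟩
  · refine (Subgroup.closure_le _).2 ?_
    rintro _ ⟨P, α, x, hP, hα, rfl⟩
    suffices h : ∀ x ∈ P, x⁻¹ * av (α : MulAut P) x ∈ T by
      have := h x x.2
      rwa [av_coe] at this
    induction hα using Subgroup.closure_induction with
    | mem δ hδ =>
      intro x hx
      exact c.kmap_shift hY hT (c.kmap_coprime hY hT hP δ.2 (by rw [Subgroup.orderOf_coe]; exact hδ)) hx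
    | one => intro x hx; rw [OneMemClass.coe_one, av_one hx, inv_mul_cancel]; exact T.one_mem
    | mul a b _ _ iha ihb =>
      intro x hx
      rw [Subgroup.coe_mul, av_mul _ _ hx]
      have := T.mul_mem (ihb x hx) (iha _ (av_mem (b : MulAut P) hx))
      simpa [mul_assoc] using this
    | inv a _ ih =>
      intro x hx
      have := T.inv_mem (ih _ (av_mem (a : MulAut P)⁻¹ hx))
      rw [av_av_inv (a : MulAut P) hx] at this
      simpa [Subgroup.coe_inv] using this
  · intro P hP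
    rw [pResidual, MonoidHom.map_closure, Subgroup.closure_le]
    rintro _ ⟨α, hα, rfl⟩
    have h1 := c.kmap_E hY hT (c.kmap_coprime hY hT (hP.trans hT) α.2 (by rw [Subgroup.orderOf_coe]; exact hα))
    rw [inf_eq_left.2 hP] at h1
    exact mem_autGroup_of_map h1

theorem Ctx.sys_closed (hY : Y ≤ S) (hT : T ≤ Y) : (c.sys hY).StronglyClosed T :=
  stronglyClosed_iff.2 ⟨hT, fun P f hP hf x hx =>
    stronglyClosed_map c.tC (hf.of_sub (c.sys_sub hY)) hx (hP hx)⟩

theorem Ctx.hyperfocal_sys (hY : Y ≤ S) (hT : T ≤ Y) :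
    (c.sys hY).hyperfocalSubgroup p = E.hyperfocalSubgroup p := by
  haveI := finite_of_le hY
  exact le_antisymm (hyperfocal_le_of_pPower (c.pS.to_le hY) (c.sys_closed hY hT) (c.pPower_sys hY hT))
    (hyperfocal_mono (c.pPower_sys hY hT).1)

/-- A system over the hyperfocal subgroup of `p`-power index in `E` has it in each product. -/
theorem Ctx.residual_sys (hY : Y ≤ S) (hT : T ≤ Y) {E₁ : FusionSystem (E.hyperfocalSubgroup p)}
    (hE₁ : E₁.HasPPowerIndexIn E p) : E₁.HasPPowerIndexIn (c.sys hY) p := by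
  haveI := finite_of_le hY
  haveI := c.finT
  exact pPower_trans (c.pPower_sys hY hT) hE₁ (c.hyperfocal_sys hY hT).le (hyperfocal_le (F := E))

/-- Automorphisms of `T` keep the hyperfocal subgroup. -/
theorem Ctx.hyp_map (hg : Map F T g) {x : Ω} (hx : x ∈ E.hyperfocalSubgroup p) :
    g x ∈ E.hyperfocalSubgroup p := by
  haveI := c.finT
  have hle : E.hyperfocalSubgroup p ≤ T := hyperfocal_le (F := E)
  induction hx using Subgroup.closure_induction with
  | mem z hz =>
    obtain ⟨P, α, x, hP, hα, rfl⟩ := hz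
    have hgP := hg.restrict hP
    have hgT : im P g ≤ T := im_le_iff.2 fun w hw => stronglyClosed_map c.tC hg (hP hw) (hP hw)
    haveI := mulAut_finite_of_le hP
    obtain ⟨e, he⟩ := exists_equiv hgP rfl
    let cg : E.autGroup P →* E.autGroup (im P g) :=
      ((MulAut.congr e).toMonoidHom.comp (E.autGroup P).subtype).codRestrict _
        (fun a => congr_mem_sub c.inv hgP hP rfl he a.2)
    haveI := mulAut_finite_of_le hgT
    have h1 := inv_mul_mem_hyperfocal (F := E) (p := p) hgT (γ := cg α) (Fusion.map_pResidual_le cg ⟨α, hα, rfl⟩)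
      (mem_im_of_mem (f := g) x.2)
    have h2 : av ((cg α : E.autGroup (im P g)) : MulAut ↥(im P g)) (g x) = g (av (α : MulAut P) x) :=
      av_congr_apply he _ x.2
    rw [h2, av_coe, ← hg.map_inv (hP x.2), ← hg.map_mul (T.inv_mem (hP x.2)) (hP (SetLike.coe_mem _))] at h1
    exact h1
  | one => rw [hg.map_one]; exact Subgroup.one_mem _
  | mul a b ha hb iha ihb => rw [hg.map_mul (hle ha) (hle hb)]; exact Subgroup.mul_mem _ iha ihb
  | inv a ha iha => rw [hg.map_inv (hle ha)]; exact Subgroup.inv_mem _ iha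

theorem Ctx.hyp_closed : F.StronglyClosed (E.hyperfocalSubgroup p) := by
  haveI := c.finT
  have hle : E.hyperfocalSubgroup p ≤ T := hyperfocal_le (F := E)
  have hn : ((E.hyperfocalSubgroup p).subgroupOf T).Normal :=
    ⟨fun z hz s => c.hyp_map (map_conjBy c.tS (c.tS s.2)) hz⟩
  have hscE := pPower_stronglyClosed c.pT c.eSat hle hn le_rfl
  refine stronglyClosed_iff.2 ⟨hle.trans c.tS, fun P f hP hf x hx => ?_⟩
  obtain ⟨a, ha, e, he, hfe⟩ := decomp_all c.pS c.sat c.inv.1 c.tC c.strongInv P f (hP.trans hle) hf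
  rw [hfe x hx]
  exact c.hyp_map (map_of_mem_autGroup c.tS ha) (stronglyClosed_map hscE he hx (hP hx))

/-- The `p`-residual of a normal subsystem is normal. -/
theorem Ctx.residual_normal {E₁ : FusionSystem (E.hyperfocalSubgroup p)} (hs : E₁.IsSaturated p)
    (hE₁ : E₁.HasPPowerIndexIn E p) : E₁.IsNormalIn F p := by
  haveI := c.finT
  have hle : E.hyperfocalSubgroup p ≤ T := hyperfocal_le (F := E)
  have hHc := c.hyp_closed
  haveI := finite_of_le hHc.1
  have hn : ((E.hyperfocalSubgroup p).subgroupOf T).Normal :=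
    ⟨fun z hz s => c.hyp_map (map_conjBy c.tS (c.tS s.2)) hz⟩
  have hnS : ((E.hyperfocalSubgroup p).subgroupOf S).Normal :=
    ⟨fun z hz s => stronglyClosed_conj_mem hHc s.2 hz⟩
  have hi := pPower_invariant c.pT c.eSat hn hs hE₁
  have hsub : E₁.IsSubsystemOf F := fun P φ hφ => c.inv.1 P (hE₁.1 P hφ)
  refine ⟨⟨hs, c.sat, (isInvariantIn_iff c.pS c.sat hsub hHc).2 fun A B f g hAB hB hf hfB hg => ?_⟩, ?_⟩
  · obtain ⟨a, ha, e, he, hge⟩ := decomp_all c.pS c.sat c.inv.1 c.tC c.strongInv B g (hB.trans hle) hg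
    obtain ⟨h₁, hh₁, h₁e⟩ := (isInvariantIn_iff c.pT c.eSat hE₁.1 hi.2.1).1 hi A B f e hAB hB hf hfB he
    have ham := (map_of_mem_autGroup c.tS ha).restrict hle
    obtain ⟨a₀, ha₀, ha₀e⟩ := exists_aut ham (Subgroup.eq_of_le_of_card_ge
      (im_le_iff.2 fun z hz => c.hyp_map (map_of_mem_autGroup c.tS ha) hz) ham.card_im.ge)
    obtain ⟨h, hh, hhe⟩ := pPower_transport_up c.pS c.inv c.tS hs hE₁ ha₀ hh₁
    have hga : ∀ x ∈ B, g x = av a₀ (e x) := fun x hx => by
      rw [hge x hx, ha₀e _ (stronglyClosed_map hi.2.1 he hx (hB hx))]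
    rw [← (he.restrict hAB).im_comp, im_congr (f := av a₀ ∘ e) (g := g) fun x hx => (hga x (hAB hx)).symm] at hh
    refine ⟨h, hh, fun x hx => ?_⟩
    rw [hga x (hAB hx), hhe _ (mem_im_of_mem hx), h₁e x hx, ← hga _ (hfB x hx)]
  · intro α hα
    obtain ⟨β, hβ, hrest⟩ := (pPower_normal c.pS (c.sys_saturated le_rfl c.tS) hnS hs
      (c.residual_sys le_rfl c.tS hE₁)).2 α hα
    exact ⟨β, autGroup_le_of_sub (c.sys_sub le_rfl) (sup_le hHc.1 inf_le_left) hβ, hrest⟩

end Cfsg.Agent.Local.FS.Balance
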