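import Cfsg.Agent.Lib.Local.FS.Balance.Str
import Cfsg.Agent.Lib.Local.FS.CentricCriterion
import Cfsg.Agent.Lib.Fusion.OperatorFactor

/-!
The product of a normal subsystem with a subgroup above its base is saturated.
-/

set_option autoImplicit false

namespace Cfsg.Agent.Local.FS.Balance

open Cfsg Cfsg.FusionSystem Cfsg.Agent.Fusion Cfsg.Agent.Local.FS Cfsg.Agent.Local.FS.Meet

universe u

variable {Ω : Type u} [Group Ω] {S T : Subgroup Ω} {F : FusionSystem S} {E : FusionSystem T}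
  {A B P Q R U Y : Subgroup Ω} {f g : Ω → Ω} {p : ℕ}
  {G : Type u} [Group G] {N : Subgroup Ω} {ι : ↥N →* G} {W : Subgroup G}

omit [Group G] in
theorem conj_im_inv (F : FusionSystem S) (hA : A ≤ S) {y : Ω} (hy : y ∈ S) :
    im (im A fun x => y * x * y⁻¹) (fun x => y⁻¹ * x * y⁻¹⁻¹) = A := by
  rw [← (map_conjBy (F := F) hA hy).im_comp,
    im_congr (f := (fun x => y⁻¹ * x * y⁻¹⁻¹) ∘ fun x => y * x * y⁻¹) (g := id) fun x _ => by
      show y⁻¹ * (y * x * y⁻¹) * y⁻¹⁻¹ = x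
      group,
    im_id]

variable [Finite S] [Fact p.Prime] {c : Ctx F E p}

omit [Fact p.Prime] in
theorem Ctx.Pre.mem_normalizer (L : c.Pre Q ι W) (hA : A ≤ N) {z : Ω} (hz : z ∈ N)
    (h : ue ι z ∈ Subgroup.normalizer (imG ι A : Set G)) : z ∈ Subgroup.normalizer (A : Set Ω) := by
  haveI := finite_of_le (hA.trans L.nS)
  refine mem_normalizer_of_conj_mem (S := S) (hA.trans L.nS) fun a ha => ?_
  have h1 := conj_mem_of_normalizer h (ue_mem_up hA ha)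
  rw [← ue_conj hz (hA ha)] at h1
  obtain ⟨b, hb, hbe⟩ := (mem_imG hA).1 h1
  rwa [← ue_inj L.inj (hA hb) (N.mul_mem (N.mul_mem hz (hA ha)) (N.inv_mem hz)) hbe]

section
variable (c)
include c

/-- Conjugation keeps conjugacy in the subsystem. -/
theorem Ctx.econj_conj (h : E.IsConj A B) {y : Ω} (hy : y ∈ S) :
    E.IsConj (im A fun x => y * x * y⁻¹) (im B fun x => y * x * y⁻¹) := by
  obtain ⟨f, hf, rfl⟩ := isConj_iff.1 h
  have hm := map_conjBy (F := F) c.tS hy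
  obtain ⟨k, hk, hke⟩ := c.strongInv A T f _ hf.le le_rfl hf (fun x hx => hf.mem hx) hm
  refine isConj_iff.2 ⟨k, hk, ?_⟩
  rw [← (hm.restrict hf.le).im_comp, ← hf.im_comp]
  exact im_congr hke

/-- The subgroup of `Y` keeping the conjugates of a subgroup. -/
theorem Ctx.exists_stab (hY : Y ≤ S) (hQ : Q ≤ T) :
    ∃ Y' : Subgroup Ω, ∀ y, y ∈ Y' ↔ y ∈ Y ∧ E.IsConj Q (im Q fun x => y * x * y⁻¹) := by
  have hQS := hQ.trans c.tS
  let Y' : Subgroup Ω :=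
    { carrier := {y | y ∈ Y ∧ E.IsConj Q (im Q fun x => y * x * y⁻¹)}
      one_mem' := ⟨Y.one_mem, by
        rw [im_congr (f := fun x => (1 : Ω) * x * 1⁻¹) (g := id) fun x _ => by simp, im_id]
        exact isConj_refl hQ⟩
      mul_mem' := by
        rintro a b ⟨ha, ha'⟩ ⟨hb, hb'⟩
        refine ⟨Y.mul_mem ha hb, ?_⟩
        have h1 : im (im Q fun x => b * x * b⁻¹) (fun x => a * x * a⁻¹) =
            im Q fun x => a * b * x * (a * b)⁻¹ := by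
          rw [← (map_conjBy (F := F) hQS (hY hb)).im_comp]
          exact im_congr fun x _ => by show a * (b * x * b⁻¹) * a⁻¹ = _; group
        exact h1 ▸ isConj_trans ha' (c.econj_conj hb' (hY ha))
      inv_mem' := by
        rintro a ⟨ha, ha'⟩
        refine ⟨Y.inv_mem ha, ?_⟩
        have h1 := c.econj_conj ha' (S.inv_mem (hY ha))
        rw [conj_im_inv F hQS (hY ha)] at h1
        exact isConj_symm h1 }
  exact ⟨Y', fun y => Iff.rfl⟩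

theorem Ctx.im_normalizer_conj (hQ : Q ≤ T) {y : Ω} (hy : y ∈ S) :
    im (normalizerIn T Q) (fun x => y * x * y⁻¹) = normalizerIn T (im Q fun x => y * x * y⁻¹) := by
  have key : ∀ {A : Subgroup Ω} {z : Ω}, A ≤ T → z ∈ S → ∀ x ∈ normalizerIn T A,
      z * x * z⁻¹ ∈ normalizerIn T (im A fun x => z * x * z⁻¹) := fun {A z} hA hz x hx =>
    ⟨stronglyClosed_conj_mem c.tC hz hx.1,
      ((map_conjBy (F := F) c.tS hz).mem_normalizer hA hx.1 hx.2).2⟩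
  refine le_antisymm (im_le_iff.2 (key hQ hy)) fun w hw => ?_
  have hQy : im Q (fun x => y * x * y⁻¹) ≤ T := im_le_iff.2 fun x hx => stronglyClosed_conj_mem c.tC hy (hQ hx)
  have h1 := key hQy (S.inv_mem hy) w hw
  rw [conj_im_inv F (hQ.trans c.tS) hy] at h1
  have h2 := mem_im_of_mem (f := fun x => y * x * y⁻¹) h1
  rwa [show y * (y⁻¹ * w * y⁻¹⁻¹) * y⁻¹ = w by group] at h2

/-- A class of centric subgroups kept by `Y` has a well placed member. -/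
theorem Ctx.exists_good_class : ∀ (Y Q : Subgroup Ω), Y ≤ S → T ≤ Y → E.IsCentric Q →
    (∀ y ∈ Y, E.IsConj Q (im Q fun x => y * x * y⁻¹)) → ∃ Q', c.Good Y Q' ∧ E.IsConj Q Q' := by
  haveI := c.finT
  suffices H : ∀ n, ∀ (Y Q : Subgroup Ω), Nat.card T - Nat.card Q = n → Y ≤ S → T ≤ Y → E.IsCentric Q →
      (∀ y ∈ Y, E.IsConj Q (im Q fun x => y * x * y⁻¹)) → ∃ Q', c.Good Y Q' ∧ E.IsConj Q Q' from
    fun Y Q => H _ Y Q rfl
  intro n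
  induction n using Nat.strong_induction_on with
  | _ n ih =>
  intro Y Q₁ hn hY hT hQ₁c hst₁
  have hTc := c.tC
  obtain ⟨Q, hQ₁Q, hQ⟩ := exists_fullyNormalized (F := E) hQ₁c.1
  have hQc : E.IsCentric Q := by
    obtain ⟨f, hf, rfl⟩ := isConj_iff.1 hQ₁Q
    exact c.centric_im hQ₁c (hf.of_sub c.inv.1)
  have hst : ∀ y ∈ Y, E.IsConj Q (im Q fun x => y * x * y⁻¹) := fun y hy =>
    isConj_trans (isConj_symm hQ₁Q) (isConj_trans (hst₁ y hy) (c.econj_conj hQ₁Q (hY hy)))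
  rw [isConj_card hQ₁Q] at hn
  suffices ∃ Q', c.Good Y Q' ∧ E.IsConj Q Q' from
    let ⟨Q', h1, h2⟩ := this; ⟨Q', h1, isConj_trans hQ₁Q h2⟩
  clear hQ₁Q hst₁ hQ₁c
  have hQT := hQ.1
  rcases eq_or_lt_of_le hQT with rfl | hlt
  · exact ⟨Q, ⟨hQ, hQc, fun y hy => Subgroup.mem_sup_right
      ⟨hy, stronglyClosed_le_normalizer hTc (hY hy)⟩⟩, isConj_refl le_rfl⟩
  obtain ⟨U, hU⟩ : ∃ U, U = normalizerIn T Q := ⟨_, rfl⟩
  have hUT : U ≤ T := hU ▸ inf_le_left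
  haveI := finite_of_le (hUT.trans c.tS)
  have hQU : Q < U := hU ▸ lt_normalizerIn c.pT hlt
  have hUc : E.IsCentric U := centric_mono hQc hQU.le hUT
  have hstU : ∀ y ∈ Y, E.IsConj U (im U fun x => y * x * y⁻¹) := by
    intro y hy
    obtain ⟨f, hf, hfN, hfi⟩ := exists_map_normalizer_fn c.pT c.eSat hQ (isConj_symm (hst y hy))
    have hnc := c.im_normalizer_conj hQT (hY hy)
    rw [← hnc, ← hU] at hf hfN
    refine isConj_symm (isConj_iff.2 ⟨f, hf, Subgroup.eq_of_le_of_card_ge (im_le_iff.2 fun x hx =>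
      hU ▸ hfN x hx) ?_⟩)
    rw [hf.card_im, ((map_conjBy (F := F) (hUT.trans c.tS) (hY hy))).card_im]
  obtain ⟨Ug, hUg, hUUg⟩ := ih (Nat.card T - Nat.card U) (by
    have := card_lt_of_lt hQU (hUT.trans c.tS)
    have := Subgroup.card_le_of_le hUT
    omega) Y U rfl hY hT hUc hstU
  -- the conjugate of `Q` in `Ug`
  obtain ⟨e, he, hei⟩ := isConj_iff.1 hUUg
  obtain ⟨Q₂, hQ₂⟩ : ∃ A, A = im Q e := ⟨_, rfl⟩
  have hQQ₂ : E.IsConj Q Q₂ := isConj_iff.2 ⟨e, he.restrict hQU.le, hQ₂.symm⟩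
  have hQ₂U : Q₂ ≤ Ug := hQ₂ ▸ hei ▸ im_mono hQU.le
  have hUgT : Ug ≤ T := hUg.fn.1
  have hQ₂T := hQ₂U.trans hUgT
  haveI := finite_of_le (hUgT.trans c.tS)
  have hUgle : Ug ≤ normalizerIn T Q₂ := hei ▸ im_le_iff.2 fun x hx =>
    ⟨he.mem hx, hQ₂ ▸ (he.mem_normalizer hQU.le hx ((hU.le hx).2)).2⟩
  have hcU : Nat.card Ug = Nat.card U := (isConj_card hUUg).symm
  haveI : Finite ↥(normalizerIn T Q₂) := finite_of_le (inf_le_left.trans c.tS)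
  have hN₂ : normalizerIn T Q₂ = Ug := by
    refine (Subgroup.eq_of_le_of_card_ge hUgle ?_).symm
    rw [hcU, hU]
    exact hQ.2 Q₂ hQQ₂
  have hQ₂fn : E.IsFullyNormalized Q₂ := ⟨hQ₂T, fun R hR => by
    rw [hN₂, hcU, hU]
    exact hQ.2 R (isConj_trans hQQ₂ hR)⟩
  obtain ⟨G, _, ι, W, L⟩ := c.exists_loc hY hT hUg.centric hUg.fn
  haveI := L.finite
  haveI := L.normal
  have hUN : Ug ≤ normalizerIn Y Ug := L.qN
  have hQ₂N : Q₂ ≤ normalizerIn Y Ug := hQ₂U.trans hUN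
  -- the stabilizer covers modulo `W`
  obtain ⟨St, hSt⟩ : ∃ A, A = Subgroup.normalizer (imG ι Q₂ : Set G) := ⟨_, rfl⟩
  have hStW : ∀ x : G, ∃ s ∈ St, ∃ w ∈ W, x = s * w := by
    intro x
    obtain ⟨_, ⟨⟨y, hy⟩, rfl⟩, w₀, hw₀, rfl⟩ := Subgroup.mem_sup_of_normal_right.1 (L.gen.ge (Subgroup.mem_top x))
    obtain ⟨Q₂', hQ₂'⟩ : ∃ A, A = im Q₂ fun z => y * z * y⁻¹ := ⟨_, rfl⟩
    have hc : E.IsConj Q₂' Q₂ := hQ₂' ▸ isConj_trans (isConj_symm (c.econj_conj hQQ₂ (hY hy.1)))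
      (isConj_trans (isConj_symm (hst y hy.1)) hQQ₂)
    obtain ⟨f, hf, hfN, hfi⟩ := exists_map_normalizer_fn c.pT c.eSat hQ₂fn hc
    have hNU : normalizerIn T Q₂' = Ug := by
      rw [hQ₂', ← c.im_normalizer_conj hQ₂T (hY hy.1), hN₂]
      refine Subgroup.eq_of_le_of_card_ge (im_le_iff.2 fun z hz => conj_mem_of_normalizer hy.2 hz) ?_
      rw [(map_conjBy (F := F) (hUgT.trans c.tS) (hY hy.1)).card_im]
    rw [hNU] at hf hfN
    rw [hN₂] at hfN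
    haveI := finite_of_le (hUgT.trans c.tS)
    obtain ⟨a, ha, hae⟩ := exists_aut hf (Subgroup.eq_of_le_of_card_ge (im_le_iff.2 hfN) hf.card_im.ge)
    obtain ⟨w, hw, hwe⟩ := L.lift a ha
    have hs : w * ι ⟨y, hy⟩ ∈ St := by
      rw [hSt, ← ue_apply hy]
      refine mem_normalizer_of_cj_le ?_
      rintro _ ⟨z', hz', rfl⟩
      obtain ⟨q, hq, rfl⟩ := (mem_imG hQ₂N).1 hz'
      show w * ue ι y * ue ι q * (w * ue ι y)⁻¹ ∈ _
      have hyq : y * q * y⁻¹ ∈ Q₂' := hQ₂' ▸ mem_im_of_mem (f := fun z => y * z * y⁻¹) hq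
      have hyqU : y * q * y⁻¹ ∈ Ug := hNU ▸ le_normalizerIn (hQ₂'.symm ▸ (isConj_le hc).1) hyq
      rw [show w * ue ι y * ue ι q * (w * ue ι y)⁻¹ = w * (ue ι y * ue ι q * (ue ι y)⁻¹) * w⁻¹ by group,
        ← ue_conj hy (hQ₂N hq), ← ue_act (L.toPre.act_spec L.qN (L.toPre.q_range w) hyqU), ← hwe _ hyqU,
        hae _ hyqU]
      exact ue_mem_up hQ₂N (hfi.le (mem_im_of_mem hyq))
    refine ⟨w * ι ⟨y, hy⟩, hs, (ι ⟨y, hy⟩)⁻¹ * w⁻¹ * ι ⟨y, hy⟩ * w₀, W.mul_mem ?_ hw₀, by group⟩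
    simpa using L.normal.conj_mem _ (W.inv_mem hw) (ι ⟨y, hy⟩)⁻¹
  -- move a Sylow subgroup of the stabilizer into the range
  have hQSt : imG ι Q₂ ≤ St := hSt ▸ Subgroup.le_normalizer
  obtain ⟨R, hR, hQR⟩ := exists_sylIn_ge (L.syl.isPGroup.to_le (Subgroup.map_le_range ι _)) hQSt
  obtain ⟨x₀, -, hx₀⟩ := L.syl.conj_le hR.isPGroup le_top
  obtain ⟨b, hb, w, hw, hx₀e⟩ := Subgroup.mem_sup_of_normal_right.1 (L.gen.ge (Subgroup.mem_top x₀))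
  have hwR : cj R w ≤ ι.range := by
    have h1 := cj_mono hx₀ b⁻¹
    rw [cj_cj, cj_eq_self (Subgroup.le_normalizer (Subgroup.inv_mem _ hb)), ← hx₀e, inv_mul_cancel_left] at h1
    exact h1
  obtain ⟨Q₃, hQ₃⟩ : ∃ A, A = im Q₂ (act ι w) := ⟨_, rfl⟩
  have hQ₃N : Q₃ ≤ normalizerIn Y Ug := hQ₃ ▸ im_le_iff.2 fun _ _ => act_mem
  have hQ₃e : imG ι Q₃ = cj (imG ι Q₂) w := by
    rw [hQ₃, L.toPre.imG_im hQ₂N ((cj_mono hQR w).trans hwR)]
  obtain ⟨S₃, hS₃⟩ : ∃ A, A = cj St w := ⟨_, rfl⟩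
  have hS₃n : S₃ = Subgroup.normalizer (imG ι Q₃ : Set G) := by rw [hS₃, hSt, cj_normalizer, hQ₃e]
  have hR₃ : SylIn p (cj R w) S₃ := hS₃ ▸ hR.cj w
  have hwU : Map E Ug (act ι w) := L.part w hw
  have hconj₃ : E.IsConj Q₂ Q₃ := isConj_iff.2 ⟨act ι w, hwU.restrict hQ₂U, hQ₃.symm⟩
  have hUle₃ : Ug ≤ normalizerIn T Q₃ := by
    haveI := finite_of_le (hUgT.trans c.tS)
    intro z hz
    obtain ⟨x, hx, rfl⟩ := hwU.surj_of_card_le hUgT (fun x hx => L.toPre.act_Q w hx) le_rfl z hz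
    exact ⟨hwU.mem hx, hQ₃ ▸ (hwU.mem_normalizer hQ₂U hx (hN₂.ge hx).2).2⟩
  have hQ₃T : Q₃ ≤ T := (isConj_le hconj₃).2
  have hcQ₃ : E.IsCentric Q₃ := by
    obtain ⟨k, hk, hki⟩ := isConj_iff.1 (isConj_trans hQQ₂ hconj₃)
    exact hki ▸ c.centric_im hQc (hk.of_sub c.inv.1)
  haveI : Finite ↥(normalizerIn T Q₃) := finite_of_le (inf_le_left.trans c.tS)
  refine ⟨Q₃, ⟨⟨hQ₃T, fun V hV => ?_⟩, hcQ₃, fun y hy => ?_⟩, isConj_trans hQQ₂ hconj₃⟩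
  · refine le_trans ?_ (Subgroup.card_le_of_le hUle₃)
    rw [hcU, hU]
    exact hQ.2 V (isConj_trans hQQ₂ (isConj_trans hconj₃ hV))
  obtain ⟨t, ht, m, hm, rfl⟩ := c.mem_cov hY (inf_le_left : normalizerIn Y Ug ≤ Y) (hUg.cov hy)
  refine Subgroup.mul_mem _ (Subgroup.mem_sup_left ht) ?_
  -- decompose modulo `W`
  obtain ⟨s, hs, w₂, hw₂, hse⟩ := hStW (w⁻¹ * ue ι m * w)
  obtain ⟨r, hr, k, hk, hrk⟩ := mem_syl_sup hR₃ (K := W ⊓ S₃) inf_le_right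
    (fun a ha => mem_normalizer_of_cj_le (by
      rw [cj_inf, cj_of_normal, cj_eq_self (Subgroup.le_normalizer ha)]))
    (fun a ha hao => ⟨L.toPre.coprime_mem hao, ha⟩) (hS₃ ▸ conj_mem_cj (g := w) hs : w * s * w⁻¹ ∈ S₃)
  obtain ⟨⟨n', hn'⟩, hn'e⟩ := hwR hr
  rw [← ue_apply hn'] at hn'e
  have hn'Q : n' ∈ normalizerIn Y Q₃ :=
    ⟨hn'.1, L.toPre.mem_normalizer hQ₃N hn' (hn'e.symm ▸ hS₃n ▸ hR₃.le hr)⟩
  have hW' : (ue ι n')⁻¹ * ue ι m ∈ W := by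
    have h1 : ue ι m = ue ι n' * (k * (w * w₂ * w⁻¹)) := by
      rw [hn'e, ← mul_assoc, ← hrk]
      calc ue ι m = w * (w⁻¹ * ue ι m * w) * w⁻¹ := by group
        _ = _ := by rw [hse]; group
    rw [h1, inv_mul_cancel_left]
    exact W.mul_mem hk.1 (L.normal.conj_mem _ hw₂ w)
  rw [← ue_inv hn', ← ue_mul (Subgroup.inv_mem _ hn') hm] at hW'
  obtain ⟨z, hz, hze⟩ := (mem_imG L.toPre.nT).1
    (L.inf.le ⟨ue_mem_range (Subgroup.mul_mem _ (Subgroup.inv_mem _ hn') hm), hW'⟩)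
  have hzT : n'⁻¹ * m ∈ T := ue_inj L.inj (L.toPre.nT hz) (Subgroup.mul_mem _ (Subgroup.inv_mem _ hn') hm) hze ▸ hz.2
  rw [show m = n' * (n'⁻¹ * m) by group]
  exact Subgroup.mul_mem _ (Subgroup.mem_sup_right hn'Q) (Subgroup.mem_sup_left hzT)

end

/-- The automorphisms induced by a local group. -/
theorem Ctx.Pre.exists_hom (L : c.Pre Q ι W) (hP : P ≤ N) :
    ∃ φ : ↥(Subgroup.normalizer (imG ι P : Set G)) →* MulAut P,
      ∀ z, ∀ x ∈ P, av (φ z) x = act ι (z : G) x := by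
  have hr : ∀ {a : G}, a ∈ Subgroup.normalizer (imG ι P : Set G) → ∀ x ∈ P, a * ue ι x * a⁻¹ ∈ ι.range :=
    fun ha x hx => L.act_spec hP (L.cj_range ha) hx
  have hinv : ∀ {a : G}, a ∈ Subgroup.normalizer (imG ι P : Set G) → ∀ x ∈ P, act ι a⁻¹ (act ι a x) = x :=
    fun ha x hx => by rw [act_comp (hr ha x hx), inv_mul_cancel, act_one L.inj (hP hx)]
  refine ⟨MonoidHom.mk' (fun z =>
    { toFun := fun x => ⟨act ι (z : G) x, L.act_normalizer hP z.2 x.2⟩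
      invFun := fun x => ⟨act ι (z : G)⁻¹ x, L.act_normalizer hP (Subgroup.inv_mem _ z.2) x.2⟩
      left_inv := fun x => Subtype.ext (hinv z.2 x x.2)
      right_inv := fun x => Subtype.ext (by
        have := hinv (Subgroup.inv_mem _ z.2) x x.2
        rwa [inv_inv] at this)
      map_mul' := fun x y => Subtype.ext (by
        show act ι (z : G) ((x : Ω) * y) = act ι (z : G) x * act ι (z : G) y
        refine act_eq L.inj (Subgroup.mul_mem _ act_mem act_mem) ?_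
        rw [ue_mul act_mem act_mem, ue_act (hr z.2 x x.2), ue_act (hr z.2 y y.2),
          ue_mul (hP x.2) (hP y.2)]
        group) }) fun a b => MulEquiv.ext fun x => Subtype.ext ?_, fun z x hx => by rw [av_apply _ hx]; rfl⟩
  show act ι ((a : G) * b) x = act ι (a : G) (act ι (b : G) x)
  rw [act_comp (hr b.2 x x.2)]

/-- The generated maps over a bigger group fixing the good subgroup are induced by the local group. -/
theorem Ctx.Loc.ind_sys {Y' : Subgroup Ω} {ι : ↥(normalizerIn Y' Q) →* G} (L : c.Loc ι W)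
    (hgood : c.Good Y' Q) (hY : Y ≤ S) (hY'Y : Y' ≤ Y)
    (hmem : ∀ y ∈ Y, E.IsConj Q (im Q fun x => y * x * y⁻¹) → y ∈ Y')
    (hQP : Q ≤ P) (hP : P ≤ normalizerIn Y' Q) (hf : c.KMap Y Y P f) (hfQ : im Q f = Q) :
    ∃ g : G, ∀ x ∈ P, ue ι (f x) = g * ue ι x * g⁻¹ := by
  have hY' := hY'Y.trans hY
  have hTY' := L.tY
  have hTY := hTY'.trans hY'Y
  have hQT := hgood.centric.1
  obtain ⟨y, hy, e, he, hfe⟩ := c.kmap_dec hY hTY hf
  have hyQ : im Q e = im Q fun x => y⁻¹ * x * y⁻¹⁻¹ := by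
    conv_rhs => rw [← hfQ, ← (hf.1.restrict hQP).im_comp]
    exact im_congr fun x hx => by show e x = y⁻¹ * f x * y⁻¹⁻¹; rw [hfe x (hQP hx)]; group
  have hy' : y ∈ Y' := by
    have := hmem y⁻¹ (Y.inv_mem hy)
      (isConj_iff.2 ⟨e, (c.kmap_E hY hTY he).restrict (le_inf hQP hQT), hyQ⟩)
    simpa using Y'.inv_mem this
  obtain ⟨t, ht, n, hn, rfl⟩ := c.mem_cov hY' (inf_le_left : normalizerIn Y' Q ≤ Y') (hgood.cov hy')
  obtain ⟨t', ht'd⟩ : ∃ t', t' = n⁻¹ * t * n := ⟨_, rfl⟩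
  have ht' : t' ∈ T := by
    have := stronglyClosed_conj_mem c.tC (S.inv_mem (hY' hn.1)) ht
    rwa [inv_inv, ← ht'd] at this
  have he' := c.kmap_down hY hTY' hY'Y he (hP.trans inf_le_left)
  obtain ⟨e₁, he₁⟩ : ∃ e₁, e₁ = (fun x => t' * x * t'⁻¹) ∘ e := ⟨_, rfl⟩
  have hk₁ : c.KMap T Y' P e₁ := he₁ ▸ c.kmap_comp he'
    (c.kmap_conjBy hY' hTY' (P := im P e) (im_le_iff.2 fun x hx => c.kmap_mem hY' hTY' he' hx) ht')
    fun x hx => mem_im_of_mem hx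
  have hfe₁ : ∀ x ∈ P, f x = n * e₁ x * n⁻¹ := fun x hx => by
    rw [hfe x hx, he₁]
    show _ = n * (t' * e x * t'⁻¹) * n⁻¹
    rw [ht'd]
    group
  have hQe₁ : im Q e₁ = Q := by
    haveI := finite_of_le (hQT.trans c.tS)
    refine Subgroup.eq_of_le_of_card_ge (im_le_iff.2 fun x hx => ?_) (hk₁.1.restrict hQP).card_im.ge
    have h1 := conj_mem_of_normalizer (Subgroup.inv_mem _ hn.2) (hfQ.le (mem_im_of_mem hx))
    rwa [hfe₁ x (hQP hx), show n⁻¹ * (n * e₁ x * n⁻¹) * n⁻¹⁻¹ = e₁ x by group] at h1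
  obtain ⟨w, hw, hwe⟩ := c.str Y' Q hgood ι W L P e₁ hQP hP hk₁ hQe₁
  refine ⟨ue ι n * w, fun x hx => ?_⟩
  have hex : e₁ x ∈ normalizerIn Y' Q := ⟨c.kmap_mem hY' hTY' hk₁ hx,
    hQe₁ ▸ (hk₁.1.mem_normalizer hQP hx (hP hx).2).2⟩
  rw [hfe₁ x hx, ue_conj (i := ι) (hn : n ∈ normalizerIn Y' Q) hex, hwe x hx]
  group

variable (c)
include c

/-- Saturation on the subgroups with centric intersection with `T`. -/
theorem Ctx.sys_sat_family (hY : Y ≤ S) (hTY : T ≤ Y) (hP : P ≤ Y) (hPc : E.IsCentric (P ⊓ T)) :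
    ∃ Q, (c.sys hY).IsConj P Q ∧ (c.sys hY).IsFullyAutomized p Q ∧ (c.sys hY).IsReceptive Q := by
  haveI := c.finT
  haveI := finite_of_le hY
  have hTc := c.tC
  obtain ⟨Q, hQ⟩ : ∃ Q, Q = P ⊓ T := ⟨_, rfl⟩
  rw [← hQ] at hPc
  have hQT : Q ≤ T := hQ ▸ inf_le_right
  have hQP : Q ≤ P := hQ ▸ inf_le_left
  obtain ⟨Y', hY'⟩ := c.exists_stab hY hQT
  have hY'Y : Y' ≤ Y := fun y hy => ((hY' y).1 hy).1
  have hY'S := hY'Y.trans hY
  have hTY' : T ≤ Y' := fun t ht => (hY' t).2 ⟨hTY ht,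
    isConj_iff.2 ⟨_, map_conjBy hQT ht, rfl⟩⟩
  have hPN : P ≤ normalizerIn Y' Q := fun x hx => by
    have hn : x ∈ Subgroup.normalizer (Q : Set Ω) := mem_normalizer_of_conj_mem (S := S) (hQT.trans c.tS)
      fun z hz => hQ ▸ ⟨P.mul_mem (P.mul_mem hx (hQP hz)) (P.inv_mem hx),
        stronglyClosed_conj_mem hTc (hY (hP hx)) (hQT hz)⟩
    refine ⟨(hY' x).2 ⟨hP hx, ?_⟩, hn⟩
    haveI := finite_of_le (hQT.trans c.tS)
    rw [show (im Q fun z => x * z * x⁻¹) = Q from Subgroup.eq_of_le_of_card_ge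
      (im_le_iff.2 fun z hz => conj_mem_of_normalizer hn hz)
      (map_conjBy (F := F) (hQT.trans c.tS) (hY (hP hx))).card_im.ge]
    exact isConj_refl hQT
  obtain ⟨Q₀, hgood, hQQ₀⟩ := c.exists_good_class Y' Q hY'S hTY' hPc fun y hy => ((hY' y).1 hy).2
  have hmemY : ∀ y ∈ Y, E.IsConj Q₀ (im Q₀ fun x => y * x * y⁻¹) → y ∈ Y' := fun y hy h =>
    (hY' y).2 ⟨hy, isConj_trans hQQ₀ (isConj_trans h (isConj_symm (c.econj_conj hQQ₀ (hY hy))))⟩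
  have hQ₀T := hgood.centric.1
  obtain ⟨G, _, ι, W, L⟩ := c.exists_loc hY'S hTY' hgood.centric hgood.fn
  haveI := L.finite
  -- the representative
  obtain ⟨h, hh, hhN, hhi⟩ := c.conn Y' Q₀ Q hY'S hTY' hgood hQQ₀
  obtain ⟨P₁, hP₁⟩ : ∃ A, A = im P h := ⟨_, rfl⟩
  have hhP := c.kmap_restrict hh hPN
  have hP₁N : P₁ ≤ normalizerIn Y' Q₀ := hP₁ ▸ im_le_iff.2 fun x hx => hhN x (hPN hx)
  have hP₁T : P₁ ⊓ T = Q₀ := by rw [hP₁, c.im_inf hhP.1, ← hQ, hhi]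
  obtain ⟨g₁, hg₁, hsyl⟩ := exists_extremal_conj L.syl (Subgroup.map_le_range ι _ : imG ι P₁ ≤ ι.range)
  obtain ⟨P₀, hP₀⟩ : ∃ A, A = im P₁ (act ι g₁) := ⟨_, rfl⟩
  have hP₀N : P₀ ≤ normalizerIn Y' Q₀ := hP₀ ▸ im_le_iff.2 fun _ _ => act_mem
  have hP₀Y : P₀ ≤ Y := hP₀N.trans (inf_le_left.trans hY'Y)
  rw [← L.toPre.imG_im hP₁N hg₁, ← hP₀] at hsyl
  have hk₁ : c.KMap Y' Y' P₁ (act ι g₁) := L.kmap (hP₁T ▸ inf_le_left) hP₁N hg₁
  have hP₀T : P₀ ⊓ T = Q₀ := by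
    rw [hP₀, c.im_inf hk₁.1, hP₁T]
    haveI := finite_of_le (hQ₀T.trans c.tS)
    exact Subgroup.eq_of_le_of_card_ge (im_le_iff.2 fun x hx => L.toPre.act_Q g₁ hx)
      (hk₁.1.restrict (hP₁T ▸ inf_le_left)).card_im.ge
  have hQ₀P₀ : Q₀ ≤ P₀ := hP₀T ▸ inf_le_left
  have hkP : c.KMap Y Y P (act ι g₁ ∘ h) := c.kmap_comp (c.kmap_mono hTY hY'Y hY le_rfl hTY' hhP)
    (c.kmap_mono hY'Y hY'Y hY le_rfl le_rfl hk₁) fun x hx => hP₁ ▸ mem_im_of_mem hx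
  refine ⟨P₀, isConj_iff.2 ⟨_, (c.map_sys hY).2 hkP, ?_⟩, fa_iff.2 ⟨hP₀Y, ?_⟩,
    receptive_iff.2 ⟨hP₀Y, fun P' f hf hfi => ?_⟩⟩
  · rw [hhP.1.im_comp, ← hP₁, hP₀]
  · -- the automorphisms
    obtain ⟨φ, hφ⟩ := L.toPre.exists_hom hP₀N
    haveI := mulAut_finite_of_le (hP₀Y.trans hY)
    have hrange : (⊤ : Subgroup _).map φ = (c.sys hY).autGroup P₀ := by
      refine le_antisymm ?_ fun a ha => ?_
      · rintro _ ⟨z, -, rfl⟩
        exact mem_autGroup_of_map (((c.map_sys hY).2 (c.kmap_mono hY'Y hY'Y hY le_rfl le_rfl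
          (L.kmap hQ₀P₀ hP₀N (L.toPre.cj_range z.2)))).congr fun x hx => (hφ z x hx).symm)
      · have hk := (c.map_sys hY).1 (map_of_mem_autGroup hP₀Y ha)
        have hkQ : im Q₀ (av a) = Q₀ := by
          conv_rhs => rw [← hP₀T, ← im_av a, c.im_inf hk.1, hP₀T]
        obtain ⟨z, hz⟩ := L.ind_sys hgood hY hY'Y hmemY hQ₀P₀ hP₀N hk hkQ
        have hzn : z ∈ Subgroup.normalizer (imG ι P₀ : Set G) := by
          refine mem_normalizer_of_cj_le ?_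
          rintro _ ⟨z', hz', rfl⟩
          obtain ⟨x, hx, rfl⟩ := (mem_imG hP₀N).1 hz'
          show z * ue ι x * z⁻¹ ∈ _
          rw [← hz x hx]
          exact ue_mem_up hP₀N (av_mem a hx)
        refine ⟨⟨z, hzn⟩, trivial, aut_ext fun x hx => ?_⟩
        rw [hφ _ x hx]
        exact act_eq L.inj (hP₀N (av_mem a hx)) (hz x hx)
    have hsyl' : SylIn p ((ι.range ⊓ Subgroup.normalizer (imG ι P₀ : Set G)).subgroupOf
        (Subgroup.normalizer (imG ι P₀ : Set G))) ⊤ :=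
      ⟨le_top, hsyl.isPGroup.comap_subtype, by rw [Subgroup.relIndex_top_right]; exact hsyl.not_dvd⟩
    have hmap := hsyl'.map_hom φ
    rw [hrange] at hmap
    rw [hmap.eq_of_le ?_ ?_ (autInducedBy_le_autGroup hP₀Y) |> fun h => h]
    · exact hmap
    · exact isPGroup_autS (c.pS.to_le hY)
    · rintro _ ⟨⟨z, hzn⟩, hz, rfl⟩
      obtain ⟨⟨m, hm⟩, hme⟩ := (Subgroup.mem_subgroupOf.1 hz).1
      refine mem_autInducedBy.2 ⟨m, hY'Y hm.1, fun x hx => ?_⟩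
      rw [hφ _ x hx]
      refine act_eq L.inj (Subgroup.mul_mem _ (Subgroup.mul_mem _ hm (hP₀N hx)) (Subgroup.inv_mem _ hm)) ?_
      rw [ue_conj hm (hP₀N hx), ue_apply hm]
      show _ = (z : G) * ue ι x * (z : G)⁻¹
      rw [show ι ⟨m, hm⟩ = z from hme]
  -- receptivity
  have hfk := (c.map_sys hY).1 hf
  have hP'Y : P' ≤ Y := hfk.2.1
  obtain ⟨Q', hQ'⟩ : ∃ A, A = P' ⊓ T := ⟨_, rfl⟩
  have hQ'T : Q' ≤ T := hQ' ▸ inf_le_right
  have hQ'P : Q' ≤ P' := hQ' ▸ inf_le_left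
  have hfQ : im Q' f = Q₀ := by rw [hQ', ← c.im_inf hfk.1, hfi, hP₀T]
  obtain ⟨y, hy, e, he, hfe⟩ := c.kmap_dec hY hTY hfk
  obtain ⟨Q'', hQ''⟩ : ∃ A, A = im Q' fun x => y * x * y⁻¹ := ⟨_, rfl⟩
  have hc'' : E.IsConj Q'' Q₀ := by
    have hE : E.IsConj Q' (im Q' e) := isConj_iff.2 ⟨e, (c.kmap_E hY hTY he).restrict (le_inf hQ'P hQ'T), rfl⟩
    have h1 := c.econj_conj hE (hY hy)
    rw [← hQ'', ← (he.1.restrict hQ'P).im_comp] at h1
    rwa [← hfQ, im_congr (f := f) (g := (fun x => y * x * y⁻¹) ∘ e) fun x hx => hfe x (hQ'P hx)]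
  obtain ⟨h', hh', hh'N, hh'i⟩ := c.conn Y' Q₀ Q'' hY'S hTY' hgood hc''
  have hN'' : normalizerIn Y Q'' ≤ normalizerIn Y' Q'' := fun z hz => by
    refine ⟨hmemY z hz.1 ?_, hz.2⟩
    have h1 := c.econj_conj hc'' (hY hz.1)
    haveI := finite_of_le ((isConj_le hc'').1.trans c.tS)
    rw [show (im Q'' fun x => z * x * z⁻¹) = Q'' from Subgroup.eq_of_le_of_card_ge
      (im_le_iff.2 fun x hx => conj_mem_of_normalizer hz.2 hx)
      (map_conjBy (F := F) ((isConj_le hc'').1.trans c.tS) (hY hz.1)).card_im.ge] at h1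
    exact isConj_trans (isConj_symm hc'') h1
  obtain ⟨D, hD⟩ : ∃ A, A = Nf Y P' f := ⟨_, rfl⟩
  have hDN : D ≤ normalizerIn Y Q' := fun z hz => by
    obtain ⟨hzY, hzP, -⟩ := mem_Nf.1 (hD ▸ hz)
    exact ⟨hzY, mem_normalizer_of_conj_mem (S := S) (hQ'T.trans c.tS) fun x hx =>
      hQ' ▸ ⟨conj_mem_of_normalizer hzP (hQ'P hx), stronglyClosed_conj_mem hTc (hY hzY) (hQ'T hx)⟩⟩
  have hP'D : P' ≤ D := hD ▸ le_Nf (S := Y) hf
  have hDy : ∀ z ∈ D, y * z * y⁻¹ ∈ normalizerIn Y' Q'' := fun z hz => hN''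
    ⟨Y.mul_mem (Y.mul_mem hy (hDN hz).1) (Y.inv_mem hy),
      hQ'' ▸ ((map_conjBy (F := F) hY (hY hy)).mem_normalizer (hQ'T.trans hTY) (hDN hz).1 (hDN hz).2).2⟩
  obtain ⟨h₂, hh₂⟩ : ∃ k, k = h' ∘ fun x => y * x * y⁻¹ := ⟨_, rfl⟩
  have hk₂ : c.KMap Y Y D h₂ := hh₂ ▸ c.kmap_comp (c.kmap_conjBy hY le_rfl (hDN.trans inf_le_left) hy)
    (c.kmap_mono hTY hY'Y hY le_rfl hTY' hh') hDy
  have h₂N : ∀ z ∈ D, h₂ z ∈ normalizerIn Y' Q₀ := fun z hz => hh₂ ▸ hh'N _ (hDy z hz)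
  have h₂Q : im Q' h₂ = Q₀ := by
    rw [hh₂, (map_conjBy (F := F) (hQ'T.trans c.tS) (hY hy)).im_comp, ← hQ'', hh'i]
  obtain ⟨P₂, hP₂⟩ : ∃ A, A = im P' h₂ := ⟨_, rfl⟩
  have hk₂P := c.kmap_restrict hk₂ hP'D
  obtain ⟨k, hk, hkh, hhk, -⟩ := c.kmap_exists_inv hY le_rfl hk₂P
  have hQ₀P₂ : Q₀ ≤ im P' h₂ := h₂Q ▸ im_mono hQ'P
  have hfk₂ := c.kmap_comp hk hfk fun z hz => (hhk z hz).2
  obtain ⟨g, hg⟩ := L.ind_sys hgood hY hY'Y hmemY hQ₀P₂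
    (im_le_iff.2 fun z hz => h₂N z (hP'D hz)) hfk₂ (by
      have h1 : im Q₀ k = Q' := by
        rw [← h₂Q, ← (hk₂P.1.restrict hQ'P).im_comp,
          im_congr (f := k ∘ h₂) (g := id) fun x hx => hkh x (hQ'P hx), im_id]
      rw [(hk.1.restrict hQ₀P₂).im_comp, h1, hfQ])
  have hgx : ∀ x ∈ P', g * ue ι (h₂ x) * g⁻¹ = ue ι (f x) := fun x hx => by
    rw [← hg _ (mem_im_of_mem hx)]
    show ue ι (f (k (h₂ x))) = _
    rw [hkh x hx]
  have hfP : ∀ x ∈ P', f x ∈ P₀ := fun x hx => hfi ▸ mem_im_of_mem hx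
  obtain ⟨D₂, hD₂⟩ : ∃ A, A = im D h₂ := ⟨_, rfl⟩
  have hD₂N : D₂ ≤ normalizerIn Y' Q₀ := hD₂ ▸ im_le_iff.2 h₂N
  obtain ⟨C, hC⟩ : ∃ A, A = Subgroup.centralizer (imG ι P₀ : Set G) := ⟨_, rfl⟩
  obtain ⟨R₀, hR₀⟩ : ∃ A, A = ι.range ⊓ Subgroup.normalizer (imG ι P₀ : Set G) := ⟨_, rfl⟩
  have hNC : Subgroup.normalizer (imG ι P₀ : Set G) ≤ Subgroup.normalizer (C : Set G) := fun a ha =>
    mem_normalizer_iff_cj.2 (by rw [hC, cj_centralizer, cj_eq_self ha])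
  have hA : cj (imG ι D₂) g ≤ R₀ ⊔ C := by
    rintro _ ⟨z', hz', rfl⟩
    obtain ⟨d, hd, rfl⟩ := (mem_imG hD₂N).1 hz'
    obtain ⟨n, hn, rfl⟩ := hk₂.1.mem_im.1 (hD₂ ▸ hd)
    show g * ue ι (h₂ n) * g⁻¹ ∈ R₀ ⊔ C
    obtain ⟨hnY, hnP, v, hv, hve⟩ := mem_Nf.1 (hD ▸ hn)
    have hvP : v ∈ Subgroup.normalizer (P₀ : Set Ω) := mem_normalizer_of_conj_mem (S := Y) hP₀Y fun z hz => by
      obtain ⟨x, hx, rfl⟩ := hfk.1.mem_im.1 (hfi.ge hz)
      rw [← hve x hx]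
      exact hfP _ (conj_mem_of_normalizer hnP hx)
    have hvQ : v ∈ Subgroup.normalizer (Q₀ : Set Ω) :=
      mem_normalizer_of_conj_mem (S := S) (hQ₀T.trans c.tS) fun z hz => hP₀T ▸
        ⟨conj_mem_of_normalizer hvP (hQ₀P₀ hz), stronglyClosed_conj_mem hTc (hY hv) (hQ₀T hz)⟩
    have hvN : v ∈ normalizerIn Y' Q₀ := by
      refine ⟨hmemY v hv ?_, hvQ⟩
      haveI := finite_of_le (hQ₀T.trans c.tS)
      rw [show (im Q₀ fun x => v * x * v⁻¹) = Q₀ from Subgroup.eq_of_le_of_card_ge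
        (im_le_iff.2 fun x hx => conj_mem_of_normalizer hvQ hx)
        (map_conjBy (F := F) (hQ₀T.trans c.tS) (hY hv)).card_im.ge]
      exact isConj_refl hQ₀T
    have hvR : ue ι v ∈ R₀ := by
      refine hR₀ ▸ ⟨ue_mem_range hvN, mem_normalizer_of_cj_le ?_⟩
      rintro _ ⟨z', hz', rfl⟩
      obtain ⟨x, hx, rfl⟩ := (mem_imG hP₀N).1 hz'
      show ue ι v * ue ι x * (ue ι v)⁻¹ ∈ _
      rw [← ue_conj hvN (hP₀N hx)]
      exact ue_mem_up hP₀N (conj_mem_of_normalizer hvP hx)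
    rw [show g * ue ι (h₂ n) * g⁻¹ = ue ι v * ((ue ι v)⁻¹ * (g * ue ι (h₂ n) * g⁻¹)) by group]
    refine Subgroup.mul_mem_sup hvR (hC ▸ Subgroup.mem_centralizer_iff.2 fun u hu => ?_)
    obtain ⟨a, ha, rfl⟩ := (mem_imG hP₀N).1 hu
    obtain ⟨x, hx, rfl⟩ := hfk.1.mem_im.1 (hfi.ge ha)
    have hxn := conj_mem_of_normalizer hnP hx
    have h1 : g * ue ι (h₂ n) * g⁻¹ * ue ι (f x) * (g * ue ι (h₂ n) * g⁻¹)⁻¹ =
        ue ι v * ue ι (f x) * (ue ι v)⁻¹ := by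
      rw [← ue_conj hvN (hP₀N (hfP x hx)), ← hve x hx, ← hgx _ hxn, hk₂.1.map_conj hn (hP'D hx),
        ue_conj (h₂N n hn) (h₂N x (hP'D hx)), ← hgx x hx]
      group
    calc ue ι (f x) * ((ue ι v)⁻¹ * (g * ue ι (h₂ n) * g⁻¹))
        = (ue ι v)⁻¹ * (ue ι v * ue ι (f x) * (ue ι v)⁻¹) * (g * ue ι (h₂ n) * g⁻¹) := by group
      _ = _ := by rw [← h1]; group
  have hHN : R₀ ⊔ C ≤ Subgroup.normalizer (imG ι P₀ : Set G) :=
    sup_le (hR₀ ▸ inf_le_right) (hC ▸ fun a ha => mem_normalizer_iff_cj.2 (le_antisymm (by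
      rintro _ ⟨z, hz, rfl⟩
      show a * z * a⁻¹ ∈ _
      rw [← Subgroup.mem_centralizer_iff.1 ha z hz, mul_inv_cancel_right]
      exact hz) fun z hz => by
      have h1 := conj_mem_cj (g := a) hz
      rwa [← Subgroup.mem_centralizer_iff.1 ha z hz, mul_inv_cancel_right] at h1))
  rw [← hR₀] at hsyl
  have hsylH : SylIn p R₀ (R₀ ⊔ C) := ⟨le_sup_left, hsyl.isPGroup, fun hd => hsyl.not_dvd
    (hd.trans (Dvd.intro _ (Subgroup.relIndex_mul_relIndex _ _ _ le_sup_left hHN)))⟩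
  obtain ⟨z, hz, hzle⟩ := hsylH.conj_le
    (isPGroup_cj (L.syl.isPGroup.to_le (Subgroup.map_le_range ι _)) g) hA
  rw [← SetLike.mem_coe, Subgroup.coe_mul_of_left_le_normalizer_right R₀ C
    ((le_sup_left.trans hHN).trans hNC)] at hz
  obtain ⟨r, hr, c₀, hc₀, rfl⟩ := hz
  have hcle : cj (imG ι D₂) (c₀ * g) ≤ R₀ := by
    rw [← cj_cj]
    have h1 := cj_mono hzle r⁻¹
    rwa [cj_cj, inv_mul_cancel_left, cj_eq_self_of_mem (R₀.inv_mem hr)] at h1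
  have hcr := hcle.trans (hR₀ ▸ inf_le_left : R₀ ≤ ι.range)
  have hQ₀D₂ : Q₀ ≤ D₂ := hD₂ ▸ h₂Q ▸ im_mono (hQ'P.trans hP'D)
  refine ⟨act ι (c₀ * g) ∘ h₂, (c.map_sys hY).2 (hD ▸ c.kmap_comp hk₂
    (c.kmap_mono hY'Y hY'Y hY le_rfl le_rfl (L.kmap hQ₀D₂ hD₂N hcr))
    fun x hx => hD₂ ▸ mem_im_of_mem hx), fun x hx => ?_⟩
  show act ι (c₀ * g) (h₂ x) = f x
  refine act_eq L.inj (hP₀N (hfP x hx)) ?_
  have h1 := Subgroup.mem_centralizer_iff.1 (hC ▸ hc₀ : c₀ ∈ Subgroup.centralizer (imG ι P₀ : Set G))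
    _ (ue_mem_up hP₀N (hfP x hx))
  calc ue ι (f x) = c₀ * ue ι (f x) * c₀⁻¹ := by rw [← h1, mul_inv_cancel_right]
    _ = _ := by rw [← hgx x hx]; group

/-- **Products are saturated**: the generated system over `Y` is saturated. -/
theorem Ctx.sys_saturated (hY : Y ≤ S) (hTY : T ≤ Y) : (c.sys hY).IsSaturated p := by
  haveI := c.finT
  haveI := finite_of_le hY
  have hTc := c.tC
  have hpY : IsPGroup p Y := c.pS.to_le hY
  refine saturated_of_family hpY {P | P ≤ Y ∧ E.IsCentric (P ⊓ T)} ?_ (fun P hP => c.sys_sat_family hY hTY hP.1 hP.2)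
    (fun E' hE' => ?_) fun P hP hPno => ?_
  · rintro P ⟨-, hPc⟩ Q hPQ
    obtain ⟨f, hf, rfl⟩ := isConj_iff.1 hPQ
    have hk := (c.map_sys hY).1 hf
    exact ⟨hf.im_le, c.im_inf hk.1 ▸ c.centric_im hPc (hk.1.restrict inf_le_left)⟩
  · -- generation
    intro P φ hφ
    refine (mem_iff_map (F := E')).2 ?_
    exact (c.kmap_ind (C := fun P f => Map E' P f) hY le_rfl (fun h he => h.congr he)
      (fun _ _ h hR => h.restrict hR) (fun _ _ _ _ h h' hm => h.comp h' hm)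
      (fun {P f g} _ _ _ h hg => by
        obtain ⟨k, hk, hkf, -, -⟩ := h.exists_inv
        refine hk.congr fun y hy => ?_
        obtain ⟨x, hx, rfl⟩ := h.mem_im.1 hy
        rw [hkf x hx, hg x hx])
      (fun Q y hQ hy => map_conjBy hQ hy)
      (fun Q α hα => by
        obtain ⟨ψ, hψ, hψe⟩ := (c.map_sys hY).2 (c.kmap_hk (A := Y) hY hα)
        exact ⟨ψ, hE' Q ⟨hα.1, hα.2.1⟩ hψ, hψe⟩) hφ.2).2
  -- a centric subgroup with non-centric intersection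
  have hPY : P ≤ Y := hP.1
  have hPc : ¬ E.IsCentric (P ⊓ T) := fun h => hPno ⟨hPY, h⟩
  obtain ⟨Q, hQ⟩ : ∃ Q, Q = P ⊓ T := ⟨_, rfl⟩
  rw [← hQ] at hPc
  have hQT : Q ≤ T := hQ ▸ inf_le_right
  have hQS := hQT.trans c.tS
  have hPN : P ≤ normalizerIn Y Q := fun x hx => ⟨hPY hx, mem_normalizer_of_conj_mem (S := S) hQS
    fun z hz => hQ ▸ ⟨P.mul_mem (P.mul_mem hx ((hQ ▸ inf_le_left : Q ≤ P) hz)) (P.inv_mem hx),
      stronglyClosed_conj_mem hTc (hY (hPY hx)) (hQT hz)⟩⟩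
  obtain ⟨Qf, hQQf, hQf⟩ := exists_fullyNormalized (F := F) hQS
  obtain ⟨f, hf, -, hfi⟩ := exists_map_normalizer_fn c.pS c.sat hQf hQQf
  obtain ⟨e, β, he, hβ, hfe⟩ := c.dec _ f (hf.restrict (inf_le_inf_right _ hY : normalizerIn Y Q ≤ normalizerIn S Q))
  have hNY : T ⊔ normalizerIn Y Q ≤ Y := sup_le hTY inf_le_left
  have heY := c.kmap_mono le_rfl hNY hY hTY le_sup_left he
  have heP := c.kmap_restrict heY hPN
  obtain ⟨P₁, hP₁⟩ : ∃ A, A = im P e := ⟨_, rfl⟩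
  obtain ⟨Q₁, hQ₁⟩ : ∃ A, A = im Q e := ⟨_, rfl⟩
  have hQ₁P : P₁ ⊓ T = Q₁ := by rw [hP₁, c.im_inf heP.1, ← hQ, hQ₁]
  have hQ₁T : Q₁ ≤ T := hQ₁P ▸ inf_le_right
  have hQN : Q ≤ normalizerIn Y Q := le_normalizerIn (hQT.trans hTY)
  have hiT := c.im_T le_sup_left hβ
  have hβT := hβ.restrict (le_sup_left : T ≤ T ⊔ normalizerIn Y Q)
  have hβQ : im Q₁ β = Qf := by
    rw [← hfi, hQ₁, ← (he.1.restrict hQN).im_comp]
    exact im_congr fun x hx => (hfe x (hQN hx)).symm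
  have hQfT : Qf ≤ T := hβQ ▸ im_le_iff.2 fun x hx => stronglyClosed_map hTc hβT (hQ₁T hx) (hQ₁T hx)
  obtain ⟨k, hk, hkβ, hβk, -⟩ := hβT.exists_inv
  rw [hiT] at hk hβk
  have hC : ¬ centralizerIn T Q₁ ≤ Q₁ := by
    intro hle
    have hCf : centralizerIn T Qf ≤ Qf := by
      intro z hz
      obtain ⟨hzT, hzc⟩ := mem_centralizerIn.1 hz
      have hkz : k z ∈ Q₁ := hle (mem_centralizerIn.2 ⟨(hβk z hzT).2, fun a ha => by
        have haT := hQ₁T ha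
        refine hβT.injOn (T.mul_mem haT (hβk z hzT).2) (T.mul_mem (hβk z hzT).2 haT) ?_
        rw [hβT.map_mul haT (hβk z hzT).2, hβT.map_mul (hβk z hzT).2 haT, (hβk z hzT).1]
        exact hzc _ (hβQ.le (mem_im_of_mem ha))⟩)
      have h1 := hβQ.le (mem_im_of_mem (f := β) hkz)
      rwa [(hβk z hzT).1] at h1
    have hfn := fn_of_fn c.pS c.n.1 hQf hQfT
    have hfc : E.IsFullyCentralized Qf := (fc_fa_of_fn c.pT c.eSat hfn).1
    have hQfc : E.IsCentric Qf := by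
      refine ⟨hQfT, fun R hR => ?_⟩
      obtain ⟨r, hr, hri⟩ := isConj_iff.1 hR
      haveI := finite_of_le (hQfT.trans c.tS)
      have hRT := (isConj_le hR).2
      haveI := finite_of_le (inf_le_left.trans c.tS : centralizerIn T R ≤ S)
      obtain ⟨Z, hZ⟩ : ∃ Z, Z = centralizerIn T Qf := ⟨_, rfl⟩
      have hrZ := hr.restrict (hZ.trans_le hCf)
      have hsub : im Z r ≤ centralizerIn T R := im_le_iff.2 fun z hz => by
        rw [hZ] at hz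
        obtain ⟨-, hzc⟩ := mem_centralizerIn.1 hz
        refine mem_centralizerIn.2 ⟨hr.mem (hCf hz), fun a ha => ?_⟩
        obtain ⟨x, hx, rfl⟩ := hr.mem_im.1 (hri.ge ha)
        rw [← hr.map_mul hx (hCf hz), ← hr.map_mul (hCf hz) hx, hzc x hx]
      have heq := Subgroup.eq_of_le_of_card_ge hsub (by
        rw [hrZ.card_im, hZ]; exact hfc.2 R hR)
      rw [← heq]
      exact (im_mono (hZ.trans_le hCf)).trans hri.le
    have h2 := c.centric_im hQfc ((hk.restrict hQfT))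
    have h3 : im Qf k = Q₁ := by
      rw [← hβQ, ← (hβT.restrict hQ₁T).im_comp,
        im_congr (f := k ∘ β) (g := id) fun x hx => hkβ x (hQ₁T hx), im_id]
    rw [h3] at h2
    obtain ⟨u, hu, hue, -, hui⟩ := (he.1.restrict hQN).exists_inv
    rw [← hQ₁] at hu hui
    exact hPc (hui ▸ c.centric_im h2 hu)
  -- an element of the centralizer normalising `P₁`
  have hP₁Y : P₁ ≤ Y := hP₁ ▸ im_le_iff.2 fun x hx => c.kmap_mem hY hTY heP hx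
  obtain ⟨C, hCd⟩ : ∃ C, C = centralizerIn T Q₁ := ⟨_, rfl⟩
  have hCY : C ≤ Y := hCd ▸ inf_le_left.trans hTY
  have hnorm : P₁ ≤ Subgroup.normalizer (C : Set Ω) := by
    intro a ha
    refine mem_normalizer_of_conj_mem (S := S) (hCY.trans hY) fun z hz => ?_
    rw [hCd] at hz ⊢
    obtain ⟨hzT, hzc⟩ := mem_centralizerIn.1 hz
    refine mem_centralizerIn.2 ⟨stronglyClosed_conj_mem hTc (hY (hP₁Y ha)) hzT, fun y hy => ?_⟩
    have hy' : a⁻¹ * y * a⁻¹⁻¹ ∈ Q₁ := hQ₁P ▸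
      ⟨P₁.mul_mem (P₁.mul_mem (P₁.inv_mem ha) ((hQ₁P ▸ inf_le_left : Q₁ ≤ P₁) hy)) (P₁.inv_mem (P₁.inv_mem ha)),
        stronglyClosed_conj_mem hTc (S.inv_mem (hY (hP₁Y ha))) (hQ₁T hy)⟩
    calc y * (a * z * a⁻¹) = a * ((a⁻¹ * y * a⁻¹⁻¹) * z) * a⁻¹ := by group
      _ = a * (z * (a⁻¹ * y * a⁻¹⁻¹)) * a⁻¹ := by rw [hzc _ hy']
      _ = a * z * a⁻¹ * y := by group
  have hlt : P₁ < P₁ ⊔ C := lt_of_le_of_ne le_sup_left fun he' => hC fun z hz =>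
    hQ₁P ▸ ⟨he' ▸ Subgroup.mem_sup_right (hCd ▸ hz), hz.1⟩
  obtain ⟨n, hn, hnP⟩ := SetLike.exists_of_lt (lt_inf_normalizer hpY hlt (sup_le hP₁Y hCY))
  obtain ⟨a, ha, z, hz, hazn⟩ : ∃ a ∈ P₁, ∃ z ∈ C, a * z = n := by
    have h1 : n ∈ ((P₁ ⊔ C : Subgroup Ω) : Set Ω) := hn.1
    rw [Subgroup.coe_mul_of_left_le_normalizer_right _ _ hnorm] at h1
    exact h1
  have hzn : z ∈ Subgroup.normalizer (P₁ : Set Ω) := by
    have := Subgroup.mul_mem _ (Subgroup.inv_mem _ (Subgroup.le_normalizer ha)) hn.2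
    rwa [← hazn, inv_mul_cancel_left] at this
  have hzP : z ∉ P₁ := fun h => hnP (hazn ▸ P₁.mul_mem ha h)
  obtain ⟨hzT, hzc⟩ := mem_centralizerIn.1 (hCd ▸ hz)
  haveI := finite_of_le (hP₁Y.trans hY)
  obtain ⟨α, hα, hαS⟩ := exists_aut_conj (P := P₁) hzn
  have hconj : (c.sys hY).IsConj P P₁ := isConj_iff.2 ⟨e, (c.map_sys hY).2
    (c.kmap_mono hTY le_rfl hY le_rfl hTY heP), hP₁.symm⟩
  refine ⟨P₁, hconj, fun hle => ?_⟩
  have hTK : (c.sys hY).StronglyClosed T := stronglyClosed_iff.2 ⟨hTY, fun A u hA hu x hx =>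
    stronglyClosed_map hTc ((c.map_sys hY).1 hu).1 hx (hA hx)⟩
  have hαK : α ∈ (c.sys hY).autGroup P₁ := mem_autGroup_of_map
    ((map_conjBy (F := c.sys hY) hP₁Y (hTY hzT)).congr fun x hx => (hα x hx).symm)
  have hαcore : α ∈ coreAut (c.sys hY) p P₁ := stab_mem_pCore hpY hTK hP₁Y hαK (fun x hx hxT => by
      rw [hα x hx, ← hzc x (hQ₁P ▸ ⟨hx, hxT⟩), mul_inv_cancel_right]) fun x hx => by
      rw [hα x hx]
      have := T.mul_mem (stronglyClosed_conj_mem hTc (S.inv_mem (hY (hP₁Y hx))) hzT) (T.inv_mem hzT)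
      simpa [mul_assoc] using this
  obtain ⟨b, hb, hbe⟩ := mem_Inn.1 (hle ⟨hαS Y (hTY hzT), hαcore⟩)
  have hcent : centralizerIn Y P₁ ≤ P₁ := hP.2 P₁ hconj
  have hbz : b⁻¹ * z ∈ centralizerIn Y P₁ := by
    refine mem_centralizerIn.2 ⟨Y.mul_mem (Y.inv_mem (hP₁Y hb)) (hTY hzT), fun x hx => ?_⟩
    have h1 : z * x * z⁻¹ = b * x * b⁻¹ := (hα x hx).symm.trans (hbe x hx)
    calc x * (b⁻¹ * z) = b⁻¹ * (b * x * b⁻¹) * z := by group
      _ = _ := by rw [← h1]; group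
  exact hzP (by simpa using P₁.mul_mem hb (hcent hbz))

end Cfsg.Agent.Local.FS.Balance
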