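import Cfsg.Agent.Lib.Local.FS.Balance.Local
import Cfsg.Agent.Lib.Fusion.Alperin

/-!
Conjugation inside a local group is a generated map.
-/

set_option autoImplicit false

namespace Cfsg.Agent.Local.FS.Balance

open Cfsg Cfsg.FusionSystem Cfsg.Agent.Fusion Cfsg.Agent.Local.FS Cfsg.Agent.Local.FS.Meet

universe u

/-- A group is a Sylow subgroup times a normal subgroup containing all elements of order prime to `p`. -/
theorem mem_syl_sup {G : Type*} [Group G] [Finite G] {p : ℕ} [Fact p.Prime] {R H K : Subgroup G}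
    (hR : SylIn p R H) (hKH : K ≤ H) (hHK : H ≤ Subgroup.normalizer (K : Set G))
    (hK : ∀ h ∈ H, (orderOf h).Coprime p → h ∈ K) {h : G} (hh : h ∈ H) :
    ∃ r ∈ R, ∃ k ∈ K, h = r * k := by
  have hM : R ⊔ K = H := by
    refine le_antisymm (sup_le hR.le hKH) ?_
    haveI hn : (K.subgroupOf H).Normal := Subgroup.normal_subgroupOf_iff_le_normalizer hKH |>.2 hHK
    have hq : IsPGroup p (↥H ⧸ K.subgroupOf H) := by
      intro a
      obtain ⟨x, rfl⟩ := QuotientGroup.mk'_surjective _ a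
      obtain ⟨i, r, hr, hord⟩ := Nat.exists_eq_pow_mul_and_not_dvd (orderOf_pos (x : G)).ne' p
        (Fact.out : p.Prime).ne_one
      refine ⟨i, ?_⟩
      rw [← map_pow, QuotientGroup.mk'_apply, QuotientGroup.eq_one_iff, Subgroup.mem_subgroupOf,
        SubgroupClass.coe_pow]
      refine hK _ (H.pow_mem x.2 _) (((Nat.Prime.coprime_iff_not_dvd Fact.out).2 hr).symm.coprime_dvd_left
        (orderOf_dvd_of_pow_eq_one ?_))
      rw [← pow_mul, ← hord, pow_orderOf_eq_one]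
    obtain ⟨j, hj⟩ := IsPGroup.iff_card.1 hq
    have h1 : (R ⊔ K).relIndex H ∣ p ^ j := by
      rw [← hj, ← Subgroup.index_eq_card]
      exact Dvd.intro_left _ (Subgroup.relIndex_mul_relIndex K (R ⊔ K) H le_sup_right (sup_le hR.le hKH))
    obtain ⟨i, -, hi⟩ := (Nat.dvd_prime_pow Fact.out).1 h1
    rcases i with _ | i
    · exact Subgroup.relIndex_eq_one.1 (by simpa using hi)
    · exact absurd ((dvd_pow_self p i.succ_ne_zero).trans (hi ▸ Dvd.intro_left _
        (Subgroup.relIndex_mul_relIndex R (R ⊔ K) H le_sup_left (sup_le hR.le hKH)))) hR.not_dvd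
  rw [← hM, ← SetLike.mem_coe, Subgroup.coe_mul_of_left_le_normalizer_right R K (hR.le.trans hHK)] at hh
  obtain ⟨r, hr, k, hk, e⟩ := hh
  exact ⟨r, hr, k, hk, e.symm⟩

variable {Ω : Type u} [Group Ω] {S T : Subgroup Ω} {F : FusionSystem S} {E : FusionSystem T}
  {P Q R U Y : Subgroup Ω} {f : Ω → Ω} {p : ℕ}
  {G : Type u} [Group G] {N : Subgroup Ω} {ι : ↥N →* G} {W : Subgroup G}
  [Finite S] [Fact p.Prime] {c : Ctx F E p}

namespace Ctx

/-- A class of maps closed under the operations used along a chain of conjugations over `N`. -/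
structure Closed (c : Ctx F E p) (Y N Q : Subgroup Ω) (Φ : Subgroup Ω → (Ω → Ω) → Prop) : Prop where
  congr : ∀ {P : Subgroup Ω} {f g : Ω → Ω}, Φ P f → (∀ x ∈ P, f x = g x) → Φ P g
  restrict : ∀ {P R : Subgroup Ω} {f : Ω → Ω}, Φ P f → Q ≤ R → R ≤ P → P ≤ N → Φ R f
  id : ∀ {P : Subgroup Ω}, Q ≤ P → P ≤ N → Φ P id
  comp : ∀ {P R : Subgroup Ω} {f g : Ω → Ω}, Φ P f → Φ R g → Q ≤ P → P ≤ N → R ≤ N → (∀ x ∈ P, f x ∈ R) →
    Φ P (g ∘ f)
  inv : ∀ {P : Subgroup Ω} {f g : Ω → Ω}, Φ P f → Q ≤ P → P ≤ N → (∀ x ∈ P, f x ∈ P) → (∀ x ∈ P, g (f x) = x) →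
    (∀ x ∈ P, g x ∈ P) → Φ P g
  hk : ∀ {P : Subgroup Ω} {α : MulAut P}, Q ≤ P → P ≤ N → c.Hk Y P α → (∀ x ∈ Q, av α x ∈ Q) → Φ P (av α)
  conj : ∀ {P : Subgroup Ω} {f : Ω → Ω} {y : Ω}, y ∈ N → Q ≤ P → P ≤ N → Φ P f → (∀ x ∈ P, f x ∈ N) →
    Φ (im P fun x => y * x * y⁻¹) fun z => y * f (y⁻¹ * z * y) * y⁻¹
  conjT : ∀ {P : Subgroup Ω} {t : Ω}, Q ≤ P → P ≤ N → t ∈ N → t ∈ T → Φ P fun x => t * x * t⁻¹

theorem kmap_closed (c : Ctx F E p) (hY : Y ≤ S) (hT : T ≤ Y) (hN : N ≤ Y) :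
    c.Closed Y N Q (c.KMap T Y) where
  congr h he := c.kmap_congr h he
  restrict h _ hR _ := c.kmap_restrict h hR
  id _ hP := c.kmap_id hY hT (hP.trans hN)
  comp h h' _ _ _ hm := c.kmap_comp h h' hm
  inv {P f g} h _ _ hf hg _ := by
    haveI := finite_of_le h.1.le
    have := c.kmap_inv h (fun x hx => c.kmap_mem hY hT h hx) hg
    rwa [Subgroup.eq_of_le_of_card_ge (im_le_iff.2 hf) h.1.card_im.ge] at this
  hk _ _ h _ := c.kmap_hk hY h
  conj {P f y} hy _ hP h _ := by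
    haveI := finite_of_le hY
    have hm := map_conjBy (F := F) hY (hY (hN hy))
    have hi : im Y (fun x => y * x * y⁻¹) = Y := Subgroup.eq_of_le_of_card_ge
      (im_le_iff.2 fun x hx => Y.mul_mem (Y.mul_mem (hN hy) hx) (Y.inv_mem (hN hy))) hm.card_im.ge
    obtain ⟨e, he, hee⟩ := c.kmap_transport hT hm h
    rw [hi, c.im_T hT hm] at he
    refine c.kmap_congr he fun z hz => ?_
    obtain ⟨x, hx, rfl⟩ := (hm.restrict (hP.trans hN)).mem_im.1 hz
    rw [hee x hx, show y⁻¹ * (y * x * y⁻¹) * y = x by group]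
  conjT _ hP _ htT := c.kmap_conjBy hY hT (hP.trans hN) htT

end Ctx

namespace Ctx.Pre

variable (L : c.Pre Q ι W)
include L

omit [Finite S] [Fact p.Prime] in
theorem qT : Q ≤ T := L.centric.1

omit [Finite S] [Fact p.Prime] in
theorem qY : Q ≤ N := L.qN

omit [Finite S] [Fact p.Prime] in
theorem nT : N ⊓ T ≤ N := inf_le_left

omit [Finite S] [Fact p.Prime] in
theorem cj_range {g : G} (hg : g ∈ Subgroup.normalizer (imG ι P : Set G)) : cj (imG ι P) g ≤ ι.range :=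
  (cj_eq_self hg).le.trans (Subgroup.map_le_range ι _)

omit [Finite S] [Fact p.Prime] in
theorem act_spec {g : G} {x : Ω} (hP : P ≤ N) (hg : cj (imG ι P) g ≤ ι.range) (hx : x ∈ P) :
    g * ue ι x * g⁻¹ ∈ ι.range :=
  hg (conj_mem_cj (ue_mem_up hP hx))

omit [Finite S] [Fact p.Prime] in
theorem imG_im (hP : P ≤ N) {g : G} (hg : cj (imG ι P) g ≤ ι.range) :
    imG ι (im P (act ι g)) = cj (imG ι P) g := by
  have hm : im P (act ι g) ≤ N := im_le_iff.2 fun _ _ => act_mem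
  ext z
  constructor
  · intro hz
    obtain ⟨y, hy, rfl⟩ := (mem_imG hm).1 hz
    obtain ⟨x, hx, rfl⟩ := (L.mapF P hP g hg).mem_im.1 hy
    rw [ue_act (L.act_spec hP hg hx)]
    exact conj_mem_cj (ue_mem_up hP hx)
  · rintro ⟨y, hy, rfl⟩
    obtain ⟨x, hx, rfl⟩ := (mem_imG hP).1 hy
    show g * ue ι x * g⁻¹ ∈ _
    rw [← ue_act (L.act_spec hP hg hx)]
    exact ue_mem_up hm (mem_im_of_mem hx)

omit [Finite S] [Fact p.Prime] in
/-- `Q` is mapped to itself. -/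
theorem act_Q (g : G) {x : Ω} (hx : x ∈ Q) : act ι g x ∈ Q := by
  obtain ⟨z, hz, hze⟩ := (mem_imG L.qY).1 (L.qn.conj_mem _ (ue_mem_up L.qY hx) g)
  rw [act_eq L.inj (L.qY hz) hze]
  exact hz

omit [Finite S] [Fact p.Prime] in
theorem q_range (g : G) : cj (imG ι Q) g ≤ ι.range := by
  haveI := L.qn
  rw [cj_of_normal]
  exact Subgroup.map_le_range ι _

/-- The elements of order prime to `p` lie in the normal subgroup. -/
theorem coprime_mem {g : G} (hg : (orderOf g).Coprime p) : g ∈ W := by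
  haveI := L.finite
  haveI := L.normal
  obtain ⟨a, ha, w, hw, rfl⟩ := Subgroup.mem_sup_of_normal_right.1 (L.gen.ge (Subgroup.mem_top g))
  obtain ⟨k, hk⟩ := L.syl.isPGroup ⟨a, ha⟩
  refine mem_of_pPow_mem (k := k) hg ((QuotientGroup.eq_one_iff (N := W) _).1 ?_)
  have h1 : (a : G ⧸ W) ^ p ^ k = 1 := by
    rw [← QuotientGroup.mk_pow, show a ^ p ^ k = 1 from congrArg Subtype.val hk, QuotientGroup.mk_one]
  rw [QuotientGroup.mk_pow, QuotientGroup.mk_mul, (QuotientGroup.eq_one_iff (N := W) w).2 hw, mul_one, h1]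

omit [Finite S] [Fact p.Prime] in
theorem shift {g : G} (hg : g ∈ W) {x : Ω} (hx : x ∈ N)
    (hgx : g * ue ι x * g⁻¹ ∈ ι.range) : x⁻¹ * act ι g x ∈ T := by
  have h0 : g * ue ι x * g⁻¹ * (ue ι x)⁻¹ ∈ imG ι (N ⊓ T) := by
    refine L.inf.le ⟨ι.range.mul_mem hgx (ι.range.inv_mem (ue_mem_range hx)), ?_⟩
    have h1 := W.mul_mem hg (L.normal.conj_mem _ (W.inv_mem hg) (ue ι x))
    simpa [mul_assoc] using h1
  obtain ⟨t, ht, hte⟩ := (mem_imG L.nT).1 h0
  have h1 : act ι g x = t * x := act_eq L.inj (Subgroup.mul_mem _ (L.nT ht) hx) (by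
    rw [ue_mul (L.nT ht) hx, hte]; group)
  rw [h1, ← mul_assoc]
  simpa using stronglyClosed_conj_mem c.tC (S.inv_mem (L.nS hx)) ht.2

omit [Finite S] [Fact p.Prime] in
theorem act_normalizer (hP : P ≤ N) {g : G}
    (hg : g ∈ Subgroup.normalizer (imG ι P : Set G)) {x : Ω} (hx : x ∈ P) : act ι g x ∈ P := by
  obtain ⟨y, hy, hye⟩ := (mem_imG hP).1 ((cj_eq_self hg).le (conj_mem_cj (g := g) (ue_mem_up hP hx)))
  rw [act_eq L.inj (hP hy) hye]
  exact hy

/-- Elements of order prime to `p` induce generators. -/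
theorem hk (hNY : N ≤ Y) (hQP : Q ≤ P) (hP : P ≤ N) {g : G} (hg : (orderOf g).Coprime p)
    (hgn : g ∈ Subgroup.normalizer (imG ι P : Set G)) :
    ∃ α : MulAut P, c.Hk Y P α ∧ ∀ x ∈ P, av α x = act ι g x := by
  haveI := c.finT
  have hgW := L.coprime_mem hg
  have hPS : P ≤ S := hP.trans L.nS
  haveI := finite_of_le hPS
  have hm := L.mapF P hP g (L.cj_range hgn)
  obtain ⟨α, hα, hαe⟩ := exists_aut hm
    (Subgroup.eq_of_le_of_card_ge (im_le_iff.2 fun x hx => L.act_normalizer hP hgn hx) hm.card_im.ge)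
  have hαo : (orderOf α).Coprime p := by
    refine hg.coprime_dvd_left (orderOf_dvd_of_pow_eq_one (aut_ext fun x hx => ?_))
    have key : ∀ n : ℕ, av (α ^ n) x = act ι (g ^ n) x := fun n => by
      induction n with
      | zero => rw [pow_zero, pow_zero, av_one hx, act_one L.inj (hP hx)]
      | succ n ih =>
        rw [pow_succ', pow_succ', av_mul _ _ hx, hαe _ (av_mem _ hx), ih,
          act_comp (L.act_spec hP (L.cj_range (Subgroup.pow_mem _ hgn n)) hx)]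
    rw [key, pow_orderOf_eq_one, act_one L.inj (hP hx), av_one hx]
  have hsh : ∀ x ∈ P, x⁻¹ * av α x ∈ T := fun x hx => by
    rw [hαe x hx]
    exact L.shift hgW (hP hx) (L.act_spec hP (L.cj_range hgn) hx)
  have hQT : Q ≤ P ⊓ T := le_inf hQP L.qT
  have hPT : P ⊓ T ≤ normalizerIn T Q := fun x hx => ⟨hx.2, L.nQ (hP hx.1)⟩
  have hmT := hm.restrict (inf_le_left : P ⊓ T ≤ P)
  haveI := finite_of_le (inf_le_left.trans hPS : P ⊓ T ≤ S)
  have hin : ∀ x ∈ P ⊓ T, act ι g x ∈ P ⊓ T := fun x hx =>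
    ⟨L.act_normalizer hP hgn hx.1, stronglyClosed_map c.tC hmT hx hx.2⟩
  obtain ⟨β, hβ, hβe⟩ := exists_aut hmT
    (Subgroup.eq_of_le_of_card_ge (im_le_iff.2 hin) hmT.card_im.ge)
  have hβo : (orderOf β).Coprime p := hαo.coprime_dvd_left (orderOf_dvd_of_pow_eq_one (aut_ext fun x hx => by
    rw [av_one hx, ← av_pow (inf_le_left : P ⊓ T ≤ P) (fun y hy => (hαe y hy.1).trans (hβe y hy).symm) _ x hx,
      pow_orderOf_eq_one, av_one hx.1]))
  have hβE := mem_sub_of_centric c.pS c.n.1 L.centric hQT hPT hβ hβo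
    (fun x hx => by rw [hβe x (hQT hx)]; exact L.act_Q g hx)
    ((L.part g hgW).congr fun x hx => (hβe x (hQT hx)).symm)
  exact ⟨α, ⟨hP.trans hNY, centric_mono L.centric hQT inf_le_right, hα, hαo,
    (map_of_mem_autGroup inf_le_right hβE).congr fun x hx => (hβe x hx).trans (hαe x hx.1).symm, hsh⟩, hαe⟩

/-- Every element of the normal subgroup moving a subgroup into `N_Y(Q)` induces a generated map, and the others
differ from one by a conjugation. -/
theorem chain {Φ : Subgroup Ω → (Ω → Ω) → Prop} (hΦ : c.Closed Y N Q Φ) (hNY : N ≤ Y) {g : G} (hQP : Q ≤ P) (hP : P ≤ N) (hg : cj (imG ι P) g ≤ ι.range) :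
    ∃ y ∈ N, ∃ v ∈ W, g = ue ι y * v ∧ cj (imG ι P) v ≤ ι.range ∧
      Φ P (act ι v) := by
  haveI := L.finite
  obtain ⟨Fam, hFam⟩ : ∃ Fam : Set (Subgroup G), Fam = {U | U ≤ ι.range ∧
      SylIn p (ι.range ⊓ Subgroup.normalizer (U : Set G)) (Subgroup.normalizer (U : Set G))} := ⟨_, rfl⟩
  have key : ∀ (A : Set G) (x : G), Chain (fun U x => U ∈ Fam ∧ x ∈ Subgroup.normalizer (U : Set G)) A x →
      ∀ P : Subgroup Ω, Q ≤ P → P ≤ N → (imG ι P : Set G) = A →
      ∃ y ∈ N, ∃ v ∈ W, x⁻¹ = ue ι y * v ∧ cj (imG ι P) v ≤ ι.range ∧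
        Φ P (act ι v) := by
    intro A x hch
    induction hch with
    | nil B =>
      intro P hQP hP hB
      refine ⟨1, Subgroup.one_mem _, 1, W.one_mem, ?_, ?_, hΦ.congr (hΦ.id hQP hP)
        fun z hz => (act_one L.inj (hP hz)).symm⟩
      · rw [inv_one, mul_one, ue_apply (Subgroup.one_mem _)]; exact (map_one ι).symm
      · rw [cj_one]; exact Subgroup.map_le_range ι _
    | @cons B h U x hx hBU _ ih =>
      intro P hQP hP hB
      obtain ⟨⟨hUr, hUs⟩, hxn⟩ : (U ≤ ι.range ∧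
          SylIn p (ι.range ⊓ Subgroup.normalizer (U : Set G)) (Subgroup.normalizer (U : Set G))) ∧
          x ∈ Subgroup.normalizer (U : Set G) := ⟨(hFam ▸ hx.1 :), hx.2⟩
      obtain ⟨PU, hPU⟩ : ∃ PU, PU = (U.comap ι).map (N).subtype := ⟨_, rfl⟩
      have hPUN : PU ≤ N := hPU ▸ Subgroup.map_subtype_le _
      have hUe : imG ι PU = U := by
        ext z
        rw [mem_imG hPUN]
        constructor
        · rintro ⟨a, ha, rfl⟩
          obtain ⟨b, hb, rfl⟩ := hPU ▸ ha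
          rw [show ue ι ((N).subtype b) = ι b from ue_coe b]
          exact hb
        · intro hz
          obtain ⟨b, rfl⟩ := hUr hz
          exact ⟨b, hPU ▸ Subgroup.mem_map_of_mem (N).subtype (show b ∈ U.comap ι from hz), ue_coe b⟩
      have hPle : P ≤ PU := fun a ha => by
        refine hPU ▸ ⟨⟨a, hP ha⟩, ?_, rfl⟩
        show ι ⟨a, hP ha⟩ ∈ U
        rw [← ue_apply (hP ha)]
        exact hBU (hB ▸ ue_mem_up hP ha)
      have hQU : Q ≤ PU := hQP.trans hPle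
      -- the first step
      obtain ⟨K, hK⟩ : ∃ K, K = Subgroup.closure
          {k : G | k ∈ Subgroup.normalizer (U : Set G) ∧ (orderOf k).Coprime p} := ⟨_, rfl⟩
      have hKN : K ≤ Subgroup.normalizer (U : Set G) := hK ▸ (Subgroup.closure_le _).2 fun k hk => hk.1
      have hNK : Subgroup.normalizer (U : Set G) ≤ Subgroup.normalizer (K : Set G) := by
        intro a ha
        refine mem_normalizer_of_cj_le ?_
        rw [hK, cj, MonoidHom.map_closure, Subgroup.closure_le]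
        rintro _ ⟨k, ⟨hk, hko⟩, rfl⟩
        refine Subgroup.subset_closure ⟨Subgroup.mul_mem _ (Subgroup.mul_mem _ ha hk) (Subgroup.inv_mem _ ha), ?_⟩
        rw [show orderOf ((MulAut.conj a).toMonoidHom k) = orderOf k from MulEquiv.orderOf_eq (MulAut.conj a) k]
        exact hko
      obtain ⟨r, hr, k, hk, hrk⟩ := mem_syl_sup hUs hKN hNK
        (fun a ha hao => hK ▸ Subgroup.subset_closure ⟨ha, hao⟩) (Subgroup.inv_mem _ hxn)
      obtain ⟨⟨y₁, hy₁⟩, hy₁e⟩ := hr.1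
      rw [← ue_apply hy₁] at hy₁e
      have hkmap : k ∈ W ∧ Φ PU (act ι k) := by
        have hid : Φ PU (act ι 1) := hΦ.congr (hΦ.id hQU hPUN) fun z hz => (act_one L.inj (hPUN hz)).symm
        have hrange : ∀ a ∈ Subgroup.normalizer (U : Set G), cj (imG ι PU) a ≤ ι.range :=
          fun a ha => L.cj_range (hUe.symm ▸ ha)
        have hin : ∀ a ∈ Subgroup.normalizer (U : Set G), ∀ z ∈ PU, act ι a z ∈ PU :=
          fun a ha z hz => L.act_normalizer hPUN (hUe.symm ▸ ha) hz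
        suffices ∀ a ∈ K, a ∈ Subgroup.normalizer (U : Set G) ∧ a ∈ W ∧ Φ PU (act ι a) from
          (this k hk).2
        intro a ha
        rw [hK] at ha
        induction ha using Subgroup.closure_induction with
        | mem a ha =>
          obtain ⟨α, hα, hαe⟩ := L.hk hNY hQU hPUN ha.2 (hUe.symm ▸ ha.1)
          exact ⟨ha.1, L.coprime_mem ha.2, hΦ.congr
            (hΦ.hk hQU hPUN hα fun z hz => by rw [hαe z (hQU hz)]; exact L.act_Q a hz) hαe⟩
        | one => exact ⟨Subgroup.one_mem _, W.one_mem, hid⟩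
        | mul a b _ _ iha ihb =>
          refine ⟨Subgroup.mul_mem _ iha.1 ihb.1, W.mul_mem iha.2.1 ihb.2.1,
            hΦ.congr (hΦ.comp ihb.2.2 iha.2.2 hQU hPUN hPUN (hin b ihb.1)) fun z hz => ?_⟩
          exact act_comp (L.act_spec hPUN (hrange b ihb.1) hz)
        | inv a _ iha =>
          have hai := Subgroup.inv_mem _ iha.1
          refine ⟨hai, W.inv_mem iha.2.1, hΦ.inv iha.2.2 hQU hPUN (hin a iha.1) (fun z hz => ?_) (hin _ hai)⟩
          rw [act_comp (L.act_spec hPUN (hrange a iha.1) hz), inv_mul_cancel, act_one L.inj (hPUN hz)]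
      -- the rest of the chain starts at `P₁`
      obtain ⟨P₁, hP₁d⟩ : ∃ P₁, P₁ = im P (act ι x⁻¹) := ⟨_, rfl⟩
      have hP₁N : P₁ ≤ N := hP₁d ▸ im_le_iff.2 fun _ _ => act_mem
      have hxr : cj (imG ι P) x⁻¹ ≤ ι.range := by
        refine (cj_mono ?_ x⁻¹).trans ((cj_eq_self (Subgroup.inv_mem _ hxn)).le.trans hUr)
        exact fun z hz => hBU (hB ▸ hz)
      have hP₁e : (imG ι P₁ : Set G) = rcj x B := by
        rw [hP₁d, L.imG_im hP hxr, ← rcj_coe, hB]
      have hQP₁ : Q ≤ P₁ := by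
        intro a ha
        haveI := L.qn
        have h1 : ue ι a ∈ imG ι P₁ := by
          rw [hP₁d, L.imG_im hP hxr]
          exact cj_mono (Subgroup.map_mono (Subgroup.comap_mono hQP)) x⁻¹
            ((cj_of_normal (imG ι Q) x⁻¹).ge (ue_mem_up L.qY ha))
        obtain ⟨b, hb, hbe⟩ := (mem_imG hP₁N).1 h1
        rwa [← ue_inj L.inj (hP₁N hb) (L.qY ha) hbe]
      obtain ⟨y₂, hy₂, v₂, hv₂, he₂, hr₂, hk₂⟩ := ih P₁ hQP₁ hP₁N hP₁e
      obtain ⟨v, hvd⟩ : ∃ v, v = (ue ι y₁)⁻¹ * v₂ * ue ι y₁ * k := ⟨_, rfl⟩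
      have hkr : cj (imG ι P) k ≤ ι.range := (cj_mono (fun z hz => hBU (hB ▸ hz)) k).trans
        ((cj_eq_self (hKN hk)).le.trans hUr)
      have hval : ∀ a ∈ P, act ι x⁻¹ a = y₁ * act ι k a * y₁⁻¹ := fun a ha => by
        refine act_eq L.inj (Subgroup.mul_mem _ (Subgroup.mul_mem _ hy₁ act_mem) (Subgroup.inv_mem _ hy₁)) ?_
        rw [ue_conj hy₁ act_mem, ue_act (L.act_spec hP hkr ha), hrk, hy₁e]
        group
      have hvr : ∀ a ∈ P, v * ue ι a * v⁻¹ = ue ι (y₁⁻¹ * act ι v₂ (act ι x⁻¹ a) * y₁) := fun a ha => by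
        have hay := act_mem (ι := ι) (g := x⁻¹) (x := a)
        have h2 := hval a ha
        rw [ue_mul (Subgroup.mul_mem _ (Subgroup.inv_mem _ hy₁) act_mem) hy₁,
          ue_mul (Subgroup.inv_mem _ hy₁) act_mem, ue_inv hy₁,
          ue_act (L.act_spec hP₁N hr₂ (hP₁d ▸ mem_im_of_mem ha)), h2, ue_conj hy₁ act_mem,
          ue_act (L.act_spec hP hkr ha), hvd]
        group
      have hv : v ∈ W := by
        rw [hvd]
        refine W.mul_mem ?_ hkmap.1
        simpa using L.normal.conj_mem _ hv₂ (ue ι y₁)⁻¹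
      refine ⟨y₂ * y₁, Subgroup.mul_mem _ hy₂ hy₁, v, hv, ?_, ?_, ?_⟩
      · rw [mul_inv_rev, he₂, hrk, ue_mul hy₂ hy₁, hvd, hy₁e]
        group
      · rintro _ ⟨z, hz, rfl⟩
        obtain ⟨a, ha, rfl⟩ := (mem_imG hP).1 hz
        show v * ue ι a * v⁻¹ ∈ ι.range
        rw [hvr a ha]
        exact ue_mem_range (Subgroup.mul_mem _ (Subgroup.mul_mem _ (Subgroup.inv_mem _ hy₁) act_mem) hy₁)
      · -- transport the rest of the chain back by `y₁`
        have hy := Subgroup.inv_mem _ hy₁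
        have hj := hΦ.conj hy hQP₁ hP₁N hk₂ fun _ _ => act_mem
        have h1 : ∀ a ∈ P, act ι k a = y₁⁻¹ * act ι x⁻¹ a * y₁⁻¹⁻¹ := fun a ha => by rw [hval a ha]; group
        have hmk : ∀ a ∈ P, act ι k a ∈ im P₁ (fun z => y₁⁻¹ * z * y₁⁻¹⁻¹) := fun a ha => by
          rw [h1 a ha]
          exact mem_im_of_mem (f := fun z => y₁⁻¹ * z * y₁⁻¹⁻¹) (hP₁d ▸ mem_im_of_mem ha)
        refine hΦ.congr (hΦ.comp (hΦ.restrict hkmap.2 hQP hPle hPUN) hj hQP hP ?_ hmk) fun a ha => ?_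
        · exact im_le_iff.2 fun z hz => N.mul_mem (N.mul_mem hy (hP₁N hz)) (N.inv_mem hy)
        show y₁⁻¹ * act ι v₂ (y₁⁻¹⁻¹ * act ι k a * y₁⁻¹) * y₁⁻¹⁻¹ = act ι v a
        rw [h1 a ha, inv_inv, show y₁ * (y₁⁻¹ * act ι x⁻¹ a * y₁) * y₁⁻¹ = act ι x⁻¹ a by group,
          act_eq L.inj (N.mul_mem (N.mul_mem hy act_mem) hy₁) (hvr a ha).symm]
  have hA : rcj g⁻¹ (imG ι P : Set G) ⊆ ι.range := by
    rw [rcj_coe, inv_inv]
    exact hg
  have hch := chain_of_extremal_family L.syl Fam (fun U hU => by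
    obtain ⟨a, haS, hsyl⟩ := exists_extremal_conj L.syl hU
    exact ⟨_, hFam ▸ ⟨haS, hsyl⟩, haS, ⟨a, rfl⟩, hsyl⟩) (Subgroup.map_le_range ι _) hA
  have h := key _ _ hch P hQP hP rfl
  rwa [inv_inv] at h

/-- Elements of the normal subgroup induce maps of every closed class. -/
theorem chainW {Φ : Subgroup Ω → (Ω → Ω) → Prop} (hΦ : c.Closed Y N Q Φ) (hNY : N ≤ Y) {w : G}
    (hQP : Q ≤ P) (hP : P ≤ N) (hw : w ∈ W) (hwP : cj (imG ι P) w ≤ ι.range) : Φ P (act ι w) := by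
  obtain ⟨y, hy, v, hv, he, hvr, hk⟩ := L.chain hΦ hNY hQP hP hwP
  have hy' : ue ι y ∈ ι.range ⊓ W :=
    ⟨ue_mem_range hy, (show w * v⁻¹ = ue ι y by rw [he, mul_inv_cancel_right]) ▸ W.mul_mem hw (W.inv_mem hv)⟩
  obtain ⟨t, ht, hte⟩ := (mem_imG L.nT).1 (L.inf.le hy')
  have hty : t = y := ue_inj L.inj (L.nT ht) hy hte
  have hQim : Q ≤ im P (act ι v) := fun x hx => by
    haveI := L.qn
    have h1 : ue ι x ∈ imG ι (im P (act ι v)) := by
      rw [L.imG_im hP hvr]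
      exact cj_mono (Subgroup.map_mono (Subgroup.comap_mono hQP)) v
        ((cj_of_normal (imG ι Q) v).ge (ue_mem_up L.qY hx))
    obtain ⟨b, hb, hbe⟩ := (mem_imG (im_le_iff.2 fun _ _ => act_mem)).1 h1
    rwa [← ue_inj L.inj ((im_le_iff.2 fun _ _ => act_mem : im P (act ι v) ≤ N) hb) (L.qY hx) hbe]
  have him : im P (act ι v) ≤ N := im_le_iff.2 fun _ _ => act_mem
  refine hΦ.congr (hΦ.comp hk (hΦ.conjT hQim him hy (hty ▸ ht.2)) hQP hP him fun x hx => mem_im_of_mem hx)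
    fun x hx => ?_
  show y * act ι v x * y⁻¹ = _
  rw [← act_conj L.inj hy act_mem, act_comp (L.act_spec hP hvr hx), he]

end Ctx.Pre

namespace Ctx.Loc

variable {ι : ↥(normalizerIn Y Q) →* G} (L : c.Loc ι W)
include L

omit [Finite S] [Fact p.Prime] in
theorem nT' : normalizerIn T Q = normalizerIn Y Q ⊓ T :=
  le_antisymm (fun _ hx => ⟨inf_le_inf_right _ L.tY hx, hx.1⟩) fun _ hx => ⟨hx.2, hx.1.2⟩

/-- Elements of the normal subgroup induce generated maps. -/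
theorem kmapW {w : G} (hQP : Q ≤ P) (hP : P ≤ normalizerIn Y Q) (hw : w ∈ W)
    (hwP : cj (imG ι P) w ≤ ι.range) : c.KMap T Y P (act ι w) :=
  L.toPre.chainW (c.kmap_closed L.yS L.tY inf_le_left) inf_le_left hQP hP hw hwP

/-- Every element moving a subgroup into `N_Y(Q)` induces a generated map. -/
theorem kmap {g : G} (hQP : Q ≤ P) (hP : P ≤ normalizerIn Y Q) (hg : cj (imG ι P) g ≤ ι.range) :
    c.KMap Y Y P (act ι g) := by
  obtain ⟨y, hy, v, hv, he, hvr, hk⟩ :=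
    L.toPre.chain (c.kmap_closed L.yS L.tY inf_le_left) inf_le_left hQP hP hg
  refine c.kmap_congr (c.kmap_comp (c.kmap_mono L.tY le_rfl L.yS le_rfl L.tY hk)
    (c.kmap_conjBy (P := im P (act ι v)) L.yS le_rfl
    (im_le_iff.2 fun _ _ => inf_le_left (a := Y) act_mem) hy.1) fun x hx => mem_im_of_mem hx) fun x hx => ?_
  show y * act ι v x * y⁻¹ = _
  rw [← act_conj L.inj hy act_mem, act_comp (L.toPre.act_spec hP hvr hx), he]

end Ctx.Loc

end Cfsg.Agent.Local.FS.Balance
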