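import Cfsg.Agent.Lib.Local.FS.Balance.Conn

/-!
Generated maps fixing a good subgroup are induced by the normal subgroup of its local group.
-/

set_option autoImplicit false

namespace Cfsg.Agent.Local.FS.Balance

open Cfsg Cfsg.FusionSystem Cfsg.Agent.Fusion Cfsg.Agent.Local.FS Cfsg.Agent.Local.FS.Meet

universe u

variable {Ω : Type u} [Group Ω] {S T : Subgroup Ω} {F : FusionSystem S} {E : FusionSystem T}
  {P Q R U Y : Subgroup Ω} {f g : Ω → Ω} {p : ℕ}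
  {G : Type u} [Group G] {ι : ↥(normalizerIn Y Q) →* G} {W : Subgroup G} {c : Ctx F E p}

omit [Group G] in
theorem im_inv {P Q : Subgroup Ω} {f k : Ω → Ω} (h : Map F P f) (hQ : Q ≤ P) (hk : ∀ x ∈ P, k (f x) = x) :
    im (im Q f) k = Q := by
  rw [← (h.restrict hQ).im_comp, im_congr (f := k ∘ f) (g := id) fun x hx => hk x (hQ hx), im_id]

/-- `f` is conjugation by an element of the normal subgroup. -/
def Ctx.Loc.Ind (_L : c.Loc ι W) (P : Subgroup Ω) (f : Ω → Ω) : Prop :=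
  ∃ w ∈ W, ∀ x ∈ P, ue ι (f x) = w * ue ι x * w⁻¹

variable [Finite S] [Fact p.Prime]

/-- A generator fixing a conjugate of the good subgroup, moved to it. -/
theorem Ctx.Loc.ind_hk (L : c.Loc ι W) {D Q' : Subgroup Ω} {H : Ω → Ω} (hH : c.KMap T Y D H)
    (hHN : ∀ x ∈ D, H x ∈ normalizerIn Y Q) (hQD : Q' ≤ D) (hQ'T : Q' ≤ T) (hi : im Q' H = Q)
    {α : MulAut D} (hα : c.Hk Y D α) (hαQ : ∀ x ∈ Q', av α x ∈ Q') :
    ∃ w ∈ W, ∀ x ∈ D, ue ι (H (av α x)) = w * ue ι (H x) * w⁻¹ := by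
  have hT := c.tC
  obtain ⟨-, -, hαF, hαo, hαE, hαs⟩ := hα
  obtain ⟨e, he⟩ := exists_equiv hH.1 rfl
  have hD : im D H ≤ normalizerIn Y Q := im_le_iff.2 hHN
  have hQD' : Q ≤ im D H := hi ▸ im_mono hQD
  suffices h : (∀ y ∈ Q, av (MulAut.congr e α) y ∈ Q) ∧ Map E Q (av (MulAut.congr e α)) ∧
      ∀ y ∈ im D H, y⁻¹ * av (MulAut.congr e α) y ∈ T by
    obtain ⟨w, hw, hwn, hwe⟩ := L.adm (im D H) (MulAut.congr e α) hQD' hD (congr_mem_autGroup hH.1 rfl he hαF)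
      (by rw [MulEquiv.orderOf_eq]; exact hαo) h.1 h.2.1 h.2.2
    refine ⟨w, hw, fun x hx => ?_⟩
    rw [← av_congr_apply he α hx, hwe _ (mem_im_of_mem hx),
      ue_act (L.toPre.act_spec hD (L.toPre.cj_range hwn) (mem_im_of_mem hx))]
  refine ⟨fun y hy => ?_, ?_, fun y hy => ?_⟩
  · obtain ⟨x, hx, rfl⟩ := (hH.1.restrict hQD).mem_im.1 (hi.ge hy)
    rw [av_congr_apply he α (hQD hx)]
    exact hi.le (mem_im_of_mem (hαQ x hx))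
  · obtain ⟨h, hh, hhe⟩ := c.strongInv Q' Q' (av α) H le_rfl hQ'T (hαE.restrict (le_inf hQD hQ'T)) hαQ
      (hH.1.restrict hQD)
    rw [hi] at hh
    refine hh.congr fun y hy => ?_
    obtain ⟨x, hx, rfl⟩ := (hH.1.restrict hQD).mem_im.1 (hi.ge hy)
    rw [hhe x hx, av_congr_apply he α (hQD hx)]
  · obtain ⟨x, hx, rfl⟩ := hH.1.mem_im.1 hy
    rw [av_congr_apply he α hx, ← hH.1.map_inv hx, ← hH.1.map_mul (D.inv_mem hx) (av_mem α hx)]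
    exact stronglyClosed_map hT hH.1 (D.mul_mem (D.inv_mem hx) (av_mem α hx)) (hαs x hx)

/-- Generated maps fixing the good subgroup with a bigger intersection with `T` are induced. -/
theorem Ctx.str_ext {c : Ctx F E p} {n : ℕ}
    (ih : ∀ (Y Q : Subgroup Ω), Nat.card T - Nat.card Q < n → c.Good Y Q →
      ∀ {G : Type u} [Group G] (ι : ↥(normalizerIn Y Q) →* G) (W : Subgroup G) (L : c.Loc ι W)
        (P : Subgroup Ω) (f : Ω → Ω), Q ≤ P → P ≤ normalizerIn Y Q → c.KMap T Y P f → im Q f = Q → L.Ind P f) :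
    ∀ (Y Q : Subgroup Ω), Nat.card T - Nat.card Q = n → c.Good Y Q →
      ∀ {G : Type u} [Group G] (ι : ↥(normalizerIn Y Q) →* G) (W : Subgroup G) (L : c.Loc ι W)
        (P : Subgroup Ω) (f : Ω → Ω), Q < P ⊓ T → P ≤ normalizerIn Y Q → c.KMap T Y P f → im Q f = Q →
        L.Ind P f := by
  intro Y Q hn hQ G _ ι W L P
  haveI := c.finT
  suffices ∀ m, ∀ (P : Subgroup Ω) (f : Ω → Ω), Nat.card T - Nat.card ↥(P ⊓ T) = m → Q < P ⊓ T →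
      P ≤ normalizerIn Y Q → c.KMap T Y P f → im Q f = Q → L.Ind P f from fun f => this _ P f rfl
  intro m
  induction m using Nat.strong_induction_on with
  | _ m ihm =>
  intro P f hm hlt hPN hf hfQ
  have hT := c.tC
  have hY := L.yS
  have hTY := L.tY
  have hQP : Q ≤ P := hlt.le.trans inf_le_left
  have hPY : P ≤ Y := hPN.trans inf_le_left
  haveI := finite_of_le hY
  obtain ⟨U₃, hU₃⟩ : ∃ U, U = P ⊓ T := ⟨_, rfl⟩
  obtain ⟨P₄, hP₄⟩ : ∃ U, U = im P f := ⟨_, rfl⟩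
  obtain ⟨U₄, hU₄⟩ : ∃ U, U = im U₃ f := ⟨_, rfl⟩
  rw [← hU₃] at hlt hm
  have hU₃T : U₃ ≤ T := hU₃ ▸ inf_le_right
  have hU₃P : U₃ ≤ P := hU₃ ▸ inf_le_left
  have hU₄P : U₄ = P₄ ⊓ T := by rw [hU₄, hU₃, hP₄, c.im_inf hf.1]
  have hU₄T : U₄ ≤ T := hU₄P ▸ inf_le_right
  have hP₄N : P₄ ≤ normalizerIn Y Q := hP₄ ▸ im_le_iff.2 fun x hx =>
    ⟨c.kmap_mem hY hTY hf hx, hfQ ▸ (hf.1.mem_normalizer hQP hx (hPN hx).2).2⟩
  have hQU₄ : Q ≤ U₄ := hU₄ ▸ hfQ ▸ im_mono hlt.le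
  have hU₃N : U₃ ≤ normalizerIn T Q := le_inf hU₃T ((hU₃P.trans hPN).trans inf_le_right)
  -- the smaller `Y`
  obtain ⟨Y₃, hY₃⟩ : ∃ Y₃, Y₃ = T ⊔ P := ⟨_, rfl⟩
  have hY₃Y : Y₃ ≤ Y := hY₃ ▸ sup_le hTY hPY
  have hTY₃ : T ≤ Y₃ := hY₃ ▸ le_sup_left
  have hY₃S := hY₃Y.trans hY
  have hPY₃ : P ≤ Y₃ := hY₃ ▸ le_sup_right
  have hf₃ : c.KMap T Y₃ P f := c.kmap_down hY hTY₃ hY₃Y hf hPY₃
  have hP₄Y₃ : P₄ ≤ Y₃ := hP₄ ▸ im_le_iff.2 fun x hx => c.kmap_mem hY₃S hTY₃ hf₃ hx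
  have hcov₄ : Y₃ ≤ T ⊔ P₄ := hY₃ ▸ sup_le le_sup_left fun x hx => by
    rw [show x = f x * (x⁻¹ * f x)⁻¹ by group]
    exact Subgroup.mul_mem _ (Subgroup.mem_sup_right (hP₄ ▸ mem_im_of_mem hx))
      (Subgroup.inv_mem _ (Subgroup.mem_sup_left (c.kmap_shift hY₃S hTY₃ hf₃ hx)))
  have hPQ₃ : P ≤ normalizerIn Y₃ Q := fun x hx => ⟨hPY₃ hx, (hPN hx).2⟩
  have hQ₃ : c.Good Y₃ Q := ⟨hQ.fn, hQ.centric, fun y hy => sup_le_sup_left hPQ₃ T (hY₃ ▸ hy)⟩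
  have hPU₃ : P ≤ normalizerIn Y₃ U₃ := fun x hx => ⟨hPY₃ hx, mem_normalizer_of_conj_mem (S := S)
    (hU₃T.trans c.tS) fun z hz => hU₃ ▸ ⟨P.mul_mem (P.mul_mem hx (hU₃P hz)) (P.inv_mem hx),
      stronglyClosed_conj_mem hT (hY (hPY hx)) (hU₃T hz)⟩⟩
  have hP₄U₄ : P₄ ≤ normalizerIn Y₃ U₄ := fun x hx => ⟨hP₄Y₃ hx, mem_normalizer_of_conj_mem (S := S)
    (hU₄T.trans c.tS) fun z hz => by
      have hz' := hU₄P ▸ hz
      exact hU₄P ▸ ⟨P₄.mul_mem (P₄.mul_mem hx hz'.1) (P₄.inv_mem hx),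
        stronglyClosed_conj_mem hT (hY₃S (hP₄Y₃ hx)) hz'.2⟩⟩
  have hU₃c : E.IsCentric U₃ := centric_mono hQ.centric hlt.le hU₃T
  obtain ⟨V, h₁, hV, hh₁, hh₁m, hh₁i⟩ := c.exists_good hY₃S hTY₃ hU₃c
    (hY₃ ▸ sup_le_sup_left hPU₃ T : Y₃ ≤ T ⊔ normalizerIn Y₃ U₃)
  have hU₃Y : U₃ ≤ normalizerIn Y₃ U₃ := le_normalizerIn (hU₃T.trans hTY₃)
  have hh₁E := (c.kmap_E hY₃S hTY₃ hh₁).restrict (le_inf hU₃Y hU₃T)
  have hfE : Map E U₃ f := (c.kmap_E hY hTY hf).restrict (le_inf hU₃P hU₃T)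
  have hcV : E.IsConj U₄ V :=
    isConj_trans (isConj_symm (isConj_iff.2 ⟨f, hfE, hU₄.symm⟩)) (isConj_iff.2 ⟨h₁, hh₁E, hh₁i⟩)
  have hcardV : Nat.card V = Nat.card U₃ := by rw [← hh₁i, hh₁E.card_im]
  have hcard₄ : Nat.card U₄ = Nat.card U₃ := by rw [hU₄, hfE.card_im]
  have hlow : Nat.card Q < Nat.card U₃ := card_lt_of_lt hlt (hU₃T.trans c.tS)
  have hU₃le := Subgroup.card_le_of_le hU₃T
  haveI : Finite ↥(normalizerIn T Q) := finite_of_le (inf_le_left.trans c.tS)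
  have hU₄N : U₄ ≤ normalizerIn T Q :=
    le_inf hU₄T (((hU₄P ▸ inf_le_left : U₄ ≤ P₄).trans hP₄N).trans inf_le_right)
  obtain ⟨h₂, hh₂, hh₂m, hh₂i, htop⟩ : ∃ h₂, c.KMap T Y₃ (normalizerIn Y₃ U₄) h₂ ∧
      (∀ x ∈ normalizerIn Y₃ U₄, h₂ x ∈ normalizerIn Y₃ V) ∧ im U₄ h₂ = V ∧
      (U₃ = normalizerIn T Q → U₄ = U₃ ∧ h₂ = h₁) := by
    by_cases h : U₃ = normalizerIn T Q
    · have he : U₄ = U₃ := (Subgroup.eq_of_le_of_card_ge hU₄N (by rw [← h]; exact hcard₄.ge)).trans h.symm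
      exact ⟨h₁, he ▸ hh₁, he ▸ hh₁m, he ▸ hh₁i, fun _ => ⟨he, rfl⟩⟩
    · obtain ⟨h₂, a, b, d⟩ := c.conn Y₃ V U₄ hY₃S hTY₃ hV hcV
      exact ⟨h₂, a, b, d, fun h' => absurd h' h⟩
  obtain ⟨G₃, _, ι₃, W₃, L₃⟩ := c.exists_loc hY₃S hTY₃ hV.centric hV.fn
  haveI := L₃.finite
  haveI := L₃.normal
  -- the map at the bigger level
  obtain ⟨k₁, hk₁, hk₁h, hhk₁, -⟩ := c.kmap_exists_inv hY₃S hTY₃ (c.kmap_restrict hh₁ hPU₃)
  have hf₂m : ∀ x ∈ P, h₂ (f x) ∈ normalizerIn Y₃ V := fun x hx => hh₂m _ (hP₄U₄ (hP₄ ▸ mem_im_of_mem hx))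
  have hg : c.KMap T Y₃ (im P h₁) (h₂ ∘ f ∘ k₁) :=
    c.kmap_comp (c.kmap_comp hk₁ hf₃ fun z hz => (hhk₁ z hz).2) hh₂
      fun z hz => hP₄U₄ (hP₄ ▸ mem_im_of_mem (hhk₁ z hz).2)
  have hgV : im V (h₂ ∘ f ∘ k₁) = V := by
    have h1 : im V k₁ = U₃ := by rw [← hh₁i]; exact im_inv (hh₁.1.restrict hPU₃) hU₃P hk₁h
    have hVk : V ≤ im P h₁ := hh₁i ▸ im_mono hU₃P
    rw [show h₂ ∘ f ∘ k₁ = (h₂ ∘ f) ∘ k₁ from rfl, (hk₁.1.restrict hVk).im_comp, h1,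
      (hf₃.1.restrict hU₃P).im_comp, ← hU₄, hh₂i]
  obtain ⟨w, hw, hwe⟩ := ih Y₃ V (by omega) hV ι₃ W₃ L₃ _ _ (hh₁i ▸ im_mono hU₃P)
    (im_le_iff.2 fun x hx => hh₁m x (hPU₃ hx)) hg hgV
  have hwP : ∀ x ∈ P, ue ι₃ (h₂ (f x)) = w * ue ι₃ (h₁ x) * w⁻¹ := fun x hx => by
    have := hwe _ (mem_im_of_mem hx)
    simp only [Function.comp_apply, hk₁h x hx] at this
    exact this
  -- the images of `Q` and their stabilizers
  have hQU₃ := hlt.le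
  obtain ⟨D₁, hD₁⟩ : ∃ D, D = normalizerIn Y₃ Q ⊓ normalizerIn Y₃ U₃ := ⟨_, rfl⟩
  obtain ⟨D₂, hD₂⟩ : ∃ D, D = normalizerIn Y₃ Q ⊓ normalizerIn Y₃ U₄ := ⟨_, rfl⟩
  have hPD₁ : P ≤ D₁ := hD₁ ▸ le_inf hPQ₃ hPU₃
  have hPD₂ : P₄ ≤ D₂ := hD₂ ▸ le_inf (fun x hx => ⟨hP₄Y₃ hx, (hP₄N hx).2⟩) hP₄U₄
  have hD₁U : D₁ ≤ normalizerIn Y₃ U₃ := hD₁ ▸ inf_le_right
  have hD₂U : D₂ ≤ normalizerIn Y₃ U₄ := hD₂ ▸ inf_le_right
  have hQD₁ : Q ≤ D₁ := hQP.trans hPD₁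
  have hQD₂ : Q ≤ D₂ := hQU₄.trans ((hU₄P ▸ inf_le_left : U₄ ≤ P₄).trans hPD₂)
  obtain ⟨Qb, hQb⟩ : ∃ A, A = im Q h₂ := ⟨_, rfl⟩
  have hQbV : Qb ≤ V := hQb ▸ hh₂i ▸ im_mono hQU₄
  have hQbN : Qb ≤ normalizerIn Y₃ V := hQbV.trans L₃.qN
  obtain ⟨H₁, hH₁⟩ : ∃ A, A = imG ι₃ (im D₁ h₁) := ⟨_, rfl⟩
  obtain ⟨H₂, hH₂⟩ : ∃ A, A = imG ι₃ (im D₂ h₂) := ⟨_, rfl⟩
  have hd₁ : im D₁ h₁ ≤ normalizerIn Y₃ V := im_le_iff.2 fun x hx => hh₁m x (hD₁U hx)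
  have hd₂ : im D₂ h₂ ≤ normalizerIn Y₃ V := im_le_iff.2 fun x hx => hh₂m x (hD₂U hx)
  obtain ⟨St, hSt⟩ : ∃ A, A = Subgroup.normalizer (imG ι₃ Qb : Set G₃) := ⟨_, rfl⟩
  have hH₂m : ∀ y ∈ D₂, ue ι₃ (h₂ y) ∈ St := fun y hy => by
    rw [hSt]
    refine mem_normalizer_of_cj_le ?_
    rintro _ ⟨z', hz', rfl⟩
    obtain ⟨q, hq, rfl⟩ := (mem_imG hQbN).1 hz'
    obtain ⟨x, hx, rfl⟩ := (hh₂.1.restrict (hQD₂.trans hD₂U)).mem_im.1 (hQb ▸ hq)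
    show ue ι₃ (h₂ y) * ue ι₃ (h₂ x) * (ue ι₃ (h₂ y))⁻¹ ∈ imG ι₃ Qb
    rw [← ue_conj (hh₂m y (hD₂U hy)) (hh₂m x (hD₂U (hQD₂ hx))),
      ← hh₂.1.map_conj (hD₂U hy) (hD₂U (hQD₂ hx))]
    exact ue_mem_up hQbN (hQb ▸ mem_im_of_mem (conj_mem_of_normalizer ((hD₂.le hy).1).2 hx))
  have hwQ : cj (imG ι₃ (im Q h₁)) w = imG ι₃ Qb := by
    have hQa : im Q h₁ ≤ normalizerIn Y₃ V := im_le_iff.2 fun x hx => hh₁m x (hD₁U (hQD₁ hx))
    ext z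
    constructor
    · rintro ⟨z', hz', rfl⟩
      obtain ⟨q, hq, rfl⟩ := (mem_imG hQa).1 hz'
      obtain ⟨x, hx, rfl⟩ := (hh₁.1.restrict (hQD₁.trans hD₁U)).mem_im.1 hq
      show w * ue ι₃ (h₁ x) * w⁻¹ ∈ _
      rw [← hwP x (hQP hx)]
      exact ue_mem_up hQbN (hQb ▸ mem_im_of_mem (hfQ.le (mem_im_of_mem hx)))
    · intro hz
      obtain ⟨q, hq, rfl⟩ := (mem_imG hQbN).1 hz
      obtain ⟨x', hx', rfl⟩ := (hh₂.1.restrict (hQD₂.trans hD₂U)).mem_im.1 (hQb ▸ hq)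
      obtain ⟨x, hx, rfl⟩ := (hf.1.restrict hQP).mem_im.1 (hfQ.ge hx')
      rw [hwP x (hQP hx)]
      exact conj_mem_cj (ue_mem_up hQa (mem_im_of_mem hx))
  have hH₂St : H₂ ≤ St := fun z hz => by
    obtain ⟨d, hd, rfl⟩ := (mem_imG hd₂).1 (hH₂ ▸ hz)
    obtain ⟨y, hy, rfl⟩ := (hh₂.1.restrict hD₂U).mem_im.1 hd
    exact hH₂m y hy
  have hwH : cj H₁ w ≤ St := by
    rw [hSt, ← hwQ, ← cj_normalizer, hH₁]
    refine cj_mono (fun z hz => ?_) w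
    obtain ⟨d, hd, rfl⟩ := (mem_imG hd₁).1 hz
    obtain ⟨y, hy, rfl⟩ := (hh₁.1.restrict hD₁U).mem_im.1 hd
    refine mem_normalizer_of_cj_le ?_
    rintro _ ⟨z', hz', rfl⟩
    have hQa : im Q h₁ ≤ normalizerIn Y₃ V := im_le_iff.2 fun x hx => hh₁m x (hD₁U (hQD₁ hx))
    obtain ⟨q, hq, rfl⟩ := (mem_imG hQa).1 hz'
    obtain ⟨x, hx, rfl⟩ := (hh₁.1.restrict (hQD₁.trans hD₁U)).mem_im.1 hq
    show ue ι₃ (h₁ y) * ue ι₃ (h₁ x) * (ue ι₃ (h₁ y))⁻¹ ∈ _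
    rw [← ue_conj (hh₁m y (hD₁U hy)) (hh₁m x (hD₁U (hQD₁ hx))),
      ← hh₁.1.map_conj (hD₁U hy) (hD₁U (hQD₁ hx))]
    exact ue_mem_up hQa (mem_im_of_mem (conj_mem_of_normalizer ((hD₁.le hy).1).2 hx))
  have hcovG : ∀ x : G₃, ∃ r ∈ H₂, r⁻¹ * x ∈ W₃ := by
    intro x
    obtain ⟨b, ⟨⟨z, hz⟩, rfl⟩, w₀, hw₀, rfl⟩ := Subgroup.mem_sup_of_normal_right.1 (L₃.gen.ge (Subgroup.mem_top x))
    obtain ⟨t, ht, k, hk, hzk⟩ := c.mem_cov hY₃S hP₄Y₃ (hcov₄ hz.1)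
    have hkD : k ∈ D₂ := hPD₂ hk
    refine ⟨ue ι₃ (h₂ k), hH₂ ▸ ue_mem_up hd₂ (mem_im_of_mem hkD), ?_⟩
    have h2k := hd₂ (mem_im_of_mem hkD)
    rw [← mul_assoc, ← ue_apply hz, ← ue_inv h2k, ← ue_mul (Subgroup.inv_mem _ h2k) hz]
    refine W₃.mul_mem ((L₃.inf.ge (ue_mem_up inf_le_left ⟨Subgroup.mul_mem _ (Subgroup.inv_mem _ h2k) hz, ?_⟩)).2) hw₀
    have hs := c.kmap_shift hY₃S hTY₃ hh₂ (hD₂U hkD)
    rw [show (h₂ k)⁻¹ * z = (k⁻¹ * h₂ k)⁻¹ * (k⁻¹ * t * k) by rw [hzk]; group]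
    exact T.mul_mem (T.inv_mem hs) (by simpa using stronglyClosed_conj_mem hT (S.inv_mem (hY₃S (hP₄Y₃ hk))) ht)
  have hVW : imG ι₃ V ≤ W₃ := fun z hz => by
    obtain ⟨v₁, hv₁, rfl⟩ := (mem_imG L₃.qN).1 hz
    exact (L₃.inf.ge (ue_mem_up inf_le_left ⟨L₃.qN hv₁, hV.fn.1 hv₁⟩)).2
  have hVH₂ : imG ι₃ V ≤ H₂ := by
    rw [hH₂]
    refine Subgroup.map_mono (Subgroup.comap_mono ?_)
    rw [← hh₂i]
    exact im_mono ((hU₄P ▸ inf_le_left : U₄ ≤ P₄).trans hPD₂)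
  obtain ⟨R, hR, hH₂R⟩ := exists_sylIn_ge (L₃.syl.isPGroup.to_le (hH₂ ▸ Subgroup.map_le_range ι₃ _)) hH₂St
  obtain ⟨v₀, hv₀, hv₀R⟩ := hR.conj_le
    (isPGroup_cj (L₃.syl.isPGroup.to_le (hH₁ ▸ Subgroup.map_le_range ι₃ _)) w) hwH
  obtain ⟨r₀, hr₀, hv⟩ := hcovG v₀
  obtain ⟨v, hvd⟩ : ∃ v, v = r₀⁻¹ * v₀ := ⟨_, rfl⟩
  rw [← hvd] at hv
  have hvR : cj H₁ (v * w) ≤ R := by
    have h1 := cj_mono hv₀R r₀⁻¹
    rw [cj_cj, cj_cj, cj_eq_self (Subgroup.le_normalizer (Subgroup.inv_mem _ (hH₂R hr₀)))] at h1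
    rwa [hvd]
  have hvSt : v ∈ St := hvd ▸ St.mul_mem (St.inv_mem (hH₂St hr₀)) hv₀
  obtain ⟨x₀, -, hx₀⟩ := L₃.syl.conj_le hR.isPGroup le_top
  obtain ⟨b, hb, xe, hxe, hx₀e⟩ := Subgroup.mem_sup_of_normal_right.1 (L₃.gen.ge (Subgroup.mem_top x₀))
  have hxeR : cj R xe ≤ ι₃.range := by
    have h1 := cj_mono hx₀ b⁻¹
    rw [cj_cj, cj_eq_self (Subgroup.le_normalizer (Subgroup.inv_mem _ hb)), ← hx₀e, inv_mul_cancel_left] at h1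
    exact h1
  -- all that is needed from the two cases
  obtain ⟨Q₈, N₈, H₈, m₁, m₂, s, hs, hQ₈N, hN₈r, hN₈s, hH₈, hH₈m, hH₈Q, hm₁, hm₁N, hm₂, hm₂N, hs₈, hid, hI₁, hI₂⟩ :
      ∃ (Q₈ N₈ : Subgroup Ω) (H₈ m₁ m₂ : Ω → Ω) (s : G₃), s ∈ W₃ ∧ Q₈ ≤ V ∧ N₈ ≤ normalizerIn Y₃ V ∧
        SylIn p (imG ι₃ N₈) (Subgroup.normalizer (imG ι₃ Q₈ : Set G₃)) ∧
        c.KMap T Y₃ N₈ H₈ ∧ (∀ x ∈ N₈, H₈ x ∈ normalizerIn Y Q) ∧ im Q₈ H₈ = Q ∧
        c.KMap T Y₃ P m₁ ∧ (Q₈ ≤ im Q m₁ ∧ ∀ x ∈ P, m₁ x ∈ N₈) ∧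
        c.KMap T Y₃ P₄ m₂ ∧ (∀ x ∈ P₄, m₂ x ∈ N₈) ∧
        s ∈ Subgroup.normalizer (imG ι₃ Q₈ : Set G₃) ∧
        (∀ x ∈ P, ue ι₃ (m₂ (f x)) = s * ue ι₃ (m₁ x) * s⁻¹) ∧
        L.Ind P (H₈ ∘ m₁) ∧ L.Ind P₄ (H₈ ∘ m₂) := by
    have hQY₃ : Q ≤ normalizerIn Y₃ Q := le_normalizerIn (hQ.centric.1.trans hTY₃)
    by_cases hcase : U₃ = normalizerIn T Q
    · obtain ⟨heU, he₂⟩ := htop hcase
      have hD : D₁ = normalizerIn Y₃ Q := hD₁ ▸ inf_eq_left.2 fun y hy => ⟨hy.1, mem_normalizer_of_conj_mem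
        (S := S) (hU₃T.trans c.tS) fun z hz => by
          rw [hcase] at hz ⊢
          exact ⟨stronglyClosed_conj_mem hT (hY₃S hy.1) hz.1,
            Subgroup.mul_mem _ (Subgroup.mul_mem _ hy.2 hz.2) (Subgroup.inv_mem _ hy.2)⟩⟩
      have hD₂₁ : D₂ = D₁ := by rw [hD₂, hD₁, heU]
      -- `H₂` is a Sylow subgroup of the stabilizer
      have hsyl : SylIn p H₂ St := by
        obtain ⟨Z, hZ⟩ : ∃ Z, Z = R ⊓ W₃ := ⟨_, rfl⟩
        have hVR : imG ι₃ V ≤ R := hVH₂.trans hH₂R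
        have hZe : Z = imG ι₃ V := by
          refine (Subgroup.eq_of_le_of_card_ge (hZ ▸ le_inf hVR hVW) ?_).symm
          obtain ⟨Q₆, hQ₆⟩ : ∃ A, A = im Qb (act ι₃ xe) := ⟨_, rfl⟩
          have hxQ : cj (imG ι₃ Qb) xe ≤ ι₃.range :=
            (cj_mono ((Subgroup.map_mono (Subgroup.comap_mono hQbV)).trans hVR) xe).trans hxeR
          have hQ₆N : Q₆ ≤ normalizerIn Y₃ V := hQ₆ ▸ im_le_iff.2 fun _ _ => act_mem
          have hc₆ : E.IsConj Q Q₆ := by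
            have h2 := (c.kmap_E hY₃S hTY₃ hh₂).restrict (le_inf (hQD₂.trans hD₂U) hQ.centric.1)
            refine isConj_iff.2 ⟨act ι₃ xe ∘ h₂, h2.comp ((L₃.part xe hxe).restrict hQbV)
              fun z hz => hQb ▸ mem_im_of_mem hz, ?_⟩
            rw [h2.im_comp, ← hQb, hQ₆]
          have hcardN := hQ.fn.2 Q₆ hc₆
          obtain ⟨N₆, hN₆⟩ : ∃ A, A = normalizerIn T Q₆ ⊓ normalizerIn Y₃ V := ⟨_, rfl⟩
          have hle : cj Z xe ≤ imG ι₃ N₆ := by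
            intro z hz
            obtain ⟨t, ht, rfl⟩ := (mem_imG (inf_le_left : normalizerIn Y₃ V ⊓ T ≤ normalizerIn Y₃ V)).1
              (L₃.inf.le ⟨((cj_mono (hZ ▸ inf_le_left) xe).trans hxeR) hz,
                ((cj_mono (hZ ▸ inf_le_right) xe).trans (cj_of_normal W₃ xe).le) hz⟩)
            refine ue_mem_up (hN₆ ▸ inf_le_right) (hN₆ ▸ ⟨⟨ht.2, ?_⟩, ht.1⟩)
            refine mem_normalizer_of_conj_mem (S := S) ((isConj_le hc₆).2.trans c.tS) fun q hq' => ?_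
            have hzn : ue ι₃ t ∈ Subgroup.normalizer (imG ι₃ Q₆ : Set G₃) := by
              rw [hQ₆, L₃.toPre.imG_im hQbN hxQ, ← cj_normalizer]
              refine cj_mono ?_ xe hz
              rw [hZ]
              exact inf_le_left.trans (hR.le.trans hSt.le)
            have h1 := conj_mem_of_normalizer hzn (ue_mem_up hQ₆N hq')
            rw [← ue_conj ht.1 (hQ₆N hq')] at h1
            obtain ⟨q₁, hq₁, hq₁e⟩ := (mem_imG hQ₆N).1 h1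
            rwa [← ue_inj L₃.inj (hQ₆N hq₁) (Subgroup.mul_mem _ (Subgroup.mul_mem _ ht.1 (hQ₆N hq'))
              (Subgroup.inv_mem _ ht.1)) hq₁e]
          have hc1 : Nat.card Z ≤ Nat.card N₆ := by
            rw [← card_cj Z xe]
            refine (Subgroup.card_le_of_le hle).trans (le_of_eq ?_)
            rw [Subgroup.card_map_of_injective L₃.inj]
            exact Nat.card_congr (Subgroup.subgroupOfEquivOfLe (hN₆ ▸ inf_le_right)).toEquiv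
          have hc2 : Nat.card ↥(imG ι₃ V) = Nat.card V := by
            rw [Subgroup.card_map_of_injective L₃.inj]
            exact Nat.card_congr (Subgroup.subgroupOfEquivOfLe L₃.qN).toEquiv
          haveI : Finite ↥(normalizerIn T Q₆) := finite_of_le (inf_le_left.trans c.tS)
          have hc3 : Nat.card N₆ ≤ Nat.card ↥(normalizerIn T Q₆) :=
            Subgroup.card_le_of_le (hN₆ ▸ inf_le_left)
          rw [hc2, hcardV, hcase]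
          exact hc1.trans (hc3.trans hcardN)
        refine (le_antisymm hH₂R fun z hz => ?_) ▸ hR
        obtain ⟨r₁, hr₁, hz₁⟩ := hcovG z
        have h1 : r₁⁻¹ * z ∈ Z := hZ ▸ ⟨R.mul_mem (R.inv_mem (hH₂R hr₁)) hz, hz₁⟩
        rw [hZe] at h1
        simpa using H₂.mul_mem hr₁ (hVH₂ h1)
      obtain ⟨u, hu, huh, hhu, hui⟩ := c.kmap_exists_inv hY₃S hTY₃ (c.kmap_restrict hh₂ hD₂U)
      refine ⟨Qb, im D₂ h₂, u, h₁, h₂, w, hw, hQbV, hd₂, hSt ▸ hH₂ ▸ hsyl, hu, fun x hx => ?_, ?_,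
        c.kmap_restrict hh₁ hPU₃, ⟨by rw [hQb, he₂], fun x hx => ?_⟩, c.kmap_restrict hh₂ hP₄U₄,
        fun x hx => mem_im_of_mem (hPD₂ hx), ?_, hwP, ?_, ?_⟩
      · have h1 := (hhu x hx).2
        rw [hD₂₁, hD] at h1
        exact ⟨hY₃Y h1.1, h1.2⟩
      · rw [hQb]; exact im_inv (hh₂.1.restrict hD₂U) hQD₂ huh
      · rw [← he₂]; exact mem_im_of_mem (hD₂₁ ▸ hPD₁ hx)
      · refine mem_normalizer_iff_cj.2 ?_
        conv_rhs => rw [← hwQ, ← he₂, ← hQb]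
      · refine ⟨1, W.one_mem, fun x hx => ?_⟩
        rw [one_mul, inv_one, mul_one]
        show ue ι (u (h₁ x)) = _
        rw [← he₂, huh x (hD₂₁ ▸ hPD₁ hx)]
      · refine ⟨1, W.one_mem, fun x hx => ?_⟩
        rw [one_mul, inv_one, mul_one]
        show ue ι (u (h₂ x)) = _
        rw [huh x (hPD₂ hx)]
    · -- move both into a Sylow subgroup of a stabilizer
      have hU₃lt : U₃ < normalizerIn T Q := lt_of_le_of_ne hU₃N hcase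
      have hU₄lt : U₄ < normalizerIn T Q := lt_of_le_of_ne hU₄N fun h => by
        rw [h] at hcard₄
        exact hcase (Subgroup.eq_of_le_of_card_ge hU₃N hcard₄.le)
      have hQbR : imG ι₃ Qb ≤ R := ((Subgroup.map_mono (Subgroup.comap_mono hQbV)).trans hVH₂).trans hH₂R
      have hxQ : cj (imG ι₃ Qb) xe ≤ ι₃.range := (cj_mono hQbR xe).trans hxeR
      obtain ⟨Q₈, hQ₈⟩ : ∃ A, A = im Qb (act ι₃ xe) := ⟨_, rfl⟩
      have hQ₈V : Q₈ ≤ V := hQ₈ ▸ im_le_iff.2 fun z hz => L₃.toPre.act_Q xe (hQbV hz)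
      have hQ₈e : imG ι₃ Q₈ = cj (imG ι₃ Qb) xe := by rw [hQ₈, L₃.toPre.imG_im hQbN hxQ]
      obtain ⟨N₈, hN₈⟩ : ∃ A, A = normalizerIn Y₃ V ⊓ normalizerIn Y₃ Q₈ := ⟨_, rfl⟩
      have hN₈V : N₈ ≤ normalizerIn Y₃ V := hN₈ ▸ inf_le_left
      have hRx : cj R xe ≤ Subgroup.normalizer (imG ι₃ Q₈ : Set G₃) := by
        rw [hQ₈e, ← cj_normalizer]
        exact cj_mono (hSt ▸ hR.le) xe
      have hmemN₈ : ∀ z : Ω, z ∈ normalizerIn Y₃ V → ue ι₃ z ∈ cj R xe → z ∈ N₈ := fun z hz hzR => by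
        refine hN₈ ▸ ⟨hz, hz.1, mem_normalizer_of_conj_mem (S := S) ((hQ₈V.trans hV.fn.1).trans c.tS) fun q hq => ?_⟩
        have hqN := L₃.qN (hQ₈V hq)
        have h1 := conj_mem_of_normalizer (hRx hzR) (ue_mem_up (hQ₈V.trans L₃.qN) hq)
        rw [← ue_conj hz hqN] at h1
        obtain ⟨q₁, hq₁, hq₁e⟩ := (mem_imG (hQ₈V.trans L₃.qN)).1 h1
        rwa [← ue_inj L₃.inj (L₃.qN (hQ₈V hq₁)) (Subgroup.mul_mem _ (Subgroup.mul_mem _ hz hqN)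
          (Subgroup.inv_mem _ hz)) hq₁e]
      have hsyl₈ : SylIn p (imG ι₃ N₈) (Subgroup.normalizer (imG ι₃ Q₈ : Set G₃)) := by
        have h1 := hR.cj xe
        rw [hSt, cj_normalizer, ← hQ₈e] at h1
        refine (le_antisymm ?_ fun z hz => ?_ : cj R xe = imG ι₃ N₈) ▸ h1
        · intro z hz
          obtain ⟨⟨y, hy⟩, rfl⟩ := hxeR hz
          rw [← ue_apply hy] at hz ⊢
          exact ue_mem_up hN₈V (hmemN₈ y hy hz)
        · refine (h1.eq_of_le (L₃.syl.isPGroup.to_le (Subgroup.map_le_range ι₃ _)) (fun z hz => ?_) ?_).le hz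
          · obtain ⟨⟨y, hy⟩, rfl⟩ := hxeR hz
            rw [← ue_apply hy] at hz ⊢
            exact ue_mem_up hN₈V (hmemN₈ y hy hz)
          · intro z hz
            obtain ⟨y, hy, rfl⟩ := (mem_imG hN₈V).1 hz
            refine mem_normalizer_of_cj_le ?_
            rintro _ ⟨z', hz', rfl⟩
            obtain ⟨q, hq, rfl⟩ := (mem_imG (hQ₈V.trans L₃.qN)).1 hz'
            show ue ι₃ y * ue ι₃ q * (ue ι₃ y)⁻¹ ∈ _
            rw [← ue_conj (hN₈V hy) (L₃.qN (hQ₈V hq))]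
            exact ue_mem_up (hQ₈V.trans L₃.qN) (conj_mem_of_normalizer ((hN₈.le hy).2).2 hq)
      have hcQ₈ : E.IsConj Q₈ Q := by
        have h2 := (c.kmap_E hY₃S hTY₃ hh₂).restrict (le_inf (hQD₂.trans hD₂U) hQ.centric.1)
        refine isConj_symm (isConj_iff.2 ⟨act ι₃ xe ∘ h₂, h2.comp ((L₃.part xe hxe).restrict hQbV)
          fun z hz => hQb ▸ mem_im_of_mem hz, ?_⟩)
        rw [h2.im_comp, ← hQb, hQ₈]
      obtain ⟨H₈, hH₈, hH₈m, hH₈i⟩ := c.conn Y₃ Q Q₈ hY₃S hTY₃ hQ₃ hcQ₈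
      have hN₈Q : N₈ ≤ normalizerIn Y₃ Q₈ := hN₈ ▸ inf_le_right
      obtain ⟨x₁, hx₁⟩ : ∃ z, z = xe * (v * w) := ⟨_, rfl⟩
      have hx₁W : x₁ ∈ W₃ := hx₁ ▸ W₃.mul_mem hxe (W₃.mul_mem hv hw)
      have hr₁ : cj (imG ι₃ (im D₁ h₁)) x₁ ≤ cj R xe := by
        rw [hx₁, ← cj_cj, ← hH₁]; exact cj_mono hvR xe
      have hr₂ : cj (imG ι₃ (im D₂ h₂)) xe ≤ cj R xe := cj_mono (hH₂ ▸ hH₂R) xe
      have hV₁ : V ≤ im D₁ h₁ := hh₁i ▸ im_mono (hU₃P.trans hPD₁)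
      have hV₂ : V ≤ im D₂ h₂ := hh₂i ▸ im_mono ((hU₄P ▸ inf_le_left : U₄ ≤ P₄).trans hPD₂)
      have hk₁' := c.kmap_comp (c.kmap_restrict hh₁ hD₁U) (L₃.kmapW hV₁ hd₁ hx₁W (hr₁.trans hxeR))
        fun z hz => mem_im_of_mem hz
      have hk₂' := c.kmap_comp (c.kmap_restrict hh₂ hD₂U) (L₃.kmapW hV₂ hd₂ hxe (hr₂.trans hxeR))
        fun z hz => mem_im_of_mem hz
      have hin₁ : ∀ z ∈ D₁, act ι₃ x₁ (h₁ z) ∈ N₈ := fun z hz => hmemN₈ _ act_mem (by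
        rw [ue_act (L₃.toPre.act_spec hd₁ (hr₁.trans hxeR) (mem_im_of_mem hz))]
        exact hr₁ (conj_mem_cj (ue_mem_up hd₁ (mem_im_of_mem hz))))
      have hin₂ : ∀ z ∈ D₂, act ι₃ xe (h₂ z) ∈ N₈ := fun z hz => hmemN₈ _ act_mem (by
        rw [ue_act (L₃.toPre.act_spec hd₂ (hr₂.trans hxeR) (mem_im_of_mem hz))]
        exact hr₂ (conj_mem_cj (ue_mem_up hd₂ (mem_im_of_mem hz))))
      have hQ₁₈ : im Q (act ι₃ x₁ ∘ h₁) = Q₈ := by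
        have hQa : im Q h₁ ≤ im D₁ h₁ := im_mono hQD₁
        have hne : imG ι₃ (im Q (act ι₃ x₁ ∘ h₁)) = imG ι₃ Q₈ := by
          rw [(hh₁.1.restrict (hQD₁.trans hD₁U)).im_comp, L₃.toPre.imG_im (hQa.trans hd₁)
            ((cj_mono (Subgroup.map_mono (Subgroup.comap_mono hQa)) _).trans (hr₁.trans hxeR)), hx₁, ← cj_cj,
            ← cj_cj, hwQ, cj_eq_self (show v ∈ Subgroup.normalizer (imG ι₃ Qb : Set G₃) from hSt ▸ hvSt), hQ₈e]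
        have hl : im Q (act ι₃ x₁ ∘ h₁) ≤ normalizerIn Y₃ V := im_le_iff.2 fun _ _ => act_mem
        have hinj : ∀ A B : Subgroup Ω, A ≤ normalizerIn Y₃ V → B ≤ normalizerIn Y₃ V →
            imG ι₃ A ≤ imG ι₃ B → A ≤ B := fun A B hA hB h z hz => by
          obtain ⟨z', hz', he⟩ := (mem_imG hB).1 (h (ue_mem_up hA hz))
          rwa [← ue_inj L₃.inj (hB hz') (hA hz) he]
        exact le_antisymm (hinj _ _ hl (hQ₈V.trans L₃.qN) hne.le) (hinj _ _ (hQ₈V.trans L₃.qN) hl hne.ge)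
      have hQ₂₈ : im Q (act ι₃ xe ∘ h₂) = Q₈ := by
        rw [(hh₂.1.restrict (hQD₂.trans hD₂U)).im_comp, ← hQb, ← hQ₈]
      -- the maps into `N_Y(Q)`, with bigger intersections with `T`
      have hbig : ∀ (U D : Subgroup Ω), U < normalizerIn T Q → Q ≤ U → Nat.card U = Nat.card U₃ →
          D = normalizerIn Y₃ Q ⊓ normalizerIn Y₃ U → ∀ m : Ω → Ω, c.KMap T Y₃ D m → (∀ z ∈ D, m z ∈ N₈) →
          im Q m = Q₈ → L.Ind D (H₈ ∘ m) := by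
        intro U D hU hQU hcU hD m hm' hmN hmQ
        have hDQ : D ≤ normalizerIn Y₃ Q := hD ▸ inf_le_left
        have hgrow : U < normalizerIn T Q ⊓ Subgroup.normalizer (U : Set Ω) :=
          lt_inf_normalizer c.pS hU (inf_le_left.trans c.tS)
        have hle : normalizerIn T Q ⊓ Subgroup.normalizer (U : Set Ω) ≤ D ⊓ T := fun z hz =>
          ⟨hD ▸ ⟨⟨hTY₃ hz.1.1, hz.1.2⟩, hTY₃ hz.1.1, hz.2⟩, hz.1.1⟩
        haveI := finite_of_le (inf_le_right.trans c.tS : D ⊓ T ≤ S)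
        have h1 := card_lt_of_lt hgrow (inf_le_left.trans (inf_le_left.trans c.tS))
        have h2 := Subgroup.card_le_of_le hle
        have h3 : Nat.card ↥(D ⊓ T) ≤ Nat.card T := Subgroup.card_le_of_le inf_le_right
        have hc' := c.kmap_comp hm' hH₈ fun z hz => hN₈Q (hmN z hz)
        refine ihm (Nat.card T - Nat.card ↥(D ⊓ T)) (by omega) D (H₈ ∘ m) rfl ?_
          (fun z hz => ⟨hY₃Y (hDQ hz).1, (hDQ hz).2⟩) (c.kmap_mono le_rfl hY₃Y hY hTY hTY₃ hc') ?_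
        · exact lt_of_le_of_lt hQU (hgrow.trans_le hle)
        · rw [(hm'.1.restrict (le_trans (hQU.trans hgrow.le) (hle.trans inf_le_left))).im_comp, hmQ, hH₈i]
      obtain ⟨w₁, hw₁, hw₁e⟩ := hbig U₃ D₁ hU₃lt hQU₃ rfl hD₁ _ hk₁' hin₁ hQ₁₈
      obtain ⟨w₂, hw₂, hw₂e⟩ := hbig U₄ D₂ hU₄lt hQU₄ hcard₄ hD₂ _ hk₂' hin₂ hQ₂₈
      refine ⟨Q₈, N₈, H₈, _, _, xe * v⁻¹ * xe⁻¹, ?_, hQ₈V, hN₈V, hsyl₈, c.kmap_restrict hH₈ hN₈Q,
        fun z hz => ⟨hY₃Y (hH₈m z (hN₈Q hz)).1, (hH₈m z (hN₈Q hz)).2⟩, hH₈i,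
        c.kmap_restrict hk₁' hPD₁, ⟨hQ₁₈.ge, fun z hz => hin₁ z (hPD₁ hz)⟩, c.kmap_restrict hk₂' hPD₂,
        fun z hz => hin₂ z (hPD₂ hz), ?_, fun z hz => ?_, ⟨w₁, hw₁, fun z hz => hw₁e z (hPD₁ hz)⟩,
        ⟨w₂, hw₂, fun z hz => hw₂e z (hPD₂ hz)⟩⟩
      · exact L₃.normal.conj_mem _ (W₃.inv_mem hv) xe
      · rw [hQ₈e, ← cj_normalizer]
        exact conj_mem_cj (hSt ▸ St.inv_mem hvSt)
      · show ue ι₃ (act ι₃ xe (h₂ (f z))) = _ * ue ι₃ (act ι₃ x₁ (h₁ z)) * _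
        rw [ue_act (L₃.toPre.act_spec hd₂ (hr₂.trans hxeR) (mem_im_of_mem (hPD₂ (hP₄ ▸ mem_im_of_mem hz)))),
          ue_act (L₃.toPre.act_spec hd₁ (hr₁.trans hxeR) (mem_im_of_mem (hPD₁ hz))), hwP z hz, hx₁]
        group
  -- the stabilizer as a local group over `N₈`
  obtain ⟨hQ₈le, hm₁N⟩ := hm₁N
  obtain ⟨St₈, hSt₈⟩ : ∃ A, A = Subgroup.normalizer (imG ι₃ Q₈ : Set G₃) := ⟨_, rfl⟩
  rw [← hSt₈] at hN₈s hs₈
  obtain ⟨ι₈, hι₈⟩ : ∃ j : ↥N₈ →* St₈, j = (ι₃.comp (Subgroup.inclusion hN₈r)).codRestrict St₈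
      (fun x => hN₈s.le ⟨Subgroup.inclusion hN₈r x, x.2, rfl⟩) := ⟨_, rfl⟩
  have hco : ∀ z ∈ N₈, ((ue ι₈ z : St₈) : G₃) = ue ι₃ z := fun z hz => by
    rw [ue_apply hz, ue_apply (hN₈r hz), hι₈]; rfl
  have hinj : Function.Injective ι₈ := fun a b h => by
    have h1 := congrArg Subtype.val h
    rw [← ue_coe a, ← ue_coe b, hco _ a.2, hco _ b.2] at h1
    exact Subtype.ext (ue_inj L₃.inj (hN₈r a.2) (hN₈r b.2) h1)
  have hQ₈N₈ : Q₈ ≤ N₈ := hQ₈le.trans (im_le_iff.2 fun x hx => hm₁N x (hQP hx))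
  have hrange : imG ι₃ N₈ = ι₈.range.map St₈.subtype := by
    ext z
    rw [mem_imG hN₈r]
    constructor
    · rintro ⟨a, ha, rfl⟩
      exact ⟨ue ι₈ a, ue_mem_range ha, hco a ha⟩
    · rintro ⟨_, ⟨a, rfl⟩, rfl⟩
      exact ⟨a, a.2, by rw [← hco _ a.2, ue_coe]; rfl⟩
  have hact : ∀ (g : St₈) (z : Ω), z ∈ N₈ → g * ue ι₈ z * g⁻¹ ∈ ι₈.range →
      act ι₈ g z = act ι₃ (g : G₃) z := fun g z hz hg => by
    refine (act_eq L₃.inj (hN₈r act_mem) ?_).symm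
    rw [← hco _ act_mem, ue_act hg, Subgroup.coe_mul, Subgroup.coe_mul, hco z hz, Subgroup.coe_inv]
  have hQ₈q : (imG ι₈ Q₈).Normal := ⟨fun z hz g => by
    obtain ⟨a, ha, rfl⟩ := (mem_imG hQ₈N₈).1 hz
    obtain ⟨b, hb, hbe⟩ := (mem_imG (hQ₈N.trans L₃.qN)).1
      (conj_mem_of_normalizer (hSt₈.le g.2) (ue_mem_up (hQ₈N.trans L₃.qN) ha))
    refine (mem_imG hQ₈N₈).2 ⟨b, hb, Subtype.ext ?_⟩
    rw [hco b (hQ₈N₈ hb), hbe, Subgroup.coe_mul, Subgroup.coe_mul, hco a (hQ₈N₈ ha), Subgroup.coe_inv]⟩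
  have hQ₈c : E.IsCentric Q₈ := by
    obtain ⟨k, hk, -, -, hki⟩ := ((c.kmap_E hY₃S hTY₃ hH₈).restrict
      (le_inf hQ₈N₈ (hQ₈N.trans hV.fn.1))).exists_inv
    rw [hH₈Q] at hk hki
    exact hki ▸ c.centric_im hQ.centric (hk.of_sub c.inv.1)
  have hgen₈ : ι₈.range ⊔ W₃.subgroupOf St₈ = ⊤ := by
    have hcl := hN₈s.le
    refine eq_top_iff.2 fun g _ => ?_
    -- `G₃ = H W₃` for the image of `m₂`
    obtain ⟨bb, ⟨⟨z, hz⟩, rfl⟩, w₀, hw₀, hge⟩ :=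
      Subgroup.mem_sup_of_normal_right.1 (L₃.gen.ge (Subgroup.mem_top (g : G₃)))
    obtain ⟨t, ht, k, hk, hzk⟩ := c.mem_cov hY₃S hP₄Y₃ (hcov₄ hz.1)
    have hmk := hm₂N k hk
    have hw' : (ue ι₃ (m₂ k))⁻¹ * (g : G₃) ∈ W₃ := by
      rw [← hge, ← mul_assoc, ← ue_apply hz, ← ue_inv (hN₈r hmk),
        ← ue_mul (Subgroup.inv_mem _ (hN₈r hmk)) hz]
      refine W₃.mul_mem ((L₃.inf.ge (ue_mem_up inf_le_left
        ⟨Subgroup.mul_mem _ (Subgroup.inv_mem _ (hN₈r hmk)) hz, ?_⟩)).2) hw₀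
      have hs := c.kmap_shift hY₃S hTY₃ hm₂ hk
      rw [show (m₂ k)⁻¹ * z = (k⁻¹ * m₂ k)⁻¹ * (k⁻¹ * t * k) by rw [hzk]; group]
      exact T.mul_mem (T.inv_mem hs) (by simpa using stronglyClosed_conj_mem hT (S.inv_mem (hY₃S (hP₄Y₃ hk))) ht)
    rw [show g = ue ι₈ (m₂ k) * ((ue ι₈ (m₂ k))⁻¹ * g) by group]
    refine Subgroup.mul_mem_sup (ue_mem_range hmk) (show (((ue ι₈ (m₂ k))⁻¹ * g : St₈) : G₃) ∈ W₃ from ?_)
    rw [Subgroup.coe_mul, Subgroup.coe_inv, hco _ hmk]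
    exact hw'
  have L₈ : c.Pre Q₈ ι₈ (W₃.subgroupOf St₈) := by
    refine ⟨hN₈r.trans (inf_le_left.trans hY₃S), hQ₈N₈, ?_, hQ₈c, inferInstance, hinj,
      Subgroup.Normal.subgroupOf L₃.normal St₈, hQ₈q, ?_, hgen₈, ?_, fun A hA g hg => ?_, fun g hg => ?_⟩
    · intro z hz
      refine mem_normalizer_of_conj_mem (S := S) ((hQ₈N.trans hV.fn.1).trans c.tS) fun q hq => ?_
      have h1 := hQ₈q.conj_mem _ (ue_mem_up hQ₈N₈ hq) (ue ι₈ z)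
      rw [← ue_conj hz (hQ₈N₈ hq)] at h1
      obtain ⟨q₁, hq₁, he⟩ := (mem_imG hQ₈N₈).1 h1
      rwa [← ue_inj hinj (hQ₈N₈ hq₁) (N₈.mul_mem (N₈.mul_mem hz (hQ₈N₈ hq)) (N₈.inv_mem hz)) he]
    · refine ⟨le_top, ?_, ?_⟩
      · exact ((c.pS.to_le (hN₈r.trans (inf_le_left.trans hY₃S)) : IsPGroup p ↥N₈)).of_surjective
          ι₈.rangeRestrict ι₈.rangeRestrict_surjective
      · have h1 := hN₈s.not_dvd
        rw [hrange] at h1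
        conv at h1 => arg 1; arg 2; arg 2; rw [← St₈.range_subtype, MonoidHom.range_eq_map]
        rwa [Subgroup.relIndex_map_map_of_injective _ _ St₈.subtype_injective] at h1
    · refine le_antisymm ?_ ?_
      · rintro _ ⟨⟨a, rfl⟩, haW⟩
        refine ⟨a, ⟨a.2, ?_⟩, rfl⟩
        have h1 : ue ι₃ (a : Ω) ∈ W₃ := by rw [← hco _ a.2, ue_coe]; exact haW
        obtain ⟨t, ht, hte⟩ := (mem_imG (inf_le_left : normalizerIn Y₃ V ⊓ T ≤ normalizerIn Y₃ V)).1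
          (L₃.inf.le ⟨ue_mem_range (hN₈r a.2), h1⟩)
        show (a : Ω) ∈ T
        rw [← ue_inj L₃.inj ht.1 (hN₈r a.2) hte]
        exact ht.2
      · rintro _ ⟨a, ha, rfl⟩
        refine ⟨⟨a, rfl⟩, ?_⟩
        show ((ι₈ a : St₈) : G₃) ∈ W₃
        rw [← ue_coe, hco _ a.2]
        exact (L₃.inf.ge (ue_mem_up inf_le_left ⟨hN₈r a.2, ha.2⟩)).2
    · have hcjA : cj (imG ι₃ A) (g : G₃) ≤ ι₃.range := by
        rintro _ ⟨z, hz, rfl⟩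
        obtain ⟨a, ha, rfl⟩ := (mem_imG (hA.trans hN₈r)).1 hz
        obtain ⟨b, hb⟩ := hg (conj_mem_cj (g := g) (ue_mem_up hA ha))
        have h1 := congrArg Subtype.val hb
        rw [← ue_coe, hco _ b.2, Subgroup.coe_mul, Subgroup.coe_mul, hco a (hA ha), Subgroup.coe_inv] at h1
        show (g : G₃) * ue ι₃ a * (g : G₃)⁻¹ ∈ ι₃.range
        rw [← h1]
        exact ue_mem_range (hN₈r b.2)
      exact (L₃.mapF A (hA.trans hN₈r) g hcjA).congr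
        fun a ha => (hact g a (hA ha) (hg (conj_mem_cj (ue_mem_up hA ha)))).symm
    · exact ((L₃.part _ hg).restrict hQ₈N).congr
        fun a ha => (hact g a (hQ₈N₈ ha) (Subgroup.map_le_range ι₈ _
          (hQ₈q.conj_mem _ (ue_mem_up hQ₈N₈ ha) g))).symm
  -- compare along a chain
  have hHm : ∀ z ∈ N₈, H₈ z ∈ normalizerIn Y Q := hH₈m
  have hN₈Y : N₈ ≤ Y₃ := hN₈r.trans inf_le_left
  let Φ : Subgroup Ω → (Ω → Ω) → Prop := fun A g =>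
    ∃ w ∈ W, ∀ z ∈ A, g z ∈ N₈ ∧ ue ι (H₈ (g z)) = w * ue ι (H₈ z) * w⁻¹
  have hΦ : c.Closed Y₃ N₈ Q₈ Φ := by
    refine ⟨?_, ?_, fun _ hA => ⟨1, W.one_mem, fun z hz => ⟨hA hz, by simp⟩⟩, ?_, ?_, ?_, ?_, ?_⟩
    · rintro A g g' ⟨w, hw, h⟩ he
      exact ⟨w, hw, fun z hz => he z hz ▸ h z hz⟩
    · rintro A B g ⟨w, hw, h⟩ - hBA -
      exact ⟨w, hw, fun z hz => h z (hBA hz)⟩
    · rintro A B g g' ⟨w, hw, h⟩ ⟨w', hw', h'⟩ - - - hm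
      refine ⟨w' * w, W.mul_mem hw' hw, fun z hz => ⟨(h' _ (hm z hz)).1, ?_⟩⟩
      show ue ι (H₈ (g' (g z))) = _
      rw [(h' _ (hm z hz)).2, (h z hz).2]
      group
    · rintro A g g' ⟨w, hw, h⟩ - hA hg hg' hg'm
      refine ⟨w⁻¹, W.inv_mem hw, fun z hz => ⟨hA (hg'm z hz), ?_⟩⟩
      haveI := finite_of_le (hA.trans L₈.nS)
      have hsurj : g (g' z) = z := by
        obtain ⟨y, hy⟩ := Finite.surjective_of_injective (f := fun y : A => (⟨g y, hg y y.2⟩ : A))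
          (fun a b hab => Subtype.ext (by
            rw [← hg' a a.2, ← hg' b b.2]
            exact congrArg g' (congrArg Subtype.val hab))) ⟨z, hz⟩
        have hy' : g y = z := congrArg Subtype.val hy
        rw [← hy', hg' y y.2]
      have h1 := (h _ (hg'm z hz)).2
      rw [hsurj] at h1
      rw [h1]
      group
    · intro A α hQA hA hα hαQ
      obtain ⟨w, hw, hwe⟩ := L.ind_hk (c.kmap_mono le_rfl hY₃Y hY hTY hTY₃ (c.kmap_restrict hH₈ hA))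
        (fun z hz => hHm z (hA hz)) hQA (hQ₈N.trans hV.fn.1) hH₈Q
        ⟨hα.1.trans hY₃Y, hα.2⟩ hαQ
      exact ⟨w, hw, fun z hz => ⟨hA (av_mem α hz), hwe z hz⟩⟩
    · rintro A g y hy - hA ⟨w, hw, h⟩ hgN
      refine ⟨ue ι (H₈ y) * w * (ue ι (H₈ y))⁻¹, L.normal.conj_mem _ hw _, fun z hz => ?_⟩
      obtain ⟨a, ha, rfl⟩ := (map_conjBy (F := F) (hA.trans L₈.nS) (L₈.nS hy)).mem_im.1 hz
      have h1 : y⁻¹ * (y * a * y⁻¹) * y = a := by group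
      refine ⟨?_, ?_⟩
      · show y * g (y⁻¹ * (y * a * y⁻¹) * y) * y⁻¹ ∈ N₈
        rw [h1]
        exact N₈.mul_mem (N₈.mul_mem hy (hgN a ha)) (N₈.inv_mem hy)
      · show ue ι (H₈ (y * g (y⁻¹ * (y * a * y⁻¹) * y) * y⁻¹)) = _
        rw [h1, hH₈.1.map_conj hy (hgN a ha), hH₈.1.map_conj hy (hA ha), ue_conj (hHm y hy) (hHm _ (hgN a ha)),
          ue_conj (hHm y hy) (hHm a (hA ha)), (h a ha).2]
        group
    · intro A t _ hA ht htT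
      have hHt : H₈ t ∈ T := stronglyClosed_map hT hH₈.1 ht htT
      refine ⟨ue ι (H₈ t), (L.inf.ge (ue_mem_up inf_le_left ⟨hHm t ht, hHt⟩)).2, fun z hz => ?_⟩
      refine ⟨N₈.mul_mem (N₈.mul_mem ht (hA hz)) (N₈.inv_mem ht), ?_⟩
      rw [hH₈.1.map_conj ht (hA hz), ue_conj (hHm t ht) (hHm z (hA hz))]
  obtain ⟨A, hA⟩ : ∃ A, A = im P m₁ := ⟨_, rfl⟩
  have hAN : A ≤ N₈ := hA ▸ im_le_iff.2 hm₁N
  have hQA : Q₈ ≤ A := hA ▸ hQ₈le.trans (im_mono hQP)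
  obtain ⟨s', hs'⟩ : ∃ z : St₈, z = ⟨s, hs₈⟩ := ⟨_, rfl⟩
  have hs'r : ∀ x ∈ P, s' * ue ι₈ (m₁ x) * s'⁻¹ = ue ι₈ (m₂ (f x)) := fun x hx => Subtype.ext (by
    rw [Subgroup.coe_mul, Subgroup.coe_mul, hco _ (hm₁N x hx), Subgroup.coe_inv, hs',
      hco _ (hm₂N _ (hP₄ ▸ mem_im_of_mem hx)), hid x hx])
  have hs'cj : cj (imG ι₈ A) s' ≤ ι₈.range := by
    rintro _ ⟨z, hz, rfl⟩
    obtain ⟨a, ha, rfl⟩ := (mem_imG hAN).1 hz
    obtain ⟨x, hx, rfl⟩ := hm₁.1.mem_im.1 (hA ▸ ha)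
    show s' * ue ι₈ (m₁ x) * s'⁻¹ ∈ _
    rw [hs'r x hx]
    exact ue_mem_range (hm₂N _ (hP₄ ▸ mem_im_of_mem hx))
  obtain ⟨ws, hws, hwse⟩ := L₈.chainW hΦ hN₈Y hQA hAN (hs' ▸ hs) hs'cj
  obtain ⟨w₁, hw₁, hw₁e⟩ := hI₁
  obtain ⟨w₂, hw₂, hw₂e⟩ := hI₂
  refine ⟨w₂⁻¹ * ws * w₁, W.mul_mem (W.mul_mem (W.inv_mem hw₂) hws) hw₁, fun x hx => ?_⟩
  have hfx : f x ∈ P₄ := hP₄ ▸ mem_im_of_mem hx
  have h1 := (hwse _ (hA ▸ mem_im_of_mem hx)).2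
  rw [act_eq hinj (hm₂N _ hfx) (hs'r x hx).symm] at h1
  have h2 := hw₂e _ hfx
  simp only [Function.comp_apply] at h2
  rw [h1, show ue ι (H₈ (m₁ x)) = _ from hw₁e x hx] at h2
  calc ue ι (f x) = w₂⁻¹ * (w₂ * ue ι (f x) * w₂⁻¹) * w₂ := by group
    _ = _ := by rw [← h2]; group

/-- **Uniqueness**: generated maps fixing a good subgroup are induced by the normal subgroup. -/
theorem Ctx.str (c : Ctx F E p) : ∀ (Y Q : Subgroup Ω), c.Good Y Q →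
    ∀ {G : Type u} [Group G] (ι : ↥(normalizerIn Y Q) →* G) (W : Subgroup G) (L : c.Loc ι W)
      (P : Subgroup Ω) (f : Ω → Ω), Q ≤ P → P ≤ normalizerIn Y Q → c.KMap T Y P f → im Q f = Q →
      L.Ind P f := by
  haveI := c.finT
  suffices H : ∀ n, ∀ (Y Q : Subgroup Ω), Nat.card T - Nat.card Q = n → c.Good Y Q →
      ∀ {G : Type u} [Group G] (ι : ↥(normalizerIn Y Q) →* G) (W : Subgroup G) (L : c.Loc ι W)
        (P : Subgroup Ω) (f : Ω → Ω), Q ≤ P → P ≤ normalizerIn Y Q → c.KMap T Y P f → im Q f = Q → L.Ind P f from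
    fun Y Q hQ G _ ι W L => H _ Y Q rfl hQ ι W L
  intro n
  induction n using Nat.strong_induction_on with
  | _ n ihn =>
  intro Y Q hn hQ G _ ι W L P f hQP hPN hf hfQ
  have hY := L.yS
  have hTY := L.tY
  have hT := c.tC
  have hQT := hQ.centric.1
  haveI := finite_of_le hY
  classical
  have hext := Ctx.str_ext (c := c) (n := n) (fun Y Q h hQ G _ ι W L => ihn _ h Y Q rfl hQ ι W L) Y Q hn hQ ι W L
  -- a map of the normalizers for every conjugate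
  have hHex : ∀ Q' : Subgroup Ω, ∃ h : Ω → Ω, E.IsConj Q' Q → c.KMap T Y (normalizerIn Y Q') h ∧
      (∀ x ∈ normalizerIn Y Q', h x ∈ normalizerIn Y Q) ∧ im Q' h = Q ∧ (Q' = Q → h = id) := by
    intro Q'
    by_cases h : Q' = Q
    · subst h
      exact ⟨id, fun _ => ⟨c.kmap_id hY hTY inf_le_left, fun x hx => hx, im_id, fun _ => rfl⟩⟩
    by_cases hc : E.IsConj Q' Q
    · obtain ⟨k, hk, hkm, hki⟩ := c.conn Y Q Q' hY hTY hQ hc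
      exact ⟨k, fun _ => ⟨hk, hkm, hki, fun h' => absurd h' h⟩⟩
    · exact ⟨id, fun h' => absurd h' hc⟩
  choose H hH using hHex
  let J : Subgroup Ω → (Ω → Ω) → Prop := fun A g => c.KMap T Y A g ∧ ∀ Q' : Subgroup Ω, Q' ≤ A → E.IsConj Q' Q →
    ∃ w ∈ W, ∀ x ∈ A ⊓ normalizerIn Y Q', ue ι (H (im Q' g) (g x)) = w * ue ι (H Q' x) * w⁻¹
  have hclass : ∀ {A : Subgroup Ω} {g : Ω → Ω} {Q' : Subgroup Ω}, c.KMap T Y A g → Q' ≤ A → E.IsConj Q' Q →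
      E.IsConj (im Q' g) Q := fun hg hle hc => isConj_trans (isConj_symm (isConj_iff.2
        ⟨_, (c.kmap_E hY hTY hg).restrict (le_inf hle (isConj_le hc).1), rfl⟩)) hc
  have hmem : ∀ {A : Subgroup Ω} {g : Ω → Ω} {Q' : Subgroup Ω}, c.KMap T Y A g → Q' ≤ A →
      ∀ x ∈ A ⊓ normalizerIn Y Q', g x ∈ normalizerIn Y (im Q' g) := fun hg hle x hx =>
    ⟨c.kmap_mem hY hTY hg hx.1, (hg.1.mem_normalizer hle hx.1 hx.2.2).2⟩
  -- maps between the normalizers with a bigger intersection with `T` are induced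
  have hbig : ∀ (D Q' Q'' : Subgroup Ω) (g : Ω → Ω), E.IsConj Q' Q → E.IsConj Q'' Q → D ≤ normalizerIn Y Q' →
      Q' < D ⊓ T → c.KMap T Y D g → im Q' g = Q'' → (∀ x ∈ D, g x ∈ normalizerIn Y Q'') →
      ∃ w ∈ W, ∀ x ∈ D, ue ι (H Q'' (g x)) = w * ue ι (H Q' x) * w⁻¹ := by
    intro D Q' Q'' g hc hc'' hD hlt hg hgi hgm
    obtain ⟨hk, hkm, hki, -⟩ := hH Q' hc
    obtain ⟨hk'', -, hki'', -⟩ := hH Q'' hc''
    obtain ⟨u, hu, huk, hku, -⟩ := c.kmap_exists_inv hY hTY (c.kmap_restrict hk hD)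
    have hQD : Q' ≤ D := hlt.le.trans inf_le_left
    have hcomp := c.kmap_comp (c.kmap_comp hu hg fun z hz => (hku z hz).2) hk''
      fun z hz => hgm _ (hku z hz).2
    have hQu : im Q u = Q' := by rw [← hki]; exact im_inv (hk.1.restrict hD) hQD huk
    have hQi : Q ≤ im D (H Q') := hki ▸ im_mono hQD
    suffices h : Q < im D (H Q') ⊓ T ∧ im Q (H Q'' ∘ g ∘ u) = Q by
      obtain ⟨w, hw, hwe⟩ := hext (im D (H Q')) (H Q'' ∘ g ∘ u) h.1 (im_le_iff.2 fun x hx => hkm x (hD hx)) hcomp h.2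
      refine ⟨w, hw, fun x hx => ?_⟩
      have := hwe _ (mem_im_of_mem hx)
      simp only [Function.comp_apply, huk x hx] at this
      exact this
    constructor
    · have hE := (c.kmap_E hY hTY hk).restrict (inf_le_inf_right T hD)
      rw [c.im_inf (hk.1.restrict hD)]
      refine lt_of_le_of_ne (hki ▸ im_mono hlt.le) fun he => ?_
      have h1 : Nat.card ↥(im (D ⊓ T) (H Q')) = Nat.card ↥(D ⊓ T) := hE.card_im
      rw [← he, ← isConj_card hc] at h1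
      exact (card_lt_of_lt hlt (inf_le_right.trans c.tS)).ne h1
    · show im Q ((H Q'' ∘ g) ∘ u) = Q
      rw [(hu.1.restrict hQi).im_comp, hQu, (hg.1.restrict hQD).im_comp, hgi, hki'']
  have key : ∀ (A : Subgroup Ω) (g : Ω → Ω), c.KMap T Y A g → J A g := by
    intro A g hg
    refine (c.kmap_ind (C := J) hY hTY ?_ ?_ ?_ ?_ ?_ ?_ hg).2
    · rintro A g g' ⟨hg, h⟩ he
      refine ⟨c.kmap_congr hg he, fun Q' hle hc => ?_⟩
      obtain ⟨w, hw, hwe⟩ := h Q' hle hc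
      refine ⟨w, hw, fun x hx => ?_⟩
      rw [← he x hx.1, ← im_congr fun z hz => he z (hle hz)]
      exact hwe x hx
    · rintro A B g - - ⟨hg, h⟩ hB
      refine ⟨c.kmap_restrict hg hB, fun Q' hle hc => ?_⟩
      obtain ⟨w, hw, hwe⟩ := h Q' (hle.trans hB) hc
      exact ⟨w, hw, fun x hx => hwe x ⟨hB hx.1, hx.2⟩⟩
    · rintro A B g g' - - - - ⟨hg, h⟩ ⟨hg', h'⟩ hm
      refine ⟨c.kmap_comp hg hg' hm, fun Q' hle hc => ?_⟩
      obtain ⟨w, hw, hwe⟩ := h Q' hle hc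
      have hle' : im Q' g ≤ B := im_le_iff.2 fun z hz => hm z (hle hz)
      obtain ⟨w', hw', hwe'⟩ := h' _ hle' (hclass hg hle hc)
      refine ⟨w' * w, W.mul_mem hw' hw, fun x hx => ?_⟩
      rw [(hg.1.restrict hle).im_comp]
      show ue ι (H (im (im Q' g) g') (g' (g x))) = _
      rw [hwe' _ ⟨hm x hx.1, hmem hg hle x hx⟩, hwe x hx]
      group
    · rintro A g g' - - hgY ⟨hg, h⟩ hg'
      have hinv := c.kmap_inv hg hgY hg'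
      refine ⟨hinv, fun Q' hle hc => ?_⟩
      have hle' : im Q' g' ≤ A := im_le_iff.2 fun z hz => by
        obtain ⟨x, hx, rfl⟩ := hg.1.mem_im.1 (hle hz)
        rw [hg' x hx]
        exact hx
      obtain ⟨w, hw, hwe⟩ := h _ hle' (hclass hinv hle hc)
      have hback : im (im Q' g') g = Q' := by
        rw [← (hinv.1.restrict hle).im_comp, im_congr (f := g ∘ g') (g := id) fun z hz => ?_, im_id]
        obtain ⟨x, hx, rfl⟩ := hg.1.mem_im.1 (hle hz)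
        show g (g' (g x)) = g x
        rw [hg' x hx]
      refine ⟨w⁻¹, W.inv_mem hw, fun y hy => ?_⟩
      obtain ⟨x, hx, rfl⟩ := hg.1.mem_im.1 hy.1
      have h1 := hmem hinv hle (g x) hy
      rw [hg' x hx] at h1 ⊢
      have h2 := hwe x ⟨hx, h1⟩
      rw [hback] at h2
      rw [h2]
      group
    · intro B t hB ht
      have hc₀ := c.kmap_conjBy hY hTY hB ht
      refine ⟨hc₀, fun Q' hle hc => ?_⟩
      have hc'' := hclass hc₀ hle hc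
      have hQ'T := (isConj_le hc).1
      rcases eq_or_lt_of_le hQT with heq | hlt
      · have e1 : Q' = Q := by
          rw [heq]
          exact Subgroup.eq_of_le_of_card_ge hQ'T (by rw [isConj_card hc, heq])
        have e2 : im Q' (fun x => t * x * t⁻¹) = Q := by
          rw [heq]
          exact Subgroup.eq_of_le_of_card_ge (isConj_le hc'').1 (by rw [isConj_card hc'', heq])
        have htn : t ∈ normalizerIn Y Q := ⟨hTY ht, Subgroup.le_normalizer (heq.ge ht)⟩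
        refine ⟨ue ι t, (L.inf.ge (ue_mem_up inf_le_left ⟨htn, ht⟩)).2, fun x hx => ?_⟩
        rw [e2, e1, (hH Q (isConj_refl hQT)).2.2.2 rfl, id, id,
          ue_conj htn (e1 ▸ hx.2 : x ∈ normalizerIn Y Q)]
      · have hlt' : Q' < T := lt_of_le_of_ne hQ'T fun h => hlt.ne
          (Subgroup.eq_of_le_of_card_ge hQT (by rw [← h, isConj_card hc]))
        have hgrow : Q' < normalizerIn Y Q' ⊓ T := (lt_normalizerIn c.pT hlt').trans_le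
          fun z hz => ⟨⟨hTY hz.1, hz.2⟩, hz.1⟩
        obtain ⟨w, hw, hwe⟩ := hbig (normalizerIn Y Q') Q' _ _ hc hc'' le_rfl hgrow
          (c.kmap_conjBy hY hTY inf_le_left ht) rfl fun x hx =>
            hmem (c.kmap_conjBy hY hTY inf_le_left ht) (le_normalizerIn (hQ'T.trans hTY)) x ⟨hx, hx⟩
        exact ⟨w, hw, fun x hx => hwe x hx.2⟩
    · intro B α hα
      have hα' := c.kmap_hk (A := T) hY hα
      refine ⟨hα', fun Q' hle hc => ?_⟩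
      have hc'' := hclass hα' hle hc
      obtain ⟨D, hD⟩ : ∃ D, D = B ⊓ normalizerIn Y Q' := ⟨_, rfl⟩
      have hQD : Q' ≤ D := hD ▸ le_inf hle (le_normalizerIn ((isConj_le hc).1.trans hTY))
      by_cases hDT : Q' = D ⊓ T
      · have hBT : B ⊓ T = Q' := by
          refine le_antisymm ?_ (le_inf hle (isConj_le hc).1)
          by_contra hne
          have hlt' : Q' < B ⊓ T :=
            lt_of_le_of_ne (le_inf hle (isConj_le hc).1) fun h => hne h.ge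
          have hgrow := lt_inf_normalizer c.pS hlt' (inf_le_right.trans c.tS)
          have hsub : B ⊓ T ⊓ Subgroup.normalizer (Q' : Set Ω) ≤ D ⊓ T := fun z hz =>
            ⟨hD ▸ ⟨hz.1.1, hTY hz.1.2, hz.2⟩, hz.1.2⟩
          rw [← hDT] at hsub
          exact hgrow.not_ge hsub
        have hBN : B ≤ normalizerIn Y Q' := fun x hx => ⟨hα.1 hx, mem_normalizer_of_conj_mem (S := S)
          ((isConj_le hc).1.trans c.tS) fun z hz => hBT ▸ ⟨B.mul_mem (B.mul_mem hx (hle hz)) (B.inv_mem hx),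
            stronglyClosed_conj_mem hT (hY (hα.1 hx)) ((isConj_le hc).1 hz)⟩⟩
        have hαQ : ∀ z ∈ Q', av α z ∈ Q' := fun z hz => hBT ▸ ⟨av_mem α (hle hz),
          stronglyClosed_map hT hα'.1 (hle hz) ((isConj_le hc).1 hz)⟩
        have hfix : im Q' (av α) = Q' := by
          haveI := finite_of_le ((isConj_le hc).1.trans c.tS)
          exact Subgroup.eq_of_le_of_card_ge (im_le_iff.2 hαQ) (hα'.1.restrict hle).card_im.ge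
        obtain ⟨hk, hkm, hki, -⟩ := hH Q' hc
        obtain ⟨w, hw, hwe⟩ := L.ind_hk (c.kmap_restrict hk hBN) (fun x hx => hkm x (hBN hx)) hle
          (isConj_le hc).1 hki hα hαQ
        exact ⟨w, hw, fun x hx => by rw [hfix]; exact hwe x hx.1⟩
      · have hlt' : Q' < D ⊓ T := lt_of_le_of_ne (le_inf hQD (isConj_le hc).1) hDT
        obtain ⟨w, hw, hwe⟩ := hbig D Q' _ (av α) hc hc'' (hD ▸ inf_le_right) hlt'
          (c.kmap_restrict hα' (hD ▸ inf_le_left)) rfl fun x hx => hmem hα' hle x (hD ▸ hx)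
        exact ⟨w, hw, fun x hx => hwe x (hD ▸ hx)⟩
  obtain ⟨w, hw, hwe⟩ := (key P f hf).2 Q hQP (isConj_refl hQT)
  refine ⟨w, hw, fun x hx => ?_⟩
  have h := hwe x ⟨hx, hPN hx⟩
  rw [hfQ, (hH Q (isConj_refl hQT)).2.2.2 rfl, id, id] at h
  exact h

end Cfsg.Agent.Local.FS.Balance
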