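import Cfsg.Agent.Lib.Local.FS.Balance.Residual
import Cfsg.Agent.Lib.Local.FS.NormalSubCentric
import Cfsg.Agent.Lib.Local.FS.Normal

/-!
A saturated system over `R` with given `p`-residual is the product with `R`.
-/

set_option autoImplicit false

namespace Cfsg.Agent.Local.FS.Balance

open Cfsg Cfsg.FusionSystem Cfsg.Agent.Fusion Cfsg.Agent.Local.FS

universe u

variable {Ω : Type u} [Group Ω] {S H P R : Subgroup Ω} {D D' : FusionSystem R} {g : Ω → Ω} {p : ℕ}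

theorem conj_mem_inf (hH : D.StronglyClosed H) (hP : P ≤ R) {y x : Ω} (hy : y ∈ P) (hx : x ∈ P ⊓ H) :
    y * x * y⁻¹ ∈ P ⊓ H :=
  ⟨P.mul_mem (P.mul_mem hy hx.1) (P.inv_mem hy), stronglyClosed_conj_mem hH (hP hy) hx.2⟩

variable [Fact p.Prime] [Finite R]

/-- An automorphism of a centric radical subgroup fixing the part in `H` is inner. -/
theorem fix_inner (hR : IsPGroup p R) (hH : D.StronglyClosed H) (hhyp : D.hyperfocalSubgroup p ≤ H)
    (hP : P ≤ R) (hrad : D.IsRadical p P) {γ : MulAut P} (hγ : γ ∈ D.autGroup P)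
    (hfix : ∀ x ∈ P ⊓ H, av γ x = x) : γ ∈ Inn P := by
  haveI := mulAut_finite_of_le hP
  haveI := finite_of_le hP
  let K : Subgroup ↥(D.autGroup P) :=
    { carrier := {a | ∀ x ∈ P ⊓ H, av (a : MulAut P) x = x}
      one_mem' := fun x hx => av_one hx.1
      mul_mem' := fun {a b} ha hb x hx => by rw [Subgroup.coe_mul, av_mul _ _ hx.1, hb x hx, ha x hx]
      inv_mem' := fun {a} ha x hx => by
        conv_lhs => rw [Subgroup.coe_inv, ← ha x hx]
        exact av_inv_av (a : MulAut P) hx.1 }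
  haveI : K.Normal := ⟨fun a ha b x hx => by
    have hbi := map_of_mem_autGroup hP ((D.autGroup P).inv_mem b.2)
    rw [Subgroup.coe_mul, Subgroup.coe_mul, Subgroup.coe_inv, av_mul _ _ hx.1, av_mul _ _ (av_mem _ hx.1),
      ha _ ⟨av_mem _ hx.1, stronglyClosed_map hH hbi hx.1 hx.2⟩, av_av_inv _ hx.1]⟩
  have hK : IsPGroup p K := by
    intro a
    obtain ⟨n, r, hr, hord⟩ := Nat.exists_eq_pow_mul_and_not_dvd (orderOf_pos (a : ↥(D.autGroup P))).ne' p
      (Fact.out : p.Prime).ne_one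
    obtain ⟨b, hb⟩ : ∃ b, b = (a : ↥(D.autGroup P)) ^ p ^ n := ⟨_, rfl⟩
    have hbK : b ∈ K := hb ▸ K.pow_mem a.2 _
    have hbr : b ^ r = 1 := by rw [hb, ← pow_mul, ← hord, pow_orderOf_eq_one]
    have hbo : (orderOf b).Coprime p := Nat.Coprime.coprime_dvd_left (orderOf_dvd_of_pow_eq_one hbr)
      ((Nat.Prime.coprime_iff_not_dvd Fact.out).2 hr).symm
    obtain ⟨b', hb', hbe⟩ := stab_mem_pCore hR hH hP b.2 (fun x hx hxH => hbK x ⟨hx, hxH⟩)
      fun x hx => hhyp (inv_mul_mem_hyperfocal hP (Subgroup.subset_closure hbo) hx)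
    obtain rfl : b' = b := Subtype.ext hbe
    obtain ⟨k, hk⟩ := (isPGroup_pCore p ↥(D.autGroup P)) ⟨b', hb'⟩
    have hk' : b' ^ p ^ k = 1 := by simpa using congrArg Subtype.val hk
    refine ⟨n, Subtype.ext ?_⟩
    rw [SubmonoidClass.coe_pow, ← hb, OneMemClass.coe_one]
    obtain ⟨m, hm⟩ := exists_pow_eq_self_of_coprime (x := b') (n := p ^ k) (Nat.Coprime.pow_left k hbo.symm)
    rw [← hm, hk', one_pow]
  rw [← hrad.2]
  exact ⟨⟨γ, hγ⟩, le_pCore hK (show (⟨γ, hγ⟩ : ↥(D.autGroup P)) ∈ K from hfix), rfl⟩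

/-- If the automorphisms fixing the part in `H` are inner, so is the centralizer of that part inside. -/
theorem cent_le (hR : IsPGroup p R) (hH : D.StronglyClosed H) (hc : D.IsCentric P)
    (hK : ∀ g, Map D P g → (∀ x ∈ P, g x ∈ P) → (∀ x ∈ P ⊓ H, g x = x) →
      ∃ a ∈ P, ∀ x ∈ P, g x = a * x * a⁻¹) : centralizerIn R (P ⊓ H) ≤ P := by
  have hP := hc.1
  obtain ⟨C, hC⟩ : ∃ C, C = centralizerIn R (P ⊓ H) := ⟨_, rfl⟩
  rw [← hC]
  have hCR : C ≤ R := hC ▸ inf_le_left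
  have hPn : P ≤ Subgroup.normalizer (C : Set Ω) := fun y hy =>
    mem_normalizer_of_conj_mem (S := R) hCR fun z hz => by
      rw [hC] at hz ⊢
      refine mem_centralizerIn.2 ⟨R.mul_mem (R.mul_mem (hP hy) hz.1) (R.inv_mem (hP hy)), fun x hx => ?_⟩
      have h1 := (mem_centralizerIn.1 hz).2 _ (conj_mem_inf hH hP (P.inv_mem hy) hx)
      calc x * (y * z * y⁻¹) = y * (y⁻¹ * x * y⁻¹⁻¹ * z) * y⁻¹ := by group
        _ = y * (z * (y⁻¹ * x * y⁻¹⁻¹)) * y⁻¹ := by rw [h1]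
        _ = _ := by group
  by_contra hle
  have hlt : P < P ⊔ C := lt_of_le_not_ge le_sup_left fun h => hle (le_sup_right.trans h)
  obtain ⟨x, ⟨hx, hxn⟩, hxP⟩ := SetLike.exists_of_lt (lt_inf_normalizer hR hlt (sup_le hP hCR))
  obtain ⟨a, ha, b, hb, rfl⟩ := mem_sup_of_normalized hPn le_rfl hx
  have hbn := Subgroup.mul_mem _ (Subgroup.inv_mem _ (Subgroup.le_normalizer ha)) hxn
  rw [inv_mul_cancel_left] at hbn
  obtain ⟨a', ha', he⟩ := hK _ (map_conjBy hP (hCR hb)) (fun z hz => conj_mem_of_normalizer hbn hz)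
    fun z hz => by
      rw [hC] at hb
      rw [← (mem_centralizerIn.1 hb).2 z hz, mul_inv_cancel_right]
  refine hxP (P.mul_mem ha ?_)
  have h1 : a'⁻¹ * b ∈ centralizerIn R P := mem_centralizerIn.2
    ⟨R.mul_mem (R.inv_mem (hP ha')) (hCR hb), fun z hz => by
      calc z * (a'⁻¹ * b) = a'⁻¹ * (a' * z * a'⁻¹) * b := by group
        _ = a'⁻¹ * (b * z * b⁻¹) * b := by rw [he z hz]
        _ = _ := by group⟩
  simpa using P.mul_mem ha' (hc.2 P (isConj_refl hP) h1)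

/-- In a pair `D' ≤ D`, an automorphism of a generator of `D` with part in `H` in `D'` is in `D'`. -/
theorem map_of_restrict (hR : IsPGroup p R) (hD : D.IsSaturated p) (hD' : D'.IsSaturated p)
    (hsub : D'.IsSubsystemOf D) (hH : D.StronglyClosed H) (hhyp : D.hyperfocalSubgroup p ≤ H)
    (hgen : P = R ∨ D.IsEssential p P) {δ : MulAut P} (hδ : δ ∈ D.autGroup P)
    (hδH : Map D' (P ⊓ H) (av δ)) : Map D' P (av δ) := by
  obtain ⟨hc, hrad⟩ := gen_centric_radical hR hD hgen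
  have hP := hc.1
  haveI := finite_of_le hP
  have hPQ : P ⊓ H ≤ P := inf_le_left
  haveI : Finite ↥(P ⊓ H) := finite_of_le hPQ
  have hQR : P ⊓ H ≤ R := hPQ.trans hP
  have hK : ∀ g, Map D P g → (∀ x ∈ P, g x ∈ P) → (∀ x ∈ P ⊓ H, g x = x) →
      ∃ a ∈ P, ∀ x ∈ P, g x = a * x * a⁻¹ := by
    intro g hg hgP hgfix
    obtain ⟨γ, hγ, hγe⟩ := exists_aut hg (Subgroup.eq_of_le_of_card_ge (im_le_iff.2 hgP) hg.card_im.ge)
    obtain ⟨a, ha, hae⟩ := mem_Inn.1 (fix_inner hR hH hhyp hP hrad hγ fun x hx => by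
      rw [hγe x hx.1, hgfix x hx])
    exact ⟨a, ha, fun x hx => by rw [← hγe x hx, hae x hx]⟩
  obtain ⟨Q', hQQ', hQ'⟩ := exists_fullyNormalized (F := D') hQR
  obtain ⟨φ, hφ, -, hφQ⟩ := exists_map_normalizer_fn hR hD' hQ' hQQ'
  have hPN : P ≤ normalizerIn R (P ⊓ H) := fun y hy =>
    ⟨hP hy, mem_normalizer_of_conj_mem (S := R) hQR fun z hz => conj_mem_inf hH hP hy hz⟩
  have hφP := hφ.restrict hPN
  have hφPD : Map D P φ := hφP.of_sub hsub
  have hδm := map_of_mem_autGroup hP hδ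
  have hδQ : ∀ x ∈ P ⊓ H, av δ x ∈ P ⊓ H := fun x hx => ⟨av_mem δ hx.1, stronglyClosed_map hH hδm hx.1 hx.2⟩
  have hf : Map D' (P ⊓ H) (φ ∘ av δ) := hδH.comp hφ fun x hx => le_normalizerIn hQR (hδQ x hx)
  have hfi : im (P ⊓ H) (φ ∘ av δ) = Q' := by
    rw [hδH.im_comp, Subgroup.eq_of_le_of_card_ge (im_le_iff.2 hδQ) hδH.card_im.ge, hφQ]
  obtain ⟨g, hg, hgf⟩ := (receptive_iff.1 (receptive_of_fc hR hD' (fc_fa_of_fn hR hD' hQ').1)).2 _ _ hf hfi
  have hgP := hg.restrict (P := Nf R (P ⊓ H) (φ ∘ av δ)) (R := P) fun y hy => mem_Nf.2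
    ⟨hP hy, (hPN hy).2, φ (av δ y), hφP.mem (av_mem δ hy), fun x hx => by
      show φ (av δ (y * x * y⁻¹)) = _
      rw [hδm.map_conj hy hx.1, hφP.map_conj (av_mem δ hy) (av_mem δ hx.1)]
      rfl⟩
  obtain ⟨P', hP'⟩ : ∃ A, A = im P φ := ⟨_, rfl⟩
  obtain ⟨k, hk, hkφ, hφk, hki⟩ := hφP.exists_inv
  have hP'H : P' ⊓ H = Q' := by
    refine le_antisymm (fun z hz => ?_) (hφQ ▸ le_inf (hP' ▸ im_mono hPQ)
      (im_le_iff.2 fun x hx => stronglyClosed_map hH hφPD hx.1 hx.2))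
    obtain ⟨hzP, hzH⟩ := Subgroup.mem_inf.1 hz
    rw [hP'] at hzP
    obtain ⟨x, hx, rfl⟩ := hφP.mem_im.1 hzP
    refine hφQ.le (mem_im_of_mem ⟨hx, ?_⟩)
    have h1 := stronglyClosed_map hH (hk.of_sub hsub) hzP hzH
    rwa [hkφ x hx] at h1
  have hc' : D.IsCentric P' := hP' ▸
    ⟨hφPD.im_le, fun Q hQ => hc.2 Q (isConj_trans (isConj_iff.2 ⟨φ, hφPD, rfl⟩) hQ)⟩
  have hC : centralizerIn R Q' ≤ P' := hP'H ▸ cent_le hR hH hc' fun u hu huP hufix => by
    rw [hP'] at hu huP hufix ⊢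
    have hm : ∀ x ∈ P, φ x ∈ im P φ := fun x hx => mem_im_of_mem hx
    obtain ⟨a, ha, hae⟩ := hK (k ∘ u ∘ φ) ((hφPD.comp hu hm).comp (hk.of_sub hsub)
      fun x hx => huP _ (hm x hx)) (fun x hx => (hφk _ (huP _ (hm x hx))).2) fun x hx => by
      show k (u (φ x)) = x
      rw [hufix _ ⟨hm x hx.1, stronglyClosed_map hH hφPD hx.1 hx.2⟩, hkφ x hx.1]
    refine ⟨φ a, hm a ha, fun z hz => ?_⟩
    obtain ⟨x, hx, rfl⟩ := hφP.mem_im.1 hz
    rw [← (hφk _ (huP _ (hm x hx))).1, show k (u (φ x)) = a * x * a⁻¹ from hae x hx, hφP.map_conj ha hx]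
  have hgP' : ∀ y ∈ P, g y ∈ im P φ := fun y hy => by
    rw [← hP']
    have h1 : φ (av δ y) ∈ P' := hP' ▸ mem_im_of_mem (av_mem δ hy)
    have h2 : (φ (av δ y))⁻¹ * g y ∈ centralizerIn R Q' := by
      refine mem_centralizerIn.2 ⟨R.mul_mem (R.inv_mem (hφP.mem (av_mem δ hy))) (hgP.mem hy), fun z hz => ?_⟩
      rw [← hfi] at hz
      obtain ⟨x, hx, rfl⟩ := hf.mem_im.1 hz
      have e1 := hgP.map_conj hy hx.1
      rw [hgf x hx, hgf _ (conj_mem_inf hH hP hy hx)] at e1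
      have e2 : (φ ∘ av δ) (y * x * y⁻¹) = φ (av δ y) * (φ ∘ av δ) x * (φ (av δ y))⁻¹ := by
        show φ (av δ (y * x * y⁻¹)) = _
        rw [hδm.map_conj hy hx.1, hφP.map_conj (av_mem δ hy) (av_mem δ hx.1)]
        rfl
      rw [e2] at e1
      generalize (φ ∘ av δ) x = w at e1 ⊢
      calc w * ((φ (av δ y))⁻¹ * g y) = (φ (av δ y))⁻¹ * (φ (av δ y) * w * (φ (av δ y))⁻¹) * g y := by group
        _ = (φ (av δ y))⁻¹ * (g y * w * (g y)⁻¹) * g y := by rw [e1]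
        _ = _ := by group
    simpa using P'.mul_mem h1 (hC h2)
  have hβ : Map D' P (k ∘ g) := hgP.comp hk hgP'
  obtain ⟨β, hβm, hβe⟩ := exists_aut hβ (Subgroup.eq_of_le_of_card_ge
    (im_le_iff.2 fun y hy => (hφk _ (hgP' y hy)).2) hβ.card_im.ge)
  have hβQ : ∀ x ∈ P ⊓ H, av β x = av δ x := fun x hx => by
    rw [hβe x hx.1]
    show k (g x) = _
    rw [hgf x hx]
    exact hkφ _ (av_mem δ hx.1)
  have hβD : β⁻¹ ∈ D.autGroup P := (D.autGroup P).inv_mem (autGroup_le_of_sub hsub hP hβm)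
  obtain ⟨a, ha, hae⟩ := hK (av (δ * β⁻¹)) (map_of_mem_autGroup hP ((D.autGroup P).mul_mem hδ hβD))
    (fun x hx => av_mem _ hx) fun x hx => by
      have h1 : av β⁻¹ x ∈ P ⊓ H :=
        ⟨av_mem _ hx.1, stronglyClosed_map hH (map_of_mem_autGroup hP hβD) hx.1 hx.2⟩
      rw [av_mul _ _ hx.1, ← hβQ _ h1, av_av_inv _ hx.1]
  refine (((map_of_mem_autGroup hP hβm).comp (map_conjBy hP (hP ha)) fun x hx => av_mem β hx).congr
    fun x hx => ?_)
  show a * av β x * a⁻¹ = av δ x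
  rw [← hae _ (av_mem β hx), av_mul _ _ (av_mem β hx), av_inv_av β hx]

/-- Residuals over equal bases have the same maps. -/
theorem hom_eq_of_pPower {H₁ H₂ : Subgroup Ω} {D₁ : FusionSystem H₁} {D₂ : FusionSystem H₂}
    (hR : IsPGroup p R) (h : H₁ = H₂) (h₁ : D₁.IsSaturated p) (h₁' : D₁.HasPPowerIndexIn D p)
    (h₂ : D₂.IsSaturated p) (h₂' : D₂.HasPPowerIndexIn D p) (P : Subgroup Ω) : D₁.Hom P = D₂.Hom P := by
  subst h
  rw [pPower_unique hR h₁ h₁' h₂ h₂']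

/-- A residual with the maps of a residual. -/
theorem pPower_of_hom_eq {H₁ H₂ : Subgroup Ω} {D₁ : FusionSystem H₁} {D₂ : FusionSystem H₂}
    (h : H₁ ≤ H₂) (h₁ : D₁.HasPPowerIndexIn D p) (he : ∀ P : Subgroup Ω, D₁.Hom P = D₂.Hom P) :
    D₂.HasPPowerIndexIn D p := by
  refine ⟨fun P φ hφ => h₁.1 P ((he P).ge hφ), h₁.2.1.trans h, fun P hP α hα => ?_⟩
  haveI := finite_of_le (le_of_sub h₁.1)
  have hP₁ : P ≤ H₁ := by
    obtain ⟨ψ, hψ, -⟩ := map_id (F := D₂) hP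
    exact (D₁.le_of_mem ((he P).ge hψ)).1
  obtain ⟨φ, hφ, hφe⟩ := map_of_mem_autGroup hP₁ (h₁.2.2 P hP₁ hα)
  exact mem_autGroup_of_map ⟨φ, (he P).le hφ, hφe⟩

variable [Finite S] {F : FusionSystem S} {E₁ : FusionSystem H}

/-- The saturated systems over `R` with residual `E₁` are the product. -/
theorem Ctx.eq_sys (c : Ctx F E₁ p) (hRS : R ≤ S) (hD : D.IsSaturated p) (hDF : D.IsSubsystemOf F)
    (hE : E₁.HasPPowerIndexIn D p) : D = c.sys hRS := by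
  have hHR : H ≤ R := le_of_sub hE.1
  have hpR : IsPGroup p R := c.pS.to_le hRS
  have hsat := c.sys_saturated hRS hHR
  have hHD : D.StronglyClosed H := stronglyClosed_iff.2 ⟨hHR, fun P f hP hf x hx =>
    stronglyClosed_map c.tC (hf.of_sub hDF) hx (hP hx)⟩
  have hEs := c.pPower_sys hRS hHR
  have hle : ∀ P f, Map D P f → Map (c.sys hRS) P f := by
    refine alperin hpR hD (isClosedClass_map (c.sys hRS)) fun Q hQ α hα => ?_
    obtain ⟨hc, hrad⟩ := gen_centric_radical hpR hD hQ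
    obtain ⟨β, hβ, γ, hγ, rfl⟩ := exists_autS_mul_residual hpR hD (gen_fn hQ) hα
    refine map_of_mem_autGroup hc.1 (Subgroup.mul_mem _ (autInducedBy_le_autGroup hc.1 hβ) ?_)
    have hres : (pResidual p ↥(D.autGroup Q)).map (D.autGroup Q).subtype ≤ (c.sys hRS).autGroup Q := by
      rw [pResidual, MonoidHom.map_closure, Subgroup.closure_le]
      rintro _ ⟨δ, hδ, rfl⟩
      refine mem_autGroup_of_map ((c.map_sys hRS).2 (c.kmap_mono hHR le_rfl hRS le_rfl hHR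
        (c.kmap_hk hRS ⟨hc.1, ?_, autGroup_le_of_sub hDF hc.1 δ.2, by rw [Subgroup.subtype_apply, Subgroup.orderOf_coe]; exact hδ,
          pPower_restrict hE hHD hc.1 (Subgroup.subset_closure hδ),
          fun x hx => hE.2.1 (inv_mul_mem_hyperfocal hc.1 (Subgroup.subset_closure hδ) hx)⟩)))
      by_contra hn
      exact (not_radical_of_inter_not_centric hpR hD hHD hE.1 hc hn).2 hrad
    exact hres ⟨γ, hγ, rfl⟩
  have hsub : D.IsSubsystemOf (c.sys hRS) := fun P φ hφ =>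
    (hle P _ (map_of_mem hφ)).mem_hom fun x => (fn_coe φ x).symm
  refine eq_of_map_iff fun P f => ⟨hle P f, ?_⟩
  refine alperin hpR hsat (isClosedClass_map D) (fun Q hQ α hα => ?_) P f
  have hQR := (gen_fn (p := p) hQ).1
  obtain ⟨β, hβ, γ, hγ, rfl⟩ := exists_autS_mul_residual hpR hsat (gen_fn hQ) hα
  refine map_of_mem_autGroup hQR (Subgroup.mul_mem _ (autInducedBy_le_autGroup hQR hβ)
    (mem_autGroup_of_map ?_))
  exact map_of_restrict hpR hsat hD hsub (c.sys_closed hRS hHR) hEs.2.1 hQ γ.2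
    ((pPower_restrict hEs (c.sys_closed hRS hHR) hQR hγ).of_sub hE.1)

end Cfsg.Agent.Local.FS.Balance
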